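import Cfsg.Agent.Ud.A2
import Cfsg.Agent.Geom.Simple
import Cfsg.Agent.Cls.Inv2O
import Cfsg.Agent.ZD.Cor

/-! A standard symplectic subgroup centralised by a reflection of an orthogonal group: definitions. -/

set_option autoImplicit false
set_option linter.unusedSectionVars false

namespace CF.Dq

open Subgroup Equiv CF.Loc CF.LX CF.Geom QuadraticMap Module
open CF.Ud (E2)
open CF.Dbl (El)

section model
variable {F V : Type*} [Field F] [AddCommGroup V] [Module F V] (Q : QuadraticForm F V)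

open _root_.Classical in
/-- Eichler transformations -/
noncomputable def ei (u w : V) : OG Q := if h : Q u = 0 ∧ polar Q u w = 0 then eichler h.1 h.2 else 1

/-- semilinear isometries -/
structure So (θ : F ≃+* F) (ξ : Perm V) : Prop where
  add : ∀ x y, ξ (x + y) = ξ x + ξ y
  smul : ∀ c x, ξ (c • x) = θ c • ξ x
  q : ∀ x, Q (ξ x) = θ (Q x)

/-- the quadratic space -/
structure Os : Prop where
  nd : (polarBilin Q).Nondegenerate
  h6 : 6 ≤ finrank F V

/-- a singular point orthogonal to a vector of norm one -/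
structure Pr (v r : V) : Prop where
  v0 : v ≠ 0
  qv : Q v = 0
  qr : Q r = 1
  vr : polar Q v r = 0

/-- the products of two reflections of the plane spanned by `v` and `r` -/
def Zr (v r : V) : Subgroup (OG Q) := closure {g | ∃ c : F, g = ei Q v (c • r)}

/-- the Eichler transformations at `v` -/
def Qe (v : V) : Subgroup (OG Q) := closure {g | ∃ y, g = ei Q v y}

variable {Q}

/-- involutions fixing only singular vectors -/
structure AT (w : OG Q) : Prop where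
  sq : w * w = 1
  fx : ∀ x, w.1 x = x → Q x = 0

/-- the Siegel transformations of the fixed space -/
def Wt (w : OG Q) : Subgroup (OG Q) := closure {g | ∃ a b, w.1 a = a ∧ w.1 b = b ∧ g = ei Q a b}

variable {G : Type*} [Group G]

/-- `h` acts as `ξ` -/
def Act (Φ : OG Q →* G) (h : G) (ξ : Perm V) : Prop :=
  ∀ g g' : OG Q, (∀ x, g'.1 (ξ x) = ξ (g.1 x)) → h * Φ g * h⁻¹ = Φ g'

/-- images of reflections -/
def D0 (Φ : OG Q →* G) (d : G) : Prop := ∃ x, Q x ≠ 0 ∧ d = Φ (oRefl Q x)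

/-- the image of `Ω` -/
def G0 (Φ : OG Q →* G) : Subgroup G := (_root_.commutator (OG Q)).map Φ

/-- the stabiliser of the set of reflections -/
def N0 (Φ : OG Q →* G) (t : G) : Subgroup G := Φ.range ⊔ 𝐂₁(t)

/-- the same modulo the centraliser -/
def H0 (Φ : OG Q →* G) (t : G) : Subgroup G := 𝐂(G0 Φ) ⊔ N0 Φ t

/-- An orthogonal group containing all conjugates of the reflection `t` commuting with `t`. -/
structure OD (Φ : OG Q →* G) (r : V) (t : G) : Prop extends Os Q where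
  inj : Function.Injective Φ
  qr : Q r = 1
  tt : t = Φ (oRefl Q r)
  act : ∀ h ∈ 𝐂₁(t), ∃ θ ξ, So Q θ ξ ∧ Act Φ h ξ
  c2 : ∀ c ∈ 𝐂(Φ.range), E2 c → c = 1
  dc : ∀ d, IsConj t d → d ∈ 𝐂₁(t) → D0 Φ d

end model

section blocks
variable {G : Type*} [Group G]

/-- `(d, Y)` is conjugate to `(t, Z)` -/
def Blk (t : G) (Z : Subgroup G) (d : G) (Y : Subgroup G) : Prop := ∃ g, d = g * t * g⁻¹ ∧ Y = cj[g] Z

/-- blocks `t Z` of commuting conjugates -/
structure BK (t : G) (Z : Subgroup G) : Prop where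
  t2 : t * t = 1
  t1 : t ≠ 1
  ne : Z ≠ ⊥
  el : El Z
  cz : t ∈ 𝐂(Z)
  cl : ∀ d e, IsConj t d → IsConj t e → E2 (d * e) → d * e = e * d
  b1 : ∀ Y, Blk t Z t Y → Z ⊓ Y ≠ ⊥ → Y = Z
  b3 : ∀ z ∈ Z, ∃ n ∈ 𝐂(Z), n * t * n⁻¹ = t * z
  b4 : ∀ e, ∀ z ∈ Z, z ≠ 1 → IsConj t e → e * t = t * e → e * z = z * e → IsConj t (e * z) → t * e ∈ Z

/-- blocks with trivial intersections -/
structure B0 (D : Set G) (Zf : G → Subgroup G) : Prop where
  sq : ∀ d ∈ D, d * d = 1
  cj : ∀ d ∈ D, ∀ g, g * d * g⁻¹ ∈ D ∧ Zf (g * d * g⁻¹) = cj[g] (Zf d)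
  el : ∀ d ∈ D, El (Zf d)
  mul : ∀ d ∈ D, ∀ z ∈ Zf d, d * z ∈ D ∧ Zf (d * z) = Zf d
  two : ∀ d ∈ D, ∀ e ∈ D, E2 (d * e) → d * e ∈ Zf d
  ti : ∀ d ∈ D, ∀ e ∈ D, Zf d ≠ Zf e → Zf d ⊓ Zf e = ⊥

end blocks

end CF.Dq
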