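import Cfsg.Agent.Dq.A

/-! A standard symplectic subgroup in characteristic two, orthogonal case: definitions. -/

set_option autoImplicit false
set_option linter.unusedSectionVars false

namespace CF.Dq

open Subgroup Equiv CF.Loc CF.LX CF.Geom QuadraticMap Module CF.Ud

variable {F : Type} [Field F] [CharP F 2] {m : ℕ}

/-- field and dimension -/
structure Sm (F : Type) (m : ℕ) : Prop where
  ev : Even m
  h4 : 4 ≤ m
  ex : m = 4 → 2 < Nat.card F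

variable (F m) in
/-- the hyperbolic quadratic form -/
noncomputable def Q0 : QuadraticForm F (Fin m → F) :=
  ∑ i : Fin m, if i.val < m / 2 then QuadraticMap.proj (R := F) (A := F) i i.rev else 0

variable (m) in
/-- the form in two more dimensions -/
noncomputable def Qh (κ : F) : QuadraticForm F ((Fin m → F) × F × F) :=
  (Q0 F m).comp (LinearMap.fst F _ _) +
    linMulLin (LinearMap.fst F F F ∘ₗ LinearMap.snd F _ _) ((LinearMap.fst F F F + LinearMap.snd F F F) ∘ₗ LinearMap.snd F _ _) +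
    κ • linMulLin (LinearMap.snd F F F ∘ₗ LinearMap.snd F _ _) (LinearMap.snd F F F ∘ₗ LinearMap.snd F _ _)

theorem Q0_ap (x : Fin m → F) : Q0 F m x = ∑ i : Fin m, if i.val < m / 2 then x i * x i.rev else 0 := by
  rw [Q0, sum_apply]
  exact Finset.sum_congr rfl fun i _ => by split_ifs <;> simp

theorem Qh_ap (κ : F) (x : Fin m → F) (a b : F) : Qh m κ (x, a, b) = Q0 F m x + a * (a + b) + κ * (b * b) := by
  simp [Qh]

theorem Qh_pol (κ : F) (x y : Fin m → F) (a b c d : F) :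
    polar (Qh m κ) (x, a, b) (y, c, d) = polar (Q0 F m) x y + a * d + b * c := by
  simp only [polar, Prod.mk_add_mk, Qh_ap]; grind

variable (F m) in
/-- `Ω` of the hyperbolic form -/
noncomputable def O1 : Subgroup (Perm (Fin m → F)) :=
  (_root_.commutator (OG (Q0 F m))).map ((MulAction.toPermHom _ _).comp (OG (Q0 F m)).subtype)

/-- involutions of type `a` -/
def Al (g : Perm (Fin m → F)) : Prop := g ∈ WW (1 : F ≃+* F) m ∧ ∀ x, hf 1 (g x) x = 0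

/-- the commutators with `W` -/
def Cm (g : Perm (Fin m → F)) : Set (Perm (Fin m → F)) := {x | ∃ w ∈ WW (1 : F ≃+* F) m, x = w * g * w⁻¹ * g⁻¹}

/-- the embedding of the symplectic group in the orthogonal group -/
structure Io (κ : F) (ι : SU (1 : F ≃+* F) m →* OG (Qh m κ)) : Prop where
  om : ∀ g, ι g ∈ _root_.commutator (OG (Qh m κ))
  fx : ∀ g, (ι g).1 (0, 1, 0) = (0, 1, 0)
  ap : ∀ g x, ((ι g).1 (x, 0, 0)).1 = g.1 x
  uq : ∀ k ∈ _root_.commutator (OG (Qh m κ)), k.1 (0, 1, 0) = (0, 1, 0) → ∀ g, (∀ x, (k.1 (x, 0, 0)).1 = g.1 x) → k = ι g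
  sur : ∀ k : OG (Qh m κ), k.1 (0, 1, 0) = (0, 1, 0) → ∃ g, k = ι g ∨ k = ι g * oRefl (Qh m κ) (0, 1, 0)
  tv : ∀ w c, Q0 F m w + c * c = 1 → up ι (E 1 w 0 1) = oRefl (Qh m κ) (w, c, 0) * oRefl (Qh m κ) (0, 1, 0)
  o1 : ∀ g ∈ O1 F m, ∀ x a b, (up ι g).1 (x, a, b) = (g x, a, b)

variable {G : Type*} [Group G]

/-- the element moving `t` to `t z` -/
structure Xd (ρ : SU (1 : F ≃+* F) m →* G) (t x : G) (δ : F) : Prop where
  two : E2 x
  tw : x * t * x⁻¹ = t * tv ρ (bv 0) 1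
  odd : ∀ o ∈ 𝐂₁(t) ⊓ 𝐂(ρ.range), Odd (orderOf o) → x * o = o * x
  ac : ∀ w c, hf 1 w (bv 0) = 0 → c * c = 1 + Q0 F m w →
    x * tv ρ w 1 * x⁻¹ = tv ρ (w + (δ * c) • bv 0) 1 * tv ρ (bv 0) (δ * δ)

/-- the standing hypotheses -/
structure TB (ρ : SU (1 : F ≃+* F) m →* G) (t : G) : Prop extends Sm F m, Fr ρ t where
  r2 : R2 ρ t
  ind : ∀ h ∈ 𝐂₁(t), ∃ ξ ∈ Gam (1 : F ≃+* F) m, Ind ρ h ξ

/-- type D -/
structure TD (ρ : SU (1 : F ≃+* F) m →* G) (t : G) : Prop extends TB ρ t where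
  na : ¬ IsConj t (t * up ρ (E 1 (bv 0) (bv 1) 0))
  xd : ∃ x δ, Xd ρ t x δ

/-- the additional Siegel transformations -/
structure J1 (ρ : SU (1 : F ≃+* F) m →* G) (t : G) (j : (Fin m → F) → G) (κ : F) : Prop extends TD ρ t where
  zero : j 0 = 1
  sq : ∀ u, j u * j u = 1
  tw : ∀ u, Q0 F m u = 0 → j u * t * (j u)⁻¹ = t * tv ρ u 1
  ac : ∀ u w c, Q0 F m u = 0 → hf 1 w u = 0 → c * c = 1 + Q0 F m w → j u * tv ρ w 1 * (j u)⁻¹ = tv ρ (w + c • u) 1 * tv ρ u 1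
  odd : ∀ u, ∀ o ∈ 𝐂₁(t) ⊓ 𝐂(ρ.range), Odd (orderOf o) → j u * o = o * j u
  eqv : ∀ g ∈ O1 F m, ∀ u, Q0 F m u = 0 → up ρ g * j u * (up ρ g)⁻¹ = j (g u)
  mul : ∀ u ∈ Vf F m (m / 2), ∀ w ∈ Vf F m (m / 2), j u * j w = j (u + w) * up ρ (E 1 u (κ • w) 0)

/-- the orthogonal group -/
structure Ph (ρ : SU (1 : F ≃+* F) m →* G) (t : G) (j : (Fin m → F) → G) (κ : F) (ι : SU (1 : F ≃+* F) m →* OG (Qh m κ))
    (Φ : OG (Qh m κ) →* G) : Prop extends J1 ρ t j κ, Io κ ι where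
  inj : Function.Injective Φ
  tt : Φ (oRefl (Qh m κ) (0, 1, 0)) = t
  io : ∀ g, Φ (ι g) = ρ g
  nn : ∀ u, Q0 F m u = 0 → Φ (ei (Qh m κ) (u, 0, 0) (0, 0, 1)) = j u

end CF.Dq
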