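import Cfsg.Agent.Dq.P1
import Cfsg.Agent.Sq.A

/-! A standard symplectic subgroup in characteristic two, odd-dimensional overgroups: definitions. -/

set_option autoImplicit false
set_option linter.unusedSectionVars false

namespace CF.Dq

open Subgroup Equiv CF.Loc CF.LX CF.Ud
open CF.Sq (ev C0)

variable {F : Type} [Field F] [CharP F 2] {m : ℕ} {G : Type*} [Group G]

/-- dimension at least six, without `Sp₆(2)` -/
structure Sy (F : Type) (m : ℕ) : Prop extends Sm F m where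
  h6 : 6 ≤ m
  h8 : 8 ≤ m ∨ 2 < Nat.card F

/-- the element moving `t` to `t z` -/
structure Xe (ρ : SU (1 : F ≃+* F) m →* G) (t x : G) (δ : F) : Prop where
  two : E2 x
  tw : x * t * x⁻¹ = t * tv ρ (bv 0) 1
  ac : ∀ w c, hf 1 w (bv 0) = 0 → c * c = 1 + Q0 F m w →
    x * tv ρ w 1 * x⁻¹ = tv ρ (w + (δ * c) • bv 0) 1 * tv ρ (bv 0) (δ * δ)

/-- relations of the doubled elements of type `a₂` -/
structure Rb (ρ : SU (1 : F ≃+* F) m →* G) (b : (Fin m → F) → (Fin m → F) → G) (k : F) : Prop where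
  eqv : ∀ g ∈ SU (1 : F ≃+* F) m, ∀ u v, hf 1 u v = 0 → up ρ g * b u v * (up ρ g)⁻¹ = b (g u) (g v)
  self : ∀ v (c : F), b v (c • v) = tv ρ v c
  sym : ∀ u v, hf 1 u v = 0 → b v u = b u v * ev ρ u v 0
  adj : ∀ u v (c : F), hf 1 u v = 0 → b (c • u) v = b u (c • v)
  mul : ∀ v n n', hf 1 n v = 0 → hf 1 n' v = 0 → b v n * b v n' = b v (n + n') * tv ρ v (k * hf 1 n n')

/-- relations of the square roots of the transvections -/
structure Ry (ρ : SU (1 : F ≃+* F) m →* G) (b : (Fin m → F) → (Fin m → F) → G) (y : (Fin m → F) → G) (k : F) : Prop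
    extends Rb ρ b k where
  zero : y 0 = 1
  ye : ∀ g ∈ SU (1 : F ≃+* F) m, ∀ v, up ρ g * y v * (up ρ g)⁻¹ = y (g v)
  sq : ∀ v, y v * y v = tv ρ v 1
  pol : ∀ u w, hf 1 u w = 0 → y (u + w) = b u w * y u * y w
  cb : ∀ v u w, hf 1 u v = 0 → hf 1 w v = 0 → hf 1 u w = 0 → y v * b u w = b u w * y v

/-- the clean situation with doubled elements of type `a₂` -/
structure CB (ρ : SU (1 : F ≃+* F) m →* G) (t : G) (b : (Fin m → F) → (Fin m → F) → G) (k : F) : Prop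
    extends C0 ρ t, Rb ρ b k where
  ind : ∀ h ∈ 𝐂₁(t), ∃ ξ ∈ Gam (1 : F ≃+* F) m, Ind ρ h ξ
  tw : ∀ u v, hf 1 u v = 0 → b u v * t * (b u v)⁻¹ = t * ev ρ u v 0

/-- an equivariant family moving `t` by transvections -/
structure Y0 (ρ : SU (1 : F ≃+* F) m →* G) (t : G) (y : (Fin m → F) → G) : Prop where
  zero : y 0 = 1
  ye : ∀ g ∈ SU (1 : F ≃+* F) m, ∀ v, up ρ g * y v * (up ρ g)⁻¹ = y (g v)
  tw : ∀ v, y v * t * (y v)⁻¹ = t * tv ρ v 1

/-- the action of the family on the doubled elements -/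
def Ka (ρ : SU (1 : F ≃+* F) m →* G) (b : (Fin m → F) → (Fin m → F) → G) (y : (Fin m → F) → G) (a : F) : Prop :=
  ∀ v u w, v ≠ 0 → hf 1 u v = 0 → hf 1 w v = 0 → hf 1 u w = 0 → y v * b u w * (y v)⁻¹ = b u w * ev ρ u (a • w) 0

/-- hyperbolic pairs orthogonal to `v` -/
def Ad (v w n : Fin m → F) : Prop := hf 1 w v = 0 ∧ hf 1 n v = 0 ∧ hf 1 n w = 1

/-- the remaining generator as a word -/
noncomputable def zz (ρ : SU (1 : F ≃+* F) m →* G) (b : (Fin m → F) → (Fin m → F) → G) (y : (Fin m → F) → G) (k : F)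
    (v w n : Fin m → F) : G := b v n * (y w * b v n * (y w)⁻¹) * ev ρ v (k • w) 0 * b v w

open _root_.Classical in
/-- the remaining generator -/
noncomputable def zv (ρ : SU (1 : F ≃+* F) m →* G) (b : (Fin m → F) → (Fin m → F) → G) (y : (Fin m → F) → G) (k : F)
    (v : Fin m → F) : G :=
  if h : ∃ p : (Fin m → F) × (Fin m → F), Ad v p.1 p.2 then zz ρ b y k v h.choose.1 h.choose.2 else 1

/-- the doubled group `Q v` in even dimension -/
def JB (ρ : SU (1 : F ≃+* F) m →* G) (b : (Fin m → F) → (Fin m → F) → G) (v : Fin m → F) : Subgroup G :=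
  closure {p | (∃ g ∈ Q (1 : F ≃+* F) v, p = up ρ g) ∨ ∃ n, hf 1 n v = 0 ∧ p = b v n}

/-- the doubled group `Q v` in odd dimension -/
def JC (ρ : SU (1 : F ≃+* F) m →* G) (b : (Fin m → F) → (Fin m → F) → G) (y : (Fin m → F) → G) (k : F)
    (v : Fin m → F) : Subgroup G :=
  JB ρ b v ⊔ closure {p | (∃ c : F, p = y (c • v)) ∨ ∃ c : F, p = zv ρ b y k (c • v)}

/-- the linear model in odd dimension -/
structure Mc {A : Type} [CommRing A] [CharP A 2] {m' : ℕ} (σ : A ≃+* A) (f : F →+* A) (k : F) (ω : A)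
    (ι : (Fin m → F) → Fin m' → A) (r : Fin m' → A) (e : SU (1 : F ≃+* F) m →* Perm (Fin m' → A)) : Prop where
  iv : Iv σ
  sf : ∀ a, σ (f a) = f a
  so : σ ω = ω + 1
  oo : ω * ω = ω + f k
  oi : ∀ a c, f a + ω * f c = 0 → a = 0 ∧ c = 0
  sa : ∀ z, ∃ a c, z = f a + ω * f c
  ia : ∀ x y, ι (x + y) = ι x + ι y
  is : ∀ c x, ι (c • x) = f c • ι x
  ih : ∀ x y, hf σ (ι x) (ι y) = f (hf 1 x y)
  rr : hf σ r r = 1
  ri : ∀ x, hf σ r (ι x) = 0
  sp : ∀ x, ∃ (x₀ x₁ : Fin m → F) (z : A), x = ι x₀ + ω • ι x₁ + z • r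
  es : ∀ g, Sem σ 1 (e g)
  ei : ∀ g x, e g (ι x) = ι (g.1 x)
  er : ∀ g, e g r = r
  ci : ∀ x, CF.Sq.cw σ (ι x) = ι x
  cr : CF.Sq.cw σ r = r
  i0 : ι (bv 0) = bv 0
  rb : ∀ i : Fin m', i.rev ≠ i → ∃ v, ι v = bv i.val

end CF.Dq
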