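import Cfsg.Agent.Dq.P1
import Cfsg.Agent.Chev.FF

/-! The centraliser of the involution centralising the standard symplectic subgroup. -/

set_option autoImplicit false
set_option linter.unusedSectionVars false
set_option linter.unusedVariables false

namespace CF.Dq

open Subgroup Equiv CF.Loc CF.LX CF.Geom QuadraticMap Module CF.Ud
open CF.Dbl (El)
open scoped commutatorElement

variable {F : Type} [Field F] [Fintype F] [CharP F 2] {m : ℕ} {θ θ' : F ≃+* F} {a b c κ δ : F}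
  {g ξ ξ' α w : Perm (Fin m → F)} {u v x y n u' v' p : Fin m → F} {A H : Subgroup (Perm (Fin m → F))}
  {T : Submodule F (Fin m → F)} {G : Type*} [Group G] [Finite G] {ρ : SU (1 : F ≃+* F) m →* G} {t d h h' : G} {L B : Subgroup G}

namespace T1

theorem i_mul (l : Sem 1 θ ξ') (i : Ind ρ h ξ) (j : Ind ρ h' ξ') : Ind ρ (h * h') (ξ * ξ') := fun g k => by
  have := i _ (l.su k)
  rw [← j g k] at this
  simpa only [_root_.mul_inv_rev, mul_assoc] using this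

theorem i_inv (l : Sem 1 θ ξ) (i : Ind ρ h ξ) : Ind ρ h⁻¹ ξ⁻¹ := fun g k => by
  have := i _ (l.inv.su k)
  simp only [inv_inv, mul_assoc, mul_inv_cancel, mul_one, mul_inv_cancel_left] at this ⊢
  rw [← this]; group

theorem i_up (k : g ∈ SU 1 m) : Ind ρ (up ρ g) g := fun _ l => (up_cj k l).symm

theorem i_one : Ind ρ h 1 ↔ h ∈ 𝐂(ρ.range) := ⟨fun i x j => by
  obtain ⟨g, l, rfl⟩ := mem_range_up.1 j
  exact (mul_inv_eq_iff_eq_mul.1 (by simpa using i g l)).symm,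
  fun k g _ => by simpa using mul_inv_eq_iff_eq_mul.2 (k _ (up_range g)).symm⟩

theorem i_nor (l : Sem 1 θ ξ) (i : Ind ρ h ξ) : h ∈ 𝐍(ρ.range) := mem_normalizer_of_conj_mem fun x j => by
  obtain ⟨g, k, rfl⟩ := mem_range_up.1 j
  rw [i g k]; exact up_range _

theorem hf1 (s : Sm F m) : hf 1 (bv 0 : Fin m → F) (bv (m - 1)) = (1 : F) := by
  have := hf_bv (σ := (1 : F ≃+* F)) (bv 0 : Fin m → F) ⟨0, by have := s.h4; omega⟩
  simpa [bv] using this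

theorem th_eq (s : Sm F m) (l : Sem 1 θ ξ) (l' : Sem 1 θ' ξ) : θ = θ' := RingEquiv.ext fun c => by
  rw [← mul_one c, ← hf1 s, ← hf_smul_l, ← l.form, ← l'.form]

theorem card2 {P X : Type*} [Group P] [Finite P] [Group X] (f : P →* X) (d : P → Prop) (k : ∀ c, f c = 1 → c = 1 ∨ d c)
    (e : ∀ a b, d a → d b → a = b) : Nat.card P ≤ 2 * Nat.card f.range := by
  classical
  rw [← f.ker.card_mul_index, index_ker]
  refine Nat.mul_le_mul_right _ ((Nat.card_le_card_of_injective (β := Bool) (fun c : f.ker => decide (d c)) fun a b i => ?_).trans (by simp))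
  have i : d a ↔ d b := by simpa using i
  by_cases n : d a
  exacts [Subtype.ext (e _ _ n (i.1 n)), Subtype.ext (((k _ a.2).resolve_right n).trans ((k _ b.2).resolve_right (mt i.2 n)).symm)]

end T1

open T1

namespace TB
variable (k : TB ρ t)
include k

theorem inj : Function.Injective ρ := (injective_iff_map_eq_one ρ).2 fun g e => by
  obtain ⟨c, i⟩ := k.ker g g.2 ((up_coe g).trans e)
  have := (su_sem g.2).form1 (bv 0) (bv (m - 1))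
  rw [i, i] at this
  simp only [hf_smul_l, hf_smul_r, hf1 k.toSm] at this
  obtain rfl : c = 1 := by change c * (c * 1) = 1 at this; grind
  exact Subtype.ext (Equiv.ext fun x => by simp [i])

theorem up_inj (a : g ∈ SU 1 m) (b : w ∈ SU 1 m) (e : up ρ g = up ρ w) : g = w := by
  rw [up_eq a, up_eq b] at e; exact congrArg Subtype.val (k.inj e)

theorem i_cm (s : Sem 1 θ ξ) (i : Ind ρ h ξ) (a : g ∈ SU 1 m) (e : h * up ρ g = up ρ g * h) : ξ * g = g * ξ :=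
  mul_inv_eq_iff_eq_mul.1 (k.up_inj (s.su a) a (by rw [← i g a, e, mul_inv_cancel_right]))

theorem i_cen (s : Sem 1 θ ξ) (i : Ind ρ h ξ) (e : h ∈ 𝐂(ρ.range)) : ξ = 1 :=
  k.toSm.gam_eq ⟨θ, s⟩ fun _ _ => k.i_cm s i (tv_SU _ _) (e _ (up_range _)).symm

theorem i_eq (s : Sem 1 θ ξ) (s' : Sem 1 θ' ξ') (i : Ind ρ h ξ) (i' : Ind ρ h ξ') : ξ = ξ' :=
  (inv_mul_eq_one.1 (k.i_cen (s'.inv.mul s) (i_mul s (i_inv s' i') i) (by simpa using one_mem _))).symm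

theorem cap (i : h ∈ ρ.range) (e : h ∈ 𝐂(ρ.range)) : h = 1 := by
  obtain ⟨g, l, rfl⟩ := mem_range_up.1 i
  rw [k.i_cen (su_sem l) (i_up l) e, up_one]

theorem tL : t ∉ ρ.range := fun i => k.t1 (k.cap i k.cm)

theorem Lc : ρ.range ≤ 𝐂₁(t) := fun x i => mem_c1.2 (k.cm x i)

theorem psi : ∃ (ψ : 𝐂₁(t) →* Perm (Fin m → F)) (Θ : 𝐂₁(t) →* (F ≃+* F)), (∀ h, Sem 1 (Θ h) (ψ h) ∧ Ind ρ h (ψ h)) ∧
    (∀ h, ψ h = 1 ↔ h.1 ∈ 𝐂(ρ.range)) ∧ ∀ g : SU (1 : F ≃+* F) m, ∀ i, ψ ⟨ρ g, i⟩ = g := by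
  choose ξ s i using fun h : 𝐂₁(t) => k.ind h h.2
  choose θ s using s
  have e : ∀ a b, ξ (a * b) = ξ a * ξ b := fun a b => k.i_eq (s _) ((s a).mul (s b)) (i _) (i_mul (s b) (i a) (i b))
  exact ⟨MonoidHom.mk' ξ e, MonoidHom.mk' θ fun a b => th_eq k.toSm (s _) (e a b ▸ (s a).mul (s b)), fun h => ⟨s h, i h⟩,
    fun h => ⟨fun e => i_one.1 ((show ξ h = 1 from e) ▸ i h), k.i_cen (s h) (i h)⟩,
    fun g _ => k.i_eq (s _) (su_sem g.2) (i _) (by simpa only [up_coe] using i_up (ρ := ρ) g.2)⟩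

theorem c0 (i : h ∈ 𝐂₁(t) ⊓ 𝐂(ρ.range)) : Odd (orderOf h) ∨ Odd (orderOf (h * t)) := by
  obtain ⟨j, n, o, e⟩ := Nat.exists_eq_two_pow_mul_odd (orderOf_pos h).ne'
  refine (k.r2 (h ^ n) (pow_mem i n) ⟨j, by rw [← pow_mul, mul_comm, ← e, pow_orderOf_eq_one]⟩).imp
    (fun f => o.of_dvd_nat (orderOf_dvd_of_pow_eq_one f)) fun f => o.of_dvd_nat (orderOf_dvd_of_pow_eq_one ?_)
  obtain ⟨r, rfl⟩ := o
  rw [Commute.mul_pow (mem_c1.1 i.1), f, pow_succ, pow_mul, pow_two, k.t2, one_pow, one_mul, k.t2]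

theorem quo (i : h ∈ 𝐂₁(t)) (l : ξ ∈ SU 1 m) (e : Ind ρ h ξ) : h * (up ρ ξ)⁻¹ ∈ 𝐂₁(t) ⊓ 𝐂(ρ.range) :=
  ⟨(𝐂₁(t)).mul_mem i (inv_mem (k.Lc (up_range ξ))), i_one.1 (by simpa using i_mul (su_sem l).inv e (i_inv (su_sem l) (i_up l)))⟩

theorem dec (i : h ∈ 𝐂₁(t)) (l : ξ ∈ SU 1 m) (e : Ind ρ h ξ) : ∃ o ∈ 𝐂₁(t) ⊓ 𝐂(ρ.range), Odd (orderOf o) ∧
    (h = o * up ρ ξ ∨ h = o * t * up ρ ξ) := by
  have j := k.quo i l e
  rcases k.c0 j with o | o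
  · exact ⟨_, j, o, .inl (by simp)⟩
  · exact ⟨_, mul_mem j ⟨mem_c1.2 rfl, k.cm⟩, o, .inr (by rw [mul_assoc _ t t, k.t2]; simp)⟩

theorem dec3 (i : h ∈ 𝐂₁(t)) (l : ξ ∈ SU 1 m) (e : Ind ρ h ξ) {j : ℕ} (f : h ^ 2 ^ j ∈ ρ.range) : h = up ρ ξ ∨ h = t * up ρ ξ := by
  have z := k.quo i l e
  have c : Commute h (up ρ ξ)⁻¹ := by
    have : Commute (h * (up ρ ξ)⁻¹) (up ρ ξ) := (z.2 _ (up_range ξ)).symm
    simpa using (this.mul_left (Commute.refl _)).inv_right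
  exact (k.r2 _ z ⟨j, k.cap (by rw [c.mul_pow]; exact mul_mem f (pow_mem (inv_mem (up_range ξ)) _)) (pow_mem z.2 _)⟩).imp
    mul_inv_eq_one.1 mul_inv_eq_iff_eq_mul.1

theorem dec2 (i : h ∈ 𝐂₁(t)) (l : ξ ∈ SU 1 m) (e : Ind ρ h ξ) (f : E2 h) : h = up ρ ξ ∨ h = t * up ρ ξ :=
  let ⟨j, f⟩ := f
  k.dec3 i l e (j := j) (f ▸ one_mem _)

theorem cY (l : Ti 1 T) (i : h ∈ 𝐂₁(t)) (e : ∀ v, (∀ x ∈ T, hf 1 x v = 0) → h * tv ρ v 1 = tv ρ v 1 * h) :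
    ∃ w ∈ WX 1 T, ∃ o ∈ 𝐂₁(t) ⊓ 𝐂(ρ.range), Odd (orderOf o) ∧ (h = o * up ρ w ∨ h = o * t * up ρ w) := by
  obtain ⟨ξ, ⟨θ, s⟩, f⟩ := k.ind h i
  have : ξ ∈ WX 1 T := k.toSm.cY l ⟨θ, s⟩ fun v a n => by
    obtain ⟨b, rfl⟩ := isSquare_of_two_eq_zero (CharTwo.two_eq_zero (R := F)) a
    have := k.i_cm s f (tv_SU _ _) (e (b • v) fun x j => by simp [n x j])
    rw [tv_smul iv1 (k.toSm.iso v) rfl] at this
    simpa using this
  exact ⟨ξ, this, k.dec i (k.toSm.mem_SU this.1) f⟩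

theorem der2 (i : h ∈ ⁅𝐂₁(t), 𝐂₁(t)⁆) (e : E2 h) : h ∈ ρ.range := by
  obtain ⟨ψ, Θ, a, -, b⟩ := k.psi
  have := Chev.isCyclic_ringAut (F := F)
  have : IsCyclic (F ≃+* F) := this
  let N := ρ.range.subgroupOf 𝐂₁(t)
  have : N.Normal := normal_subgroupOf_iff_le_normalizer k.Lc |>.2 fun x j => i_nor (a ⟨x, j⟩).1 (a ⟨x, j⟩).2
  let Θ' : 𝐂₁(t) ⧸ N →* (F ≃+* F) := QuotientGroup.lift N Θ fun ⟨x, j⟩ ⟨g, l⟩ => by
    subst l; exact th_eq k.toSm (b g j ▸ (a _).1) (su_sem g.2)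
  have cen : ∀ x : 𝐂₁(t) ⧸ N, E2 x → Θ' x = 1 → x ∈ center _ := fun x ⟨j, f⟩ l => by
    obtain ⟨x, rfl⟩ := QuotientGroup.mk_surjective x
    have s : Sem 1 1 (ψ x) := (show Θ x = 1 from l) ▸ (a x).1
    have u := up_range (φ := ρ) (ψ x)
    refine mem_center_iff.2 fun y => ?_
    obtain ⟨y, rfl⟩ := QuotientGroup.mk_surjective y
    rcases k.dec3 x.2 (k.toSm.mem_SU s) (a x).2 (j := j) ((QuotientGroup.eq_one_iff (N := N) (x ^ 2 ^ j)).1 f) with r | r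
    · rw [(QuotientGroup.eq_one_iff (N := N) x).2 (show x.1 ∈ ρ.range from r ▸ u)]; simp
    · have : (x : 𝐂₁(t) ⧸ N) = (⟨t, mem_c1.2 rfl⟩ : 𝐂₁(t)) := (QuotientGroup.eq (s := N).2 (show t⁻¹ * x.1 ∈ ρ.range by rwa [r, inv_mul_cancel_left])).symm
      rw [this, ← QuotientGroup.mk_mul, ← QuotientGroup.mk_mul]
      exact congrArg _ (Subtype.ext (mem_c1.1 y.2))
  rw [← map_subtype_commutator] at i
  obtain ⟨x, i, rfl⟩ := i
  have i' : (x : 𝐂₁(t) ⧸ N) ∈ _root_.commutator _ := by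
    rw [_root_.commutator_def] at i ⊢
    exact commutator_mono le_top le_top (map_commutator ⊤ ⊤ (QuotientGroup.mk' N) ▸ mem_map_of_mem _ i)
  have e' : E2 (x : 𝐂₁(t) ⧸ N) := e.imp fun j f => by
    rw [← QuotientGroup.mk_pow, show x ^ 2 ^ j = 1 from Subtype.ext f, QuotientGroup.mk_one]
  obtain ⟨P, l⟩ := (let ⟨_, e⟩ := e'; isPGroup_zpowers e : IsPGroup 2 (zpowers (x : 𝐂₁(t) ⧸ N))).exists_le_sylow
  have ab := (Θ'.comp P.1.subtype).isMulCommutative_of_isCyclic_of_ker_le_center fun y j => mem_center_iff.2 fun z =>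
    Subtype.ext (mem_center_iff.1 (cen y (isPGroup_iff_forall.1 P.2 _ y.2) j) z)
  have z := Transfer.sylow_inf_center_inf_commutator_le P ⟨⟨l (mem_zpowers _), i'⟩, cen _ e'
    ((commutator_le (H₃ := Θ'.ker)).2 (fun a _ b _ => by
      rw [MonoidHom.mem_ker, map_commutatorElement, commutatorElement_eq_one_iff_mul_comm, mul_comm']) i')⟩
  rw [commutator_eq_bot_iff_le_centralizer.2 (le_centralizer_of_isMulCommutative), mem_bot] at z
  exact (QuotientGroup.eq_one_iff (N := N) x).1 z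

theorem nder (i : IsConj t d) : d ∉ ⁅𝐂₁(d), 𝐂₁(d)⁆ := fun j => by
  obtain ⟨g, rfl⟩ := isConj_iff.1 i
  rw [← cj_centralizer_singleton, ← cj_commutator, mem_cj] at j
  exact k.tL (k.der2 (by simpa [mul_assoc] using j) ⟨1, (pow_two t).trans k.t2⟩)

theorem memA (l : H ≤ SU 1 m) : h ∈ zpowers t ⊔ im ρ H ↔ ∃ w ∈ H, h = up ρ w ∨ h = t * up ρ w := by
  refine ⟨fun i => ?_, fun ⟨w, i, e⟩ => ?_⟩
  · obtain ⟨z, a, _, b, rfl⟩ := (mem_sup_of_le_normalizer ((im_le.trans k.Lc).trans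
      (centralizer_zpowers t ▸ centralizer_le_normalizer _))).1 i
    obtain ⟨w, b', -, rfl⟩ := mem_im.1 b
    obtain ⟨n, rfl⟩ := a
    refine ⟨w, b', ?_⟩
    have : t ^ 2 = 1 := (pow_two t).trans k.t2
    obtain ⟨r, rfl | rfl⟩ := Int.even_or_odd' n <;> simp [zpow_add, zpow_mul, this]
  · have := mem_sup_right (S := zpowers t) (up_im (φ := ρ) i (l i))
    rcases e with rfl | rfl
    exacts [this, mul_mem (mem_sup_left (mem_zpowers t)) this]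

theorem elA (l : Ti 1 T) : El (zpowers t ⊔ im ρ (WX 1 T)) := fun a i => by
  obtain ⟨w, j, e⟩ := (k.memA (H := WX 1 T) fun _ i => k.toSm.mem_SU i.1).1 i
  have s := k.toSm.mem_SU j.1
  have : up ρ w * up ρ w = 1 := by rw [← up_mul s s, k.toSm.W_el l w j, up_one]
  rcases e with rfl | rfl
  · exact this
  · rw [mul_assoc, ← mul_assoc _ t, k.cm _ (up_range w), mul_assoc, this, mul_one, k.t2]

theorem cardA (l : H ≤ SU 1 m) : 2 * Nat.card H ≤ Nat.card ↥(zpowers t ⊔ im ρ H) := by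
  rw [two_mul, ← Nat.card_sum]
  refine Nat.card_le_card_of_injective (Sum.elim (fun w => ⟨_, (k.memA l).2 ⟨w.1, w.2, .inl rfl⟩⟩) fun w => ⟨_, (k.memA l).2 ⟨w.1, w.2, .inr rfl⟩⟩) ?_
  have n : ∀ a b, up ρ a ≠ t * up ρ b := fun a b e => k.tL (eq_mul_inv_of_mul_eq e.symm ▸ mul_mem (up_range a) (inv_mem (up_range b)))
  rintro (a | a) (b | b) e <;> replace e := congrArg Subtype.val e
  exacts [congrArg _ (Subtype.ext (k.up_inj (l a.2) (l b.2) e)), (n _ _ e).elim, (n _ _ e.symm).elim,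
    congrArg _ (Subtype.ext (k.up_inj (l a.2) (l b.2) (mul_left_cancel e)))]

end TB

end CF.Dq
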