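import Cfsg.Agent.Dq.M5
import Cfsg.Agent.Dq.T1a

/-! A standard symplectic subgroup in characteristic two, orthogonal case: the additional Siegel transformations. -/

set_option autoImplicit false
set_option linter.unusedSectionVars false

namespace CF.Dq

open Subgroup Equiv CF.Loc CF.LX CF.Geom QuadraticMap Module CF.Ud

variable {F : Type} [Field F] [Fintype F] [CharP F 2] {m : ℕ} {a b c κ δ γ : F}
  {g g' p p' q q' : Perm (Fin m → F)} {u v w z n : Fin m → F} {G : Type*} [Group G] [Finite G]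
  {ρ : SU (1 : F ≃+* F) m →* G} {t x o r : G} {j : (Fin m → F) → G}

namespace S1

theorem one_ap (c : F) : (1 : F ≃+* F) c = c := rfl
theorem or0 (hu : u ∈ Vf F m (m / 2)) (hv : v ∈ Vf F m (m / 2)) : hf 1 u v = 0 := hf_Vf hu hv (by omega)
theorem rt (a : F) : ∃ c : F, c * c = a := ⟨(frobeniusEquiv F 2).symm a, by
  rw [← pow_two]; exact (frobeniusEquiv F 2).apply_symm_apply a⟩
theorem cL (i : o ∈ 𝐂(ρ.range)) (g : Perm (Fin m → F)) : up ρ g * o = o * up ρ g := i _ (up_range g)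
theorem T0 (a : F) : tv ρ 0 a = 1 := by rw [tv, E_zero_v, up_one]
theorem conj_mul_conj' (a b y : G) : a * (b * y * b⁻¹) * a⁻¹ = a * b * y * (a * b)⁻¹ := by group
theorem odd1 (h : Odd (orderOf o)) (e : E2 o) : o = 1 := by
  obtain ⟨n, e⟩ := e
  exact orderOf_eq_one_iff.1 (Nat.Coprime.eq_one_of_dvd (Nat.Coprime.pow_right n h.coprime_two_right) (orderOf_dvd_of_pow_eq_one e))
theorem ind (i k : Fin m) (e : u i * w k + u k * w i ≠ 0) : LinearIndependent F ![u, w] :=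
  LinearIndependent.pair_iff.2 fun a b h => by
    have h1 := congrFun h i
    have h2 := congrFun h k
    simp only [Pi.add_apply, Pi.smul_apply, smul_eq_mul, Pi.zero_apply] at h1 h2
    constructor <;> apply mul_left_cancel₀ e <;> grind

section sm
variable (s : Sm F m)
include s

theorem Eap (v n : Fin m → F) (e : hf 1 n v = 0) (ζ : F) (y : Fin m → F) :
    E 1 v n ζ y = y + hf 1 y v • n + (hf 1 y n + ζ * hf 1 y v) • v := E_ap (s.ok e ζ) y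
theorem um (a : Sem 1 1 g) (b : Sem 1 1 g') : up ρ g * up ρ g' = up ρ (g * g') := (up_mul (s.mem_SU a) (s.mem_SU b)).symm
theorem Ec (i : g ∈ O1 F m) (v n : Fin m → F) (a : F) : up ρ g * up ρ (E 1 v n a) * (up ρ g)⁻¹ = up ρ (E 1 (g v) (g n) a) := by
  rw [← up_cj (s.O1_le i) (s.mem_SU (E_sem ..)), E_cj1 (su_sem (s.O1_le i))]
theorem Tc (i : g ∈ O1 F m) (v : Fin m → F) (a : F) : up ρ g * tv ρ v a * (up ρ g)⁻¹ = tv ρ (g v) a := by
  rw [Ec s i, (su_sem (s.O1_le i)).zero]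
theorem m0 : (bv 0 : Fin m → F) ∈ Vf F m (m / 2) := bv_mem (by have := s.h4; omega)
theorem m1 : (bv 1 : Fin m → F) ∈ Vf F m (m / 2) := bv_mem (by have := s.h4; omega)
theorem n0 : (bv 0 : Fin m → F) ≠ 0 := fun e => by simpa [bv] using congrFun e ⟨0, by have := s.h4; omega⟩
theorem i01 : LinearIndependent F ![(bv 0 : Fin m → F), bv 1] :=
  ind ⟨0, by have := s.h4; omega⟩ ⟨1, by have := s.h4; omega⟩ (by simp [bv])
theorem q0 (hu : Q0 F m u = 0) (e : hf 1 w u = 0) (c : F) : Q0 F m (w + c • u) = Q0 F m w := by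
  rw [QuadraticMap.map_add (Q0 F m), s.pol, QuadraticMap.map_smul, hu, hf_smul_r, e]; simp
end sm

/-- the conjugates of the element moving `t` -/
structure J0 (ρ : SU (1 : F ≃+* F) m →* G) (t : G) (j : (Fin m → F) → G) (δ : F) : Prop extends TD ρ t where
  junk : ∀ u, u = 0 ∨ Q0 F m u ≠ 0 → j u = 1
  two : ∀ u, E2 (j u)
  tw : ∀ u, Q0 F m u = 0 → j u * t * (j u)⁻¹ = t * tv ρ u 1
  ac : ∀ u w c, Q0 F m u = 0 → hf 1 w u = 0 → c * c = 1 + Q0 F m w →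
    j u * tv ρ w 1 * (j u)⁻¹ = tv ρ (w + (δ * c) • u) 1 * tv ρ u (δ * δ)
  odd : ∀ u, ∀ o ∈ 𝐂₁(t) ⊓ 𝐂(ρ.range), Odd (orderOf o) → j u * o = o * j u
  eqv : ∀ g ∈ O1 F m, ∀ u, Q0 F m u = 0 → up ρ g * j u * (up ρ g)⁻¹ = j (g u)

theorem cx (s : Sm F m) (h : Xd ρ t x δ) (i : g ∈ O1 F m) (e : g (bv 0) = bv 0) : x * up ρ g * x⁻¹ = up ρ g := by
  obtain ⟨β, b1, b2, b3⟩ := s.ml (s.q0_Vf (m0 s)) δ
  have y : g ∈ Y 1 (bv 0) := ⟨s.O1_le i, e⟩
  obtain ⟨_, k, rfl⟩ := s.Y_gen (H := (MonoidHom.eqLocus ((MulAut.conj x).toMonoidHom.comp (ρ.comp (inclusion inf_le_left)))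
    (ρ.comp (β.codRestrict _ b1))).map (Y 1 (bv 0)).subtype) (n0 s) (fun w e => by
      obtain ⟨c, f⟩ := rt (1 + Q0 F m w)
      have l : E 1 w 0 1 ∈ Y 1 (bv 0) := ⟨tv_SU _ _, E_fix (hf_swap iv1 e) (hf_zero_r _) _⟩
      refine ⟨⟨_, l⟩, ?_, rfl⟩
      have := h.ac w c e f
      rw [um s (E_sem ..) (E_sem ..), ← b2 w c e f, up_eq l, up_eq (b1 _), tv, up_eq l.1] at this
      exact this) y
  have := b3 _ i e
  rw [up_eq y] at this
  rw [up_eq y.1]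
  exact k.trans (congrArg ρ (Subtype.ext this))

theorem ex (k : TD ρ t) (h : Xd ρ t x δ) : ∃ j, J0 ρ t j δ ∧ j (bv 0) = x := by
  classical
  have s := k.toSm
  have tr : ∀ u : Fin m → F, u ≠ 0 ∧ Q0 F m u = 0 → ∃ g ∈ O1 F m, g (bv 0) = u := fun u hu =>
    s.O1_tr (n0 s) (s.q0_Vf (m0 s)) hu.1 hu.2
  choose! f f1 f2 using tr
  obtain ⟨j, hj⟩ : ∃ j : (Fin m → F) → G, ∀ u, j u = if u ≠ 0 ∧ Q0 F m u = 0 then up ρ (f u) * x * (up ρ (f u))⁻¹ else 1 :=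
    ⟨_, fun _ => rfl⟩
  have key : ∀ g ∈ O1 F m, j (g (bv 0)) = up ρ g * x * (up ρ g)⁻¹ := fun g i => by
    have l : g (bv 0) ≠ 0 ∧ Q0 F m (g (bv 0)) = 0 :=
      ⟨fun e => n0 s (g.injective (e.trans (su_sem (s.O1_le i)).zero.symm)), (s.O1_q i _).trans (s.q0_Vf (m0 s))⟩
    have := cx s h (mul_mem (inv_mem i) (f1 _ l)) (by simp [f2 _ l])
    rw [up_mul (inv_mem (s.O1_le i)) (s.O1_le (f1 _ l)), up_inv (s.O1_le i)] at this
    rw [hj, if_pos l]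
    calc _ = up ρ g * ((up ρ g)⁻¹ * up ρ (f (g (bv 0)))) * x * (up ρ (f (g (bv 0))))⁻¹ := by group
      _ = _ := by rw [← this]; group
  have junk : ∀ u, u = 0 ∨ Q0 F m u ≠ 0 → j u = 1 := fun u e => by rw [hj, if_neg (by tauto)]
  have cs : ∀ u, (u = 0 ∨ Q0 F m u ≠ 0) ∨ ∃ g ∈ O1 F m, g (bv 0) = u := fun u =>
    or_iff_not_imp_left.2 fun e => ⟨f u, f1 u (by tauto), f2 u (by tauto)⟩
  refine ⟨j, ⟨k, junk, fun u => ?_, fun u hu => ?_, fun u w c hu e d => ?_, fun u o i d => ?_, fun g i u hu => ?_⟩,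
    by simpa using key 1 (one_mem _)⟩ <;> rcases cs u with l | ⟨g', l, rfl⟩
  · exact ⟨0, by simp [junk u l]⟩
  · obtain ⟨n, e⟩ := h.two
    exact ⟨n, by rw [key _ l, conj_pow, e]; simp⟩
  · simp [junk 0 (.inl rfl), l.resolve_right (not_not.2 hu), T0]
  · calc _ = up ρ g' * (x * ((up ρ g')⁻¹ * (t * up ρ g')) * x⁻¹) * (up ρ g')⁻¹ := by rw [key _ l]; group
      _ = _ := by rw [← cL k.cm, inv_mul_cancel_left, h.tw, ← Tc s l, ← mul_assoc, cL k.cm]; group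
  · simp [junk 0 (.inl rfl), l.resolve_right (not_not.2 hu), T0]
  · obtain ⟨w, rfl⟩ := g'.surjective w
    have a := su_sem (s.O1_le l)
    rw [a.form1] at e
    rw [s.O1_q l] at d
    rw [← a.smul1, ← a.add, ← Tc s l, ← Tc s l, ← Tc s l, ← conj_mul_conj, ← h.ac w c e d, key _ l]
    group
  · simp [junk u l]
  · rw [key _ l, mul_assoc, ← up_inv (s.O1_le l), cL i.2, ← mul_assoc, mul_assoc _ x, h.odd o i d, ← mul_assoc, cL i.2]
    group
  · simp [junk u l, l.resolve_right (not_not.2 hu), (su_sem (s.O1_le i)).zero, junk 0 (.inl rfl)]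
  · rw [key _ l, ← Perm.mul_apply, key _ (mul_mem i l), up_mul (s.O1_le i) (s.O1_le l)]
    group

set_option quotPrecheck false in
local notation "pt" s:max a:max b:max c:max => (by
  try simp (disch := repeat' first | exact E_sem .. | apply Sem.mul1) only [mul_assoc, um s]
  repeat with_reducible refine congrArg (HMul.hMul _) ?_
  refine congrArg (up _) (Equiv.ext fun y => ?_)
  simp only [Perm.mul_apply, Perm.one_apply, Eap s, or0, a, b, c, hf_add_l, hf_add_r, hf_smul_l, hf_smul_r, hf_zero_l, hf_zero_r, one_ap,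
    mul_zero, add_zero]
  ext i
  simp only [Pi.add_apply, Pi.smul_apply, smul_eq_mul, Pi.zero_apply]
  grind)

set_option hygiene false in
local notation "𝐕" => Vf F m (m / 2)
local notation "ee" ρ:max u:max v:max => up ρ (E 1 u v 0)

namespace J0
section
variable (k : J0 ρ t j δ)
include k

theorem rT (hu : u ∈ 𝐕) (hw : w ∈ 𝐕) : j u * tv ρ w 1 * (j u)⁻¹ = tv ρ w 1 * ee ρ u (δ • w) := by
  have s := k.toSm
  rw [k.ac u w 1 (s.q0_Vf hu) (or0 hw hu) (by simp [s.q0_Vf hw])]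
  exact pt s hu hw hw
theorem rE (hu : u ∈ 𝐕) (hv : v ∈ 𝐕) (hw : w ∈ 𝐕) : j u * ee ρ v w * (j u)⁻¹ = ee ρ v w := by
  have s := k.toSm
  have e : ee ρ v w = tv ρ (v + w) 1 * (tv ρ v 1 * tv ρ w 1) := pt s hv hw hw
  rw [e, conj_mul_conj, conj_mul_conj, k.rT hu (add_mem hv hw), k.rT hu hv, k.rT hu hw]
  clear e
  exact pt s hu hv hw
theorem d1 : δ = 1 := by_contra fun n => by
  have s := k.toSm
  obtain ⟨c, e⟩ : ∃ c, (1 + δ) * c = 1 := ⟨_, mul_inv_cancel₀ (by grind)⟩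
  have hu := m0 s
  have hv := m1 s
  have hw := Submodule.smul_mem _ c hv
  refine k.na (isConj_iff.2 ⟨j (bv 0 + c • bv 1) * (j (c • bv 1) * j (bv 0)), ?_⟩)
  rw [show ∀ a b c : G, a * (b * c) * t * (a * (b * c))⁻¹ = a * (b * (c * t * c⁻¹) * b⁻¹) * a⁻¹ from fun _ _ _ => by group,
    k.tw _ (s.q0_Vf hu), conj_mul_conj (j (c • bv 1)), k.tw _ (s.q0_Vf hw), k.rT hw hu, conj_mul_conj, conj_mul_conj, conj_mul_conj,
    k.tw _ (s.q0_Vf (add_mem hu hw)), k.rT (add_mem hu hw) hu, k.rT (add_mem hu hw) hw,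
    k.rE (add_mem hu hw) hw (Submodule.smul_mem _ _ hu)]
  exact pt s hu hv hv
end

variable (k : J0 ρ t j 1)
include k

theorem a1 (hu : Q0 F m u = 0) (e : hf 1 w u = 0) (d : c * c = 1 + Q0 F m w) :
    j u * tv ρ w 1 * (j u)⁻¹ = tv ρ (w + c • u) 1 * tv ρ u 1 := by simpa using k.ac u w c hu e d
theorem sm (u : Fin m → F) (c : F) : tv ρ u (c * c) = tv ρ (c • u) 1 := by
  rw [tv, tv, tv_smul iv1 (k.toSm.iso u) rfl, mul_one, one_ap]
theorem TT (u : Fin m → F) (a : F) : tv ρ u a * tv ρ u a = 1 := by rw [um k.toSm (E_sem ..) (E_sem ..), tv_sq, up_one]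
theorem mE (hu : u ∈ 𝐕) (hv : v ∈ 𝐕) (hw : w ∈ 𝐕) : ee ρ v w * j u = j u * ee ρ v w := (conj_eq_iff.1 (k.rE hu hv hw)).symm
theorem mT (hu : u ∈ 𝐕) (hw : w ∈ 𝐕) (c : F) : tv ρ w (c * c) * j u = j u * (tv ρ w (c * c) * ee ρ u (c • w)) := by
  have s := k.toSm
  have l := Submodule.smul_mem _ c hw
  rw [← mul_inv_eq_iff_eq_mul.trans eq_comm, conj_mul_conj, k.sm, k.rT hu l, k.rE hu hu l]
  exact pt s hu hw hw
theorem fT (hu : u ∈ 𝐕) (a : F) : tv ρ u a * j u = j u * tv ρ u a := by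
  have s := k.toSm
  obtain ⟨c, rfl⟩ := rt a
  rw [k.mT hu hu]
  exact pt s hu hu hu
theorem mt (hu : u ∈ 𝐕) : t * j u = j u * (t * tv ρ u 1) := by
  rw [← mul_inv_eq_iff_eq_mul.trans eq_comm, conj_mul_conj, k.tw _ (k.toSm.q0_Vf hu), conj_eq_iff.2 (k.fT hu 1).symm, mul_assoc,
    k.TT, mul_one]
theorem inj1 (l : Sem 1 1 g) (e : up ρ g = 1) : g = 1 :=
  congrArg Subtype.val ((injective_iff_map_eq_one ρ).1 k.toTB.inj _ ((up_eq (k.toSm.mem_SU l)).symm.trans e))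
theorem one (hu : LinearIndependent F ![u, w]) (l : hf 1 u w = 0) (e : tv ρ u a * tv ρ w b * ee ρ u (c • w) = 1) : a = 0 ∧ b = 0 ∧ c = 0 := by
  have s := k.toSm
  rw [um s (E_sem ..) (E_sem ..), um s (Sem.mul1 (E_sem ..) (E_sem ..)) (E_sem ..)] at e
  exact s.w2inj hu l (k.inj1 (Sem.mul1 (Sem.mul1 (E_sem ..) (E_sem ..)) (E_sem ..)) e)

theorem sq0 : ∃ a, j (bv 0) * j (bv 0) = tv ρ (bv 0) a := by
  have s := k.toSm
  have hu := m0 s
  have q := s.q0_Vf hu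
  obtain ⟨w, i, o, l, d, e⟩ := k.toTB.cY (T := Submodule.span F {bv 0}) (h := j (bv 0) * j (bv 0))
    (fun x a y b => or0 ((Submodule.span_singleton_le_iff_mem _ _).2 hu a) ((Submodule.span_singleton_le_iff_mem _ _).2 hu b))
    (mem_c1.2 (conj_eq_iff.1 (by
      rw [← conj_mul_conj', k.tw _ q, conj_mul_conj, k.tw _ q, conj_eq_iff.2 (k.fT hu 1).symm, mul_assoc, k.TT, mul_one])))
    fun v e => conj_eq_iff.1 (by
      obtain ⟨c, f⟩ := rt (1 + Q0 F m v)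
      have e := hf_swap iv1 (e _ (Submodule.mem_span_singleton_self _))
      rw [← conj_mul_conj', k.a1 q e f, conj_mul_conj, k.a1 q (by simp [e, s.iso]) (f.trans (by rw [q0 s q e])),
        conj_eq_iff.2 (k.fT hu 1).symm, mul_assoc, k.TT, mul_one, add_assoc, vv, add_zero])
  obtain ⟨a, rfl⟩ := s.W1 i
  have two : ∀ y : G, y * y = 1 → o * y = y * o → j (bv 0) * j (bv 0) = o * y → o = 1 := fun y y2 c e => by
    obtain ⟨n, f⟩ := k.two (bv 0)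
    refine odd1 d ⟨n + 1, ?_⟩
    have : o ^ 2 = j (bv 0) ^ 4 := by
      rw [show j (bv 0) ^ 4 = (j (bv 0) * j (bv 0)) ^ 2 by simp [pow_succ, mul_assoc], e, (show Commute o y from c).mul_pow, pow_two y, y2,
        mul_one]
    rw [pow_succ', pow_mul, this, ← pow_mul, mul_comm, pow_mul, f, one_pow]
  rcases e with e | e
  · exact ⟨a, by rw [e, two _ (k.TT _ a) (cL l.2 _).symm e, one_mul]⟩
  · have c := cL k.cm (E 1 (bv 0) 0 a)
    rw [two (t * tv ρ (bv 0) a) (by rw [mul_assoc, ← mul_assoc _ t, c, mul_assoc, k.TT, mul_one, k.t2])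
      (by rw [← mul_assoc, mem_c1.1 l.1, mul_assoc, ← cL l.2, mul_assoc]) (e.trans (mul_assoc ..)), one_mul] at e
    have f := k.mt hu
    have : j (bv 0) * t = t * j (bv 0) := mul_right_cancel (b := tv ρ (bv 0) a) (by
      rw [mul_assoc, ← e, mul_assoc t, ← k.fT hu, ← mul_assoc t, ← e, mul_assoc])
    rw [← this, mul_right_inj, left_eq_mul] at f
    exact absurd (k.one (a := 1) (b := 0) (c := 0) (i01 s) (or0 hu (m1 s)) (by simp [f, tv])).1 one_ne_zero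

theorem sq1 : ∃ a, ∀ u, Q0 F m u = 0 → j u * j u = tv ρ u (a * a) := by
  have s := k.toSm
  obtain ⟨a, e⟩ := k.sq0
  obtain ⟨a, rfl⟩ := rt a
  refine ⟨a, fun u q => ?_⟩
  by_cases u0 : u = 0
  · simp [u0, T0, k.junk 0 (.inl rfl)]
  obtain ⟨g, i, rfl⟩ := s.O1_tr (n0 s) (s.q0_Vf (m0 s)) u0 q
  rw [← k.eqv g i _ (s.q0_Vf (m0 s)), ← conj_mul_conj, e, Tc s i]

theorem rel : ∃ h, ∃ a b γ : F, (∃ o ∈ 𝐂₁(t) ⊓ 𝐂(ρ.range), Odd (orderOf o) ∧ (h = o ∨ h = o * t)) ∧ ∀ u ∈ 𝐕, ∀ w ∈ 𝐕,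
    LinearIndependent F ![u, w] → j u * j w = j (u + w) * (h * (tv ρ u a * tv ρ w b * ee ρ u (γ • w))) := by
  have s := k.toSm
  obtain ⟨u, hu, eu⟩ : ∃ u ∈ 𝐕, u = bv 0 := ⟨_, m0 s, rfl⟩
  obtain ⟨w, hw, ew⟩ : ∃ u ∈ 𝐕, u = bv 1 := ⟨_, m1 s, rfl⟩
  have l : Submodule.span F {u, w} ≤ 𝐕 := Submodule.span_le.2 (Set.pair_subset hu hw)
  have qu := s.q0_Vf hu
  have qw := s.q0_Vf hw
  have q := s.q0_Vf (add_mem hu hw)
  have cj : ∀ y : G, j u * (j w * y * (j w)⁻¹) * (j u)⁻¹ = j (u + w) * y * (j (u + w))⁻¹ →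
      (j (u + w))⁻¹ * (j u * j w) * y = y * ((j (u + w))⁻¹ * (j u * j w)) := fun y e => by
    rw [conj_mul_conj', mul_inv_eq_iff_eq_mul] at e
    rw [mul_assoc, e]; group
  obtain ⟨p, i, o, h, d, e⟩ := k.toTB.cY (h := (j (u + w))⁻¹ * (j u * j w)) (fun x a y b => or0 (l a) (l b))
    (mem_c1.2 (cj _ (by
      rw [k.tw _ qw, conj_mul_conj, k.tw _ qu, k.rT hu hw, k.tw _ q]
      exact pt s hu hw hw)))
    fun v e => cj _ (by
      obtain ⟨c, f⟩ := rt (1 + Q0 F m v)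
      have e1 := e u (Submodule.subset_span (by simp))
      have e2 := e w (Submodule.subset_span (by simp))
      have e3 := hf_swap iv1 e1
      have e4 := hf_swap iv1 e2
      rw [k.a1 qw e4 f, conj_mul_conj, k.a1 qu (by simp [e3, or0 hw hu]) (f.trans (by rw [q0 s qw e4])), k.rT hu hw,
        k.a1 q (by simp [e3, e4]) f, add_assoc, ← smul_add, add_comm w]
      exact pt s hu hw hw)
  obtain ⟨a, b, c, rfl⟩ := s.W2 (or0 hu hw) i
  obtain ⟨y, e, f, f'⟩ : ∃ y, (y = o ∨ y = o * t) ∧ y ∈ 𝐂(ρ.range) ∧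
      j u * j w = j (u + w) * (y * (tv ρ u a * tv ρ w b * ee ρ u (c • w))) := by
    rw [um s (E_sem ..) (E_sem ..), um s (Sem.mul1 (E_sem ..) (E_sem ..)) (E_sem ..)]
    rcases e with e | e
    exacts [⟨_, .inl rfl, h.2, by rw [← e]; group⟩, ⟨_, .inr rfl, mul_mem h.2 k.cm, by rw [← e]; group⟩]
  refine ⟨y, a, b, c, ⟨o, h, d, e⟩, fun u' hu' w' hw' l' => ?_⟩
  obtain ⟨g, i, rfl, rfl⟩ := s.O1_tr2 hu hw hu' hw' (eu ▸ ew ▸ i01 s) l'
  have a := su_sem (s.O1_le i)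
  rw [← a.add, ← a.smul1, ← k.eqv g i _ qu, ← k.eqv g i _ qw, ← k.eqv g i _ q, ← Tc s i, ← Tc s i, ← Ec s i, ← conj_mul_conj, f',
    conj_mul_conj, conj_mul_conj _ y, conj_eq_iff.2 (cL f g), conj_mul_conj, conj_mul_conj]

theorem rel2 (q : ∀ u, Q0 F m u = 0 → j u * j u = tv ρ u (κ * κ)) : (κ = 0 ∨ κ = 1) ∧ ∃ r, ∃ a γ : F, (r = 1 ∨ r = t) ∧ ∀ u ∈ 𝐕, ∀ w ∈ 𝐕,
    LinearIndependent F ![u, w] → j u * j w = j (u + w) * (r * (tv ρ u a * tv ρ w κ * ee ρ u (γ • w))) := by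
  have s := k.toSm
  obtain ⟨h, a, b, γ, ⟨o, i, d, e⟩, f⟩ := k.rel
  obtain ⟨u, hu, w, hw, l, l'⟩ : ∃ u ∈ 𝐕, ∃ w ∈ 𝐕, LinearIndependent F ![u, w] ∧ LinearIndependent F ![u, u + w] :=
    ⟨_, m0 s, _, m1 s, i01 s, ind ⟨0, by have := s.h4; omega⟩ ⟨1, by have := s.h4; omega⟩ (by simp [bv])⟩
  have c : h ∈ 𝐂(ρ.range) := by rcases e with rfl | rfl; exacts [i.2, mul_mem i.2 k.cm]
  have hh : h * h = o * o := by
    rcases e with rfl | rfl
    exacts [rfl, by rw [mul_assoc, ← mul_assoc t, ← mem_c1.1 i.1, mul_assoc o t, k.t2, mul_one]]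
  have e1 : j u * (j u * j w) = j w * (o * o * (tv ρ u b * ee ρ u (b • w))) := by
    rw [f u hu w hw l, ← mul_assoc, f u hu _ (add_mem hu hw) l', ← add_assoc, vv, zero_add, ← hh,
      um s (E_sem ..) (E_sem ..), um s (Sem.mul1 (E_sem ..) (E_sem ..)) (E_sem ..), mul_assoc, mul_assoc, ← mul_assoc (up _ _), cL c]
    clear f q
    exact pt s hu hw hw
  rw [← mul_assoc, q u (s.q0_Vf hu), k.mT hw hu, mul_right_inj, show tv ρ u (κ * κ) * ee ρ w (κ • u) =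
    tv ρ u (κ * κ + b) * tv ρ w 0 * ee ρ u ((κ + b) • w) * (tv ρ u b * ee ρ u (b • w)) from pt s hu hw hw, mul_left_inj] at e1
  obtain rfl : o = 1 := odd1 d ⟨2, by
    rw [show o ^ 2 ^ 2 = o * o * (o * o) by simp [pow_succ, mul_assoc], ← e1, ← up_one (φ := ρ)]
    clear f q e1
    exact pt s hu hw hw⟩
  obtain ⟨e2, -, e3⟩ := k.one l (or0 hu hw) (e1.trans (mul_one 1))
  obtain rfl : b = κ := by grind
  exact ⟨by grind, h, a, γ, by simpa using e, f⟩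

theorem rel3 (q : ∀ u, j u * j u = 1) : ∃ γ : F, ∀ u ∈ 𝐕, ∀ w ∈ 𝐕, LinearIndependent F ![u, w] → j u * j w = j (u + w) * ee ρ u (γ • w) := by
  classical
  have s := k.toSm
  have h4 := s.h4
  obtain ⟨-, r, a, γ, e, f⟩ := k.rel2 (κ := 0) fun u _ => by simp [q, tv]
  obtain ⟨a, rfl⟩ := rt a
  simp only [tv, E_zero, up_one, mul_one] at f
  obtain ⟨u, hu, eu⟩ : ∃ u ∈ 𝐕, u = bv 0 := ⟨_, m0 s, rfl⟩
  obtain ⟨w, hw, ew⟩ : ∃ u ∈ 𝐕, u = bv 1 := ⟨_, m1 s, rfl⟩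
  have l : LinearIndependent F ![u, w] := eu ▸ ew ▸ i01 s
  have huw := add_mem hu hw
  have e1 : ∀ z ∈ 𝐕, j u * j w * j z = j (u + w) * (r * j z) * (tv ρ u (a * a) * ee ρ z (a • u) * ee ρ u (γ • w)) := fun z hz => by
    rw [f u hu w hw l]
    simp only [mul_assoc]
    rw [k.mE hz hu (Submodule.smul_mem _ _ hw), ← mul_assoc (up _ _), k.mT hz hu]
    simp only [mul_assoc]
  have f' := f _ huw w hw (ind ⟨0, by omega⟩ ⟨1, by omega⟩ (by simp [bv, eu, ew]))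
  have e2 := e1 w hw
  rw [add_assoc, vv, add_zero] at f'
  rw [mul_assoc, q, mul_one] at e2
  rcases e with rfl | rfl
  · rw [one_mul, f', one_mul, mul_assoc, left_eq_mul] at e2
    obtain rfl : a = 0 := mul_self_eq_zero.1 (k.one (a := 0) (b := a * a) (c := a * a + a) l (or0 hu hw) (e2 ▸ pt s hu hw hw)).2.1
    exact ⟨γ, by simpa using f⟩
  exfalso
  have tl : ∀ g y, up ρ g * (r * y) = r * (up ρ g * y) := fun g y => by rw [← mul_assoc, cL k.cm, mul_assoc]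
  have tt : ∀ y, r * (r * y) = y := fun y => by rw [← mul_assoc, k.t2, one_mul]
  rw [k.mt hw, ← mul_assoc (j _), f'] at e2
  simp only [mul_assoc, tl, tt, left_eq_mul] at e2
  obtain rfl : a = 1 := by
    have := (k.one (a := 0) (b := a * a + 1) (c := a * a + a) l (or0 hu hw) (e2 ▸ pt s hu hw hw)).2.1
    grind
  obtain ⟨z, hz, l1, l2, l3, l4⟩ : ∃ z ∈ 𝐕, LinearIndependent F ![u + w, z] ∧ LinearIndependent F ![w, z] ∧
      LinearIndependent F ![u, w + z] ∧ u + z ≠ 0 := by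
    subst eu ew
    by_cases h6 : m = 4
    · obtain ⟨c, -, hc⟩ := Finset.exists_mem_notMem_of_card_lt_card (s := {(0 : F), 1}) (t := Finset.univ)
        (Finset.card_le_two.trans_lt (by simpa using s.ex h6))
      simp only [Finset.mem_insert, Finset.mem_singleton, not_or] at hc
      refine ⟨bv 0 + c • bv 1, add_mem hu (Submodule.smul_mem _ _ hw), ind ⟨0, by omega⟩ ⟨1, by omega⟩ ?_,
        ind ⟨0, by omega⟩ ⟨1, by omega⟩ ?_, ind ⟨0, by omega⟩ ⟨1, by omega⟩ ?_, fun e => ?_⟩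
      · simp [bv]; grind
      · simp [bv]
      · simp [bv]; grind
      · simpa [bv, hc.1] using congrFun e ⟨1, by omega⟩
    · obtain ⟨n, hn⟩ := s.ev
      exact ⟨bv 2, bv_mem (by omega), ind ⟨0, by omega⟩ ⟨2, by omega⟩ (by simp [bv]), ind ⟨1, by omega⟩ ⟨2, by omega⟩ (by simp [bv]),
        ind ⟨0, by omega⟩ ⟨2, by omega⟩ (by simp [bv]), fun e => by simpa [bv] using congrFun e ⟨2, by omega⟩⟩
  have e3 := e1 z hz
  rw [k.mt hz, ← mul_assoc (j _), f _ huw z hz l1, mul_assoc, f w hw z hz l2, ← mul_assoc, f u hu _ (add_mem hw hz) l3, ← add_assoc] at e3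
  simp only [mul_assoc, tl, tt, mul_right_inj] at e3
  have e4 := k.inj1 (Sem.mul1 (E_sem u w 0) (E_sem (u + z) 0 1)) (left_eq_mul.1 (e3.trans (by clear e1 e2 e3 f f' eu ew; exact pt s hu hw hz)))
  refine l4 (hf_ext (σ := 1) fun y => ?_)
  have := congrArg (fun g : Perm _ => hf 1 (g y) y) e4
  simp only [Perm.mul_apply, Perm.one_apply, Eap s, or0, hu, hw, hz, hf_add_l, hf_add_r, hf_smul_l, hf_zero_l, hf_zero_r, mul_zero, add_zero,
    hf_comm y] at this ⊢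
  grind

theorem mul (q : ∀ u, j u * j u = 1) : ∃ γ : F, ∀ u ∈ 𝐕, ∀ w ∈ 𝐕, j u * j w = j (u + w) * ee ρ u (γ • w) := by
  have s := k.toSm
  have h4 := s.h4
  obtain ⟨γ, f⟩ := k.rel3 q
  refine ⟨γ, fun u hu w hw => ?_⟩
  have j0 := k.junk 0 (.inl rfl)
  by_cases u0 : u = 0
  · rw [u0, j0, one_mul, zero_add, E_swap iv1 (s.iso _) (s.iso _) (hf_zero_l _), E_zero, up_one, mul_one]
  by_cases l : LinearIndependent F ![u, w]
  · exact f u hu w hw l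
  obtain ⟨b, rfl⟩ : ∃ b : F, b • u = w := by simpa [LinearIndependent.pair_iff' u0] using l
  by_cases b0 : b = 0
  · simp [b0, j0]
  by_cases b1 : b = 1
  · rw [b1, one_smul, q, vv, j0, one_mul, ← up_one (φ := ρ)]
    exact pt s hu hu hu
  obtain ⟨i, e⟩ := Function.ne_iff.1 u0
  obtain ⟨i', n, e'⟩ : ∃ i' : Fin m, i' ≠ i ∧ i'.val < m / 2 := by
    by_cases z : i.val = 0
    exacts [⟨⟨1, by omega⟩, fun e => by simp [← e] at z, by simp; omega⟩, ⟨⟨0, by omega⟩, fun e => z (by simp [← e]), by simp; omega⟩]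
  obtain ⟨v, hv, v1, v0⟩ : ∃ v ∈ 𝐕, v i' = 1 ∧ v i = 0 := ⟨_, bv_mem e', by simp [bv], by simp [bv, Fin.val_inj, n.symm]⟩
  have e1 := f _ (add_mem hw hv) v hv (ind i i' (by simpa [v1, v0, b0] using e))
  have e2 := f u hu _ (add_mem hw hv) (ind i i' (by simp [v1, v0] at e ⊢; grind))
  have e3 := f _ (add_mem hu (add_mem hw hv)) v hv (ind i i' (by simp [v1, v0] at e ⊢; grind))
  rw [add_assoc, vv, add_zero] at e1
  rw [add_assoc, add_assoc, vv, add_zero] at e3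
  refine mul_right_cancel (b := ee ρ (b • u + v) (γ • v)) ?_
  rw [mul_assoc, ← e1, ← mul_assoc, e2, mul_assoc, k.mE hv hu (Submodule.smul_mem _ _ (add_mem hw hv)), ← mul_assoc, e3]
  clear f e1 e2 e3
  exact pt s hu hv hv

end J0

end S1

open S1 in
theorem TD.j1 (k : TD ρ t) : ∃ j κ, J1 ρ t j κ := by
  have s := k.toSm
  obtain ⟨x, h, e⟩ : ∃ x, Xd ρ t x 1 ∧ x * x = 1 := by
    obtain ⟨x, δ, h⟩ := k.xd
    obtain ⟨j, l, rfl⟩ := ex k h
    obtain rfl := l.d1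
    obtain ⟨a, e⟩ := l.sq1
    have f := e _ (s.q0_Vf (m0 s))
    rcases (l.rel2 e).1 with rfl | rfl
    · exact ⟨_, h, by simpa [tv] using f⟩
    have : j (bv 0) * t * (j (bv 0) * t) = 1 := by
      rw [mul_assoc, ← mul_assoc t, l.mt (m0 s), ← mul_assoc, ← mul_assoc, f, mul_one, mul_assoc, mul_assoc, cL k.cm, ← mul_assoc t, k.t2,
        one_mul, l.TT]
    exact ⟨_, ⟨⟨1, by rw [pow_one, pow_two, this]⟩, by rw [← h.tw]; group, fun o i d => by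
      rw [mul_assoc, ← mem_c1.1 i.1, ← mul_assoc, h.odd o i d, mul_assoc], fun w c a b => by
        rw [← conj_mul_conj', conj_eq_iff.2 (cL k.cm _).symm, h.ac w c a b]⟩, this⟩
  obtain ⟨j, l, rfl⟩ := ex k h
  have q : ∀ u, j u * j u = 1 := fun u => by
    by_cases n : u = 0 ∨ Q0 F m u ≠ 0
    · rw [l.junk u n, mul_one]
    obtain ⟨g, i, rfl⟩ := s.O1_tr (n0 s) (s.q0_Vf (m0 s)) (v := u) (by tauto) (by tauto)
    rw [← l.eqv g i _ (s.q0_Vf (m0 s)), ← conj_mul_conj, e, mul_one, mul_inv_cancel]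
  obtain ⟨γ, f⟩ := l.mul q
  exact ⟨j, γ, k, l.junk 0 (.inl rfl), q, l.tw, fun u w c => l.a1, l.odd, l.eqv, f⟩

end CF.Dq
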