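import Cfsg.Agent.Dq.C
import Cfsg.Agent.Dq.S1
import Cfsg.Agent.Sq.A2

/-! A standard symplectic subgroup in characteristic two: the element moving `t` to `t z`. -/

set_option autoImplicit false
set_option linter.unusedSectionVars false

namespace CF.Dq

open Subgroup Equiv CF.Loc CF.LX CF.Ud Module
open CF.Sq (ev Xz Sx)
open scoped commutatorElement

variable {F : Type} [Field F] [Fintype F] [CharP F 2] {m : ℕ} {a b c d s l P δ ζ ζ' : F} {g k : Perm (Fin m → F)}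
  {u v w z n n' : Fin m → F} {G : Type*} [Group G] [Finite G] {ρ : SU (1 : F ≃+* F) m →* G} {t x y y' : G} {μ : (Fin m → F) → F}

theorem sy_of (d : Sx (1 : F ≃+* F) m) : Sy F m := ⟨d.toSd.sm, d.hm, by
  have := d.ex
  have := d.hm
  obtain ⟨k, rfl⟩ := d.ev
  have : 1 < Nat.card F := Finite.one_lt_card
  omega⟩

theorem li3 (z0 : z ≠ 0) (hu : ∀ a : F, u ≠ a • z) (hw : ∀ a b : F, w ≠ a • z + b • u) : LinearIndependent F ![z, u, w] := by
  refine Fintype.linearIndependent_iff.2 fun g e => ?_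
  simp only [Fin.sum_univ_three, Matrix.cons_val] at e
  have e2 : g 2 = 0 := by_contra fun h => hw (g 0 / g 2) (g 1 / g 2) (funext fun i => by
    have := congrFun e i
    simp only [Pi.add_apply, Pi.smul_apply, smul_eq_mul, Pi.zero_apply] at this ⊢
    grind)
  have e1 : g 1 = 0 := by_contra fun h => hu (g 0 / g 1) (funext fun i => by
    have := congrFun e i
    simp only [Pi.add_apply, Pi.smul_apply, smul_eq_mul, Pi.zero_apply] at this ⊢
    grind)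
  have e0 : g 0 = 0 := by simpa [e1, e2, z0] using e
  intro i
  fin_cases i <;> assumption

theorem li2 (z0 : z ≠ 0) (hu : ∀ a : F, u ≠ a • z) : LinearIndependent F ![z, u] :=
  (LinearIndependent.pair_iff' z0).2 fun a e => hu a e.symm

theorem li01 (i : Fin m) (h : 2 ≤ i.val) (e : v i ≠ 0) : LinearIndependent F ![bv 0, bv 1, v] := by
  have i0 : (0 : ℕ) < m := by have := i.2; omega
  have i1 : (1 : ℕ) < m := by have := i.2; omega
  refine li3 (fun f => by simpa [bv] using congrFun f ⟨0, i0⟩) (fun a f => by simpa [bv] using congrFun f ⟨1, i1⟩) fun a b f => e ?_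
  simp [f, bv, show i.val ≠ 0 by omega, show i.val ≠ 1 by omega]

theorem hf_b (x : Fin m → F) {i j : ℕ} (h : i < m) (e : j = m - (i + 1)) : hf 1 x (bv j) = x ⟨i, h⟩ := by
  rw [← hf_bv (σ := 1) x ⟨i, h⟩, Fin.val_rev, e]

theorem Sy.ex3 (s : Sy F m) : ∃ v ∈ Vf F m (m / 2), ∃ v' ∈ Vf F m (m / 2), LinearIndependent F ![bv 0, bv 1, v] ∧
    LinearIndependent F ![bv 0, bv 1, v'] ∧ LinearIndependent F ![bv 0, bv 1, v + v'] ∧
    ∃ n n', hf 1 (bv 0) n = 1 ∧ hf 1 (bv 1) n = 0 ∧ hf 1 v n = 0 ∧ hf 1 v' n = 0 ∧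
      hf 1 (bv 0) n' = 0 ∧ hf 1 (bv 1) n' = 1 ∧ hf 1 v n' = 0 ∧ hf 1 v' n' = 0 ∧ Q0 F m n' = 0 := by
  have h6 := s.h6
  have q : Q0 F m (bv (m - 2)) = 0 := by
    rw [Q0_ap]
    exact Finset.sum_eq_zero fun i _ => by split_ifs with h <;> simp [bv, show i.val < m / 2 → i.val ≠ m - 2 by omega, *]
  have n0 : ∀ x : Fin m → F, hf 1 x (bv (m - 1)) = x ⟨0, by omega⟩ := fun x => hf_b x _ rfl
  have n1 : ∀ x : Fin m → F, hf 1 x (bv (m - 2)) = x ⟨1, by omega⟩ := fun x => hf_b x _ rfl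
  obtain ⟨v', i, j, h, e, f, e0, e1⟩ : ∃ v' ∈ Vf F m (m / 2), ∃ j : Fin m, 2 ≤ j.val ∧ v' j ≠ 0 ∧ (bv 2 + v' : Fin m → F) j ≠ 0 ∧
      v' ⟨0, by omega⟩ = 0 ∧ v' ⟨1, by omega⟩ = 0 := by
    rcases s.h8 with h | h
    · exact ⟨bv 3, bv_mem (by omega), ⟨3, by omega⟩, by simp, by simp [bv], by simp [bv], by simp [bv], by simp [bv]⟩
    · obtain ⟨a, a0, a1⟩ : ∃ a : F, a ≠ 0 ∧ a ≠ 1 := by_contra fun n => by
        have : Nat.card F ≤ 2 := by
          simpa using Nat.card_le_card_of_surjective (![0, 1] : Fin 2 → F) fun a => by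
            by_cases a0 : a = 0
            exacts [⟨0, a0.symm⟩, ⟨1, (not_not.1 fun a1 => n ⟨a, a0, a1⟩).symm⟩]
        omega
      exact ⟨a • bv 2, Submodule.smul_mem _ _ (bv_mem (by omega)), ⟨2, by omega⟩, by simp, by simp [bv, a0],
        by simp only [Pi.add_apply, Pi.smul_apply, bv, smul_eq_mul]; grind, by simp [bv], by simp [bv]⟩
  exact ⟨bv 2, bv_mem (by omega), v', i, li01 ⟨2, by omega⟩ le_rfl (by simp [bv]), li01 j h e, li01 j h f, bv (m - 1), bv (m - 2),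
    by simp [n0, bv], by simp [n0, bv], by simp [n0, bv], by rw [n0, e0], by simp [n1, bv], by simp [n1, bv], by simp [n1, bv],
    by rw [n1, e1], q⟩

theorem rt2 (e : a * a = b * b) : a = b := by grind

theorem odd_cj (e : x * y * x⁻¹ = y') (f : x * y' * x⁻¹ = y) {j : ℕ} (o : Odd j) : x ^ j * y * (x ^ j)⁻¹ = y' := by
  obtain ⟨j, rfl⟩ := o
  induction j with
  | zero => simpa using e
  | succ j h => calc
    _ = x * (x * (x ^ (2 * j + 1) * y * (x ^ (2 * j + 1))⁻¹) * x⁻¹) * x⁻¹ := by group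
    _ = _ := by rw [h, f, e]

theorem odd_e2 (x : G) : ∃ j, Odd j ∧ E2 (x ^ j) := by
  obtain ⟨i, j, o, e⟩ := Nat.exists_eq_two_pow_mul_odd (orderOf_pos x).ne'
  exact ⟨j, o, i, by rw [← pow_mul, mul_comm, ← e, pow_orderOf_eq_one]⟩

theorem Sm.upi (s : Sm F m) (r : Ker ρ) (i : Sem 1 1 g) (j : Sem 1 1 k) (e : up ρ g = up ρ k) : g = k :=
  mul_inv_eq_one.1 (s.sc_eq (i.mul1 j.inv1) (r _ (s.mem_SU (i.mul1 j.inv1)) (by
    rw [up_mul (s.mem_SU i) (s.mem_SU j.inv1), up_inv (s.mem_SU j), e, mul_inv_cancel])))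

theorem Sm.lf (s : Sm F m) (z0 : z ≠ 0) {r : (Fin m → F) → F} (e : ∀ u w, hf 1 u z = 0 → hf 1 w z = 0 → r (u + w) = r u + r w)
    (f : ∀ (c : F) w, hf 1 w z = 0 → r (c • w) = c * r w) : ∃ n, ∀ w, hf 1 w z = 0 → hf 1 w n = r w := by
  obtain ⟨p, h⟩ := s.partner z0
  have o : ∀ y, hf 1 (y + hf 1 y z • p) z = 0 := fun y => by simp [h, CharTwo.add_self_eq_zero]
  let φ : (Fin m → F) →ₗ[F] F := ⟨⟨fun y => r (y + hf 1 y z • p), fun x y => by
    rw [← e _ _ (o x) (o y), hf_add_l, add_smul, add_add_add_comm]⟩, fun c y => by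
    simp only [RingHom.id_apply, smul_eq_mul, ← f c _ (o y), hf_smul_l, smul_add, smul_smul]⟩
  refine ⟨fun j => φ (Pi.single j.rev 1), fun w i => ?_⟩
  have : φ w = r w := by simp [φ, i]
  rw [← this, φ.pi_apply_eq_sum_univ w, hf]
  exact Finset.sum_congr rfl fun i _ => by
    rw [Fin.rev_rev, smul_eq_mul, S1.one_ap]
    exact congrArg (fun y => w i * φ y) (funext fun j => by simp [Pi.single_apply, eq_comm])

namespace X1

/-- values of the cocycle -/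
def Dd (ρ : SU (1 : F ≃+* F) m →* G) (x : G) (z : Fin m → F) (g : Perm (Fin m → F)) (n : Fin m → F) (ζ : F) : Prop :=
  hf 1 n z = 0 ∧ x * up ρ g * x⁻¹ = up ρ (E 1 z n ζ * g)

/-- the cocycle -/
structure Co (ρ : SU (1 : F ≃+* F) m →* G) (x : G) (z : Fin m → F) : Prop extends Sm F m where
  z0 : z ≠ 0
  ker : Ker ρ
  xe : ∀ g, Sem 1 1 g → g z = z → ∃ n ζ, Dd ρ x z g n ζ
  cq : ∀ n ζ, Dd ρ x z (E 1 z n ζ) 0 0

theorem co (s : Sm F m) (r : Ker ρ) (e : Xz ρ t x) : Co ρ x (bv 0) := ⟨s, s.b0, r, fun g i f => by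
  obtain ⟨q, j, -, h⟩ := mem_im.1 (e.cy _ (up_im (B := Y 1 (bv 0)) ⟨s.mem_SU i, f⟩ (s.mem_SU i)))
  obtain ⟨n, ζ, o, rfl⟩ := (mem_Q iv1 (s.iso _)).1 j
  exact ⟨n, ζ, o.nv, by rw [← S1.um s (E_sem ..) i, h, commutatorElement_def]; group⟩,
  fun n ζ => ⟨hf_zero_l _, by rw [E_zero, one_mul, ← e.cq _ (up_im (E_Q _ n ζ) (s.E_SU _ n ζ)), mul_inv_cancel_right]⟩⟩

namespace Co
variable (h : Co ρ x z)
include h

theorem uq (i : Sem 1 1 g) (e : Dd ρ x z g n ζ) (f : Dd ρ x z g n' ζ') : ∃ a : F, n' = n + a • z ∧ ζ' = ζ :=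
  h.toSm.E_inj e.1 f.1 h.z0 (mul_right_cancel (h.toSm.upi h.ker ((E_sem ..).mul1 i) ((E_sem ..).mul1 i) (e.2.symm.trans f.2)))
theorem mul (i : Sem 1 1 g) (j : Sem 1 1 k) (o : g z = z) (e : Dd ρ x z g n ζ) (f : Dd ρ x z k n' ζ') :
    Dd ρ x z (g * k) (n + g n') (ζ + ζ' + hf 1 (g n') n) := by
  have s := h.toSm
  have p : hf 1 (g n') z = 0 := by rw [← o, i.form1, f.1]
  refine ⟨by rw [hf_add_l, e.1, p, add_zero], ?_⟩
  rw [← S1.um s i j, conj_mul_conj, e.2, f.2, S1.um s ((E_sem ..).mul1 i) ((E_sem ..).mul1 j), ← E_mul (s.ok e.1 _) (s.ok p _),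
    ← o, ← E_cj1 i, o]
  congr 1
  group
theorem sh (e : Dd ρ x z g n ζ) (a : F) : Dd ρ x z g (n + a • z) ζ :=
  ⟨by simp [e.1, h.toSm.iso], by rw [e.2, ← E_shift (h.toSm.ok e.1 ζ) a, S1.one_ap, add_assoc ζ, CharTwo.add_self_eq_zero, add_zero]⟩
theorem fx (e : hf 1 w z = 0) (a : F) : E 1 w 0 a z = z := E_fix (hf_sw e) (hf_zero_r _) _
theorem ext (e : hf 1 w z = 0) : ∃ n ζ, Dd ρ x z (E 1 w 0 1) n ζ := h.xe _ (E_sem ..) (h.fx e 1)
theorem rz (a l : F) : Dd ρ x z (E 1 (a • z) 0 1) (l • a • z) 0 := by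
  rw [h.toSm.tv_sm, smul_smul]
  simpa using h.sh (h.cq ..) (l * a)

theorem r0 (e : hf 1 w z = 0) : ∃ l P : F, Dd ρ x z (E 1 w 0 1) (l • w) P := by
  have s := h.toSm
  by_cases w0 : ∃ a : F, w = a • z
  · obtain ⟨a, rfl⟩ := w0
    exact ⟨0, 0, h.rz a 0⟩
  obtain ⟨n, P, f⟩ := h.ext e
  have key : ∀ y, hf 1 y z = 0 → hf 1 y w = 0 → ∃ a b : F, hf 1 n y • y = a • z + b • w := fun y i j => by
    obtain ⟨n', P', f'⟩ := h.ext i
    have c : E 1 w 0 1 * E 1 y 0 1 = E 1 y 0 1 * E 1 w 0 (1 : F) := by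
      rw [← conj_eq_iff, tv_cj1 (E_sem ..), E_fix j (hf_zero_r _)]
    obtain ⟨a, r, -⟩ := h.uq ((E_sem ..).mul1 (E_sem ..)) (h.mul (E_sem ..) (E_sem ..) (h.fx e 1) f f')
      (c ▸ h.mul (E_sem ..) (E_sem ..) (h.fx i 1) f' f)
    rw [s.tv_ap, s.tv_ap] at r
    refine ⟨a, hf 1 n' w, funext fun i => ?_⟩
    have := congrFun r i
    simp only [Pi.add_apply, Pi.smul_apply, smul_eq_mul] at this ⊢
    grind
  have nw : hf 1 n w = 0 := by_contra fun o => by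
    obtain ⟨a, r, -⟩ := h.uq sem_one (by simpa using h.cq 0 0) (tv_sq w (1 : F) ▸ h.mul (E_sem ..) (E_sem ..) (h.fx e 1) f f)
    rw [s.tv_ap] at r
    refine w0 ⟨a / hf 1 n w, funext fun i => ?_⟩
    have := congrFun r i
    simp only [Pi.add_apply, Pi.smul_apply, smul_eq_mul, Pi.zero_apply] at this ⊢
    grind
  obtain ⟨a, b, rfl⟩ := Submodule.mem_span_pair.1 (s.mem_of_pp (T := Submodule.span F {w, z}) (x := n) fun y i => by_contra fun o => by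
    obtain ⟨a, b, r⟩ := key y (i z (Submodule.subset_span (by simp))) (i w (Submodule.subset_span (by simp)))
    have := congrArg (hf 1 n) r
    simp only [hf_add_r, hf_smr, f.1, nw] at this
    grind)
  refine ⟨a, P, ?_⟩
  simpa only [add_assoc, vv, add_zero] using h.sh f b

theorem cj (i : Sem 1 1 g) (o : g z = z) (e : Dd ρ x z g n ζ) (f : Dd ρ x z (E 1 w 0 1) (l • w) P) (j : hf 1 w z = 0) :
    Dd ρ x z (E 1 (g w) 0 1) ((l + hf 1 (g w) n) • g w) (P + hf 1 (g w) n * hf 1 (g w) n) := by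
  have s := h.toSm
  have p : hf 1 (g w) z = 0 := by rw [← o, i.form1, j]
  obtain ⟨n', P', f'⟩ := h.ext p
  have c : E 1 (g w) 0 1 * g = g * E 1 w 0 1 := by rw [← tv_cj1 i, inv_mul_cancel_right]
  obtain ⟨a, r, r'⟩ := h.uq (i.mul1 (E_sem ..)) (h.mul i (E_sem ..) o e f) (c ▸ h.mul (E_sem ..) i (h.fx p 1) f' e)
  rw [s.tv_ap, i.smul1, hf_comm n] at r r'
  have r1 : n' = (l + hf 1 (g w) n) • g w + a • z := funext fun i => by
    have := congrFun r i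
    simp only [Pi.add_apply, Pi.smul_apply, smul_eq_mul] at this ⊢
    grind
  have := h.sh f' a
  rw [r1] at r' this
  simp only [hf_add_l, hf_add_r, hf_smul_l, hf_smr, e.1, p, s.iso, hf_comm n (g w)] at r'
  rw [show P + hf 1 (g w) n * hf 1 (g w) n = P' by grind]
  simpa only [add_assoc, vv, add_zero] using this

theorem mu : ∃ (δ : F) (μ : (Fin m → F) → F), ∀ w, hf 1 w z = 0 → Dd ρ x z (E 1 w 0 1) ((μ w + δ) • w) (μ w * μ w) := by
  obtain ⟨p, i, j⟩ : ∃ p, hf 1 p z = 0 ∧ ∀ a : F, p ≠ a • z := by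
    obtain ⟨g, i, e⟩ := h.toSm.witt1 h.toSm.b0 h.z0
    refine ⟨g (bv 1), by rw [← e, (su_sem i).form1, hf_sw h.toSm.b01], fun a f => ?_⟩
    rw [← e, ← (su_sem i).smul1] at f
    exact (LinearIndependent.pair_iff' h.toSm.b0).1 h.toSm.li01 a (g.injective f).symm
  obtain ⟨l, P, e⟩ := h.r0 i
  obtain ⟨δ, d⟩ := S1.rt (P + l * l)
  have : ∀ w, ∃ c : F, hf 1 w z = 0 → Dd ρ x z (E 1 w 0 1) ((c + δ) • w) (c * c) := fun w => by
    by_cases w0 : ∃ a : F, w = a • z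
    · obtain ⟨a, rfl⟩ := w0
      exact ⟨0, fun _ => by simpa using h.rz a δ⟩
    by_cases o : hf 1 w z = 0
    swap
    · exact ⟨0, fun f => absurd f o⟩
    obtain ⟨g, r, r1, rfl⟩ := h.toSm.wittP (li2 h.z0 j) (li2 h.z0 fun a f => w0 ⟨a, f⟩) ((hf_sw i).trans (hf_sw o).symm)
    obtain ⟨n, ζ, f⟩ := h.xe g (su_sem r) r1
    refine ⟨l + hf 1 (g p) n + δ, fun _ => ?_⟩
    convert h.cj (su_sem r) r1 f e i using 1
    · rw [add_assoc _ δ, CharTwo.add_self_eq_zero, add_zero]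
    · grind
  choose μ f using this
  exact ⟨δ, μ, f⟩

variable (f : ∀ w, hf 1 w z = 0 → Dd ρ x z (E 1 w 0 1) ((μ w + δ) • w) (μ w * μ w))
include f

theorem mz (a : F) : μ (a • z) = 0 := by
  obtain ⟨-, -, e⟩ := h.uq (E_sem ..) (f _ (by simp [h.toSm.iso])) (h.rz a 0)
  exact mul_self_eq_zero.1 e.symm
theorem mc (i : Sem 1 1 g) (o : g z = z) (e : Dd ρ x z g n ζ) (j : hf 1 w z = 0) : μ (g w) = μ w + hf 1 (g w) n := by
  obtain ⟨-, -, r⟩ := h.uq (E_sem ..) (h.cj i o e (f w j) j) (f (g w) (by rw [← o, i.form1, j]))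
  exact rt2 (by grind)
theorem ms (j : hf 1 w z = 0) (a : F) : μ (w + a • z) = μ w := by
  by_cases w0 : ∃ a : F, w = a • z
  · obtain ⟨b, rfl⟩ := w0
    rw [← add_smul, h.mz f, h.mz f]
  obtain ⟨n, e, e'⟩ := h.toSm.dual2 (li2 h.z0 fun a f => w0 ⟨a, f⟩) 0 a
  simpa [h.toSm.E0_ap e, j, hf_comm w n, e'] using h.mc f (E_sem ..) (E_fix (h.toSm.iso z) (hf_sw e) 0) (h.cq n 0) j
theorem mh (j : hf 1 w z = 0) (a : F) : μ (a • w) = a * μ w := by
  have s := h.toSm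
  by_cases w0 : ∃ a : F, w = a • z
  · obtain ⟨b, rfl⟩ := w0
    rw [smul_smul, h.mz f, h.mz f, mul_zero]
  have i : ∀ a : F, hf 1 (a • w) z = 0 := fun a => by simp [j]
  have c : E 1 (a • w) 0 1 * E 1 w 0 1 = E 1 ((a + 1) • w) 0 (1 : F) := by
    rw [s.tv_sm, s.tv_sm, s.tv_mul]
    congr 1
    grind
  obtain ⟨b, r, r'⟩ := h.uq (E_sem ..) (c ▸ h.mul (E_sem ..) (E_sem ..) (h.fx (i a) 1) (f _ (i a)) (f w j)) (f _ (i _))
  rw [E_fix (by simp [s.iso]) (hf_zero_r _)] at r r'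
  simp only [hf_smul_l, hf_smr, s.iso, mul_zero, add_zero] at r'
  have r1 : μ ((a + 1) • w) = μ (a • w) + μ w := rt2 (by grind)
  have := ((LinearIndependent.pair_iff.1 (li2 h.z0 fun a f => w0 ⟨a, f⟩)) b (μ (a • w) + a * μ w) (funext fun i => by
    have := congrFun r i
    simp only [Pi.add_apply, Pi.smul_apply, smul_eq_mul, Pi.zero_apply, r1] at this ⊢
    grind)).2
  grind
theorem mn (i : hf 1 u z = 0) (j : hf 1 w z = 0) (c0 : c ≠ 0) (e : c * c = hf 1 w u) : μ (w + u) = μ w + μ u + δ * c := by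
  have s := h.toSm
  obtain ⟨u, rfl⟩ : ∃ y, u = c • y := ⟨c⁻¹ • u, by simp [c0]⟩
  have i' : hf 1 u z = 0 := by simpa [c0] using i
  have e' : hf 1 w u = c := mul_left_cancel₀ c0 (by rw [e, hf_smr])
  have := h.mc f (E_sem ..) (h.fx i' 1) (f u i') j
  simp only [s.tv_ap, e', one_mul, hf_add_l, hf_smul_l, hf_smr, s.iso] at this
  rw [this, h.mh f i']
  grind

theorem me (i : hf 1 u z = 0) (j : hf 1 w z = 0) (e : hf 1 u w = 0) : ∃ a b : F,
    Dd ρ x z (E 1 u w 0) (a • u + b • w) ((μ (u + w) + μ u + μ w) * (μ (u + w) + μ u + μ w)) := by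
  have s := h.toSm
  have o : hf 1 (u + w) z = 0 := by simp [i, j]
  have := h.mul ((E_sem ..).mul1 (E_sem ..)) (E_sem ..) (by rw [Perm.mul_apply, h.fx i, h.fx o])
    (h.mul (E_sem ..) (E_sem ..) (h.fx o 1) (f _ o) (f _ i)) (f _ j)
  rw [Perm.mul_apply, tv_pol iv1 (s.iso _) (s.iso _) e rfl, one_smul, E_fix (by simp [s.iso, e]) (hf_zero_r _),
    E_fix (v := u) (by simp [hf_sw e]) (hf_zero_r _), E_fix (by simp [s.iso, hf_sw e]) (hf_zero_r _)] at this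
  refine ⟨μ (u + w) + μ u, μ (u + w) + μ w, ?_⟩
  convert this using 1
  · ext i
    simp only [Pi.add_apply, Pi.smul_apply, smul_eq_mul]
    grind
  · simp only [hf_add_r, hf_smul_l, hf_smr, s.iso, e, hf_sw e]
    grind

theorem mo (s : Sy F m) (z1 : z = bv 0) (i : hf 1 u z = 0) (j : hf 1 w z = 0) (e : hf 1 u w = 0) : μ (u + w) = μ u + μ w := by
  subst z1
  by_cases u0 : ∃ a : F, u = a • bv 0
  · obtain ⟨a, rfl⟩ := u0
    rw [add_comm, h.ms f j, h.mz f, zero_add]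
  by_cases w0 : ∃ a b : F, w = a • bv 0 + b • u
  · obtain ⟨a, b, rfl⟩ := w0
    rw [add_comm (a • _), h.ms f (by simp [i]), ← add_assoc, h.ms f (by simp [i]), h.mh f i,
      show u + b • u = (1 + b) • u by rw [add_smul, one_smul], h.mh f i, add_mul, one_mul]
  have t := s.toSm
  have l := li3 t.b0 (fun a f => u0 ⟨a, f⟩) fun a b f => w0 ⟨a, b, f⟩
  have key : ∀ v ∈ Vf F m (m / 2), LinearIndependent F ![bv 0, bv 1, v] → μ (bv 1 + v) + μ (bv 1) + μ v = μ (u + w) + μ u + μ w :=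
    fun v o l' => by
      obtain ⟨g, r, r'⟩ := t.witt0 l l' fun a b => by
        fin_cases a <;> fin_cases b <;> simp [t.iso, i, j, e, hf_sw i, hf_sw j, hf_sw e, S1.or0, o, t.b0V, t.b1V]
      have r0 : g (bv 0) = bv 0 := r' 0
      have r1 : g u = bv 1 := r' 1
      have r2 : g w = v := r' 2
      obtain ⟨n, ζ, d⟩ := h.xe g (su_sem r) r0
      rw [← r1, ← r2, ← (su_sem r).add, h.mc f (su_sem r) r0 d i, h.mc f (su_sem r) r0 d j,
        h.mc f (su_sem r) r0 d (by simp [i, j]), (su_sem r).add, hf_add_l]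
      grind
  obtain ⟨v, o, v', o', l₁, l₂, l₃, -⟩ := s.ex3
  have ob := fun {x y} => @S1.or0 F _ _ _ m x y
  obtain ⟨a₁, b₁, d₁⟩ := h.me f (ob t.b1V t.b0V) (ob o t.b0V) (ob t.b1V o)
  obtain ⟨a₂, b₂, d₂⟩ := h.me f (ob t.b1V t.b0V) (ob o' t.b0V) (ob t.b1V o')
  obtain ⟨a₃, b₃, d₃⟩ := h.me f (ob t.b1V t.b0V) (ob (add_mem o o') t.b0V) (ob t.b1V (add_mem o o'))
  rw [key _ o l₁] at d₁
  rw [key _ o' l₂] at d₂
  rw [key _ (add_mem o o') l₃] at d₃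
  have d := h.mul (E_sem ..) (E_sem ..) (E_fix (ob t.b0V t.b1V) (ob t.b0V o) _) d₁ d₂
  rw [E_mul (t.ok (ob o t.b1V) _) (t.ok (ob o' t.b1V) _), ob o' o, add_zero, add_zero,
    E_fix (by simp [t.iso, ob o' t.b1V]) (by simp [ob o' o, ob t.b1V o])] at d
  obtain ⟨-, -, r⟩ := h.uq (E_sem ..) d d₃
  simp only [hf_add_l, hf_add_r, hf_smul_l, hf_smr, t.iso, ob o' o, ob o' t.b1V, ob t.b1V o] at r
  grind

theorem lin (s : Sy F m) (z1 : z = bv 0) : ∃ n, hf 1 n z = 0 ∧ ∀ w c, hf 1 w z = 0 → c * c = 1 + Q0 F m w → hf 1 w n = μ w + δ * c + δ := by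
  have t := s.toSm
  have sq : ∀ a, (frobeniusEquiv F 2).symm (a * a) = a := fun a => by
    rw [← pow_two]; exact (frobeniusEquiv F 2).symm_apply_apply a
  obtain ⟨n, e⟩ := t.lf h.z0 (r := fun w => μ w + δ * (frobeniusEquiv F 2).symm (Q0 F m w)) (fun u w i j => by
    obtain ⟨c, e⟩ := S1.rt (hf 1 u w)
    rw [t.q0_add, map_add, map_add, ← e, sq]
    by_cases c0 : c = 0
    · rw [h.mo f s z1 i j (by simp [← e, c0]), c0]
      ring
    · rw [h.mn f j i c0 e]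
      grind) fun c w i => by
    rw [h.mh f i, QuadraticMap.map_smul, smul_eq_mul, map_mul, sq]
    ring
  refine ⟨n, hf_sw ?_, fun w c i j => ?_⟩
  · have := h.mz f 1
    rw [one_smul] at this
    rw [e z (t.iso z), this, z1, t.q0_Vf t.b0V]
    simp
  · rw [e w i, show Q0 F m w = (c + 1) * (c + 1) by grind, sq]
    grind

end Co

end X1

theorem Sy.xe (s : Sy F m) (k : Ker ρ) (e : Xz ρ t x) (l : t ∈ 𝐂(ρ.range)) : ∃ x δ, Xe ρ t x δ := by
  have r := s.toSm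
  have h := X1.co r k e
  obtain ⟨δ, μ, f⟩ := h.mu
  obtain ⟨n, n0, g⟩ := h.lin f s rfl
  have cq : ∀ n ζ, up ρ (E 1 (bv 0) n ζ) * x = x * up ρ (E 1 (bv 0) n ζ) := fun n ζ => e.cq _ (up_im (E_Q _ n ζ) (r.E_SU _ n ζ))
  obtain ⟨y, hy⟩ : ∃ y, y = up ρ (E 1 (bv 0) n 0) * x := ⟨_, rfl⟩
  have cQ : ∀ n' ζ, hf 1 n' (bv 0) = 0 → y * up ρ (E 1 (bv 0) n' ζ) * y⁻¹ = up ρ (E 1 (bv 0) n' ζ) := fun n' ζ i => by
    rw [conj_eq_iff, hy, mul_assoc, ← cq, ← mul_assoc, ← mul_assoc, S1.um r (E_sem ..) (E_sem ..), S1.um r (E_sem ..) (E_sem ..),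
      E_mul (r.ok i _) (r.ok n0 _), E_mul (r.ok n0 _) (r.ok i _), add_comm n, add_comm ζ, hf_comm n]
  have tw : y * t * y⁻¹ = t * tv ρ (bv 0) 1 := by
    rw [hy, ← S1.conj_mul_conj', e.tz, conj_eq_iff, ← mul_assoc, S1.cL l, mul_assoc, mul_assoc, S1.um r (E_sem ..) (E_sem ..),
      S1.um r (E_sem ..) (E_sem ..), E_mul (r.okt ..) (r.ok n0 _), E_mul (r.ok n0 _) (r.okt ..)]
    simp
  have ac : ∀ w c, hf 1 w (bv 0) = 0 → c * c = 1 + Q0 F m w → y * tv ρ w 1 * y⁻¹ = tv ρ (w + (δ * c) • bv 0) 1 * tv ρ (bv 0) (δ * δ) ∧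
      tv ρ (w + (δ * c) • bv 0) 1 * tv ρ (bv 0) (δ * δ) = tv ρ w 1 * up ρ (E 1 (bv 0) ((δ * c) • w) (δ * δ * (c * c + 1))) := fun w c i j => by
    have o : ∀ a : F, hf 1 (a • w) (bv 0) = 0 := fun a => by simp [i]
    rw [hy, ← S1.conj_mul_conj', (f w i).2, mul_inv_eq_iff_eq_mul]
    simp (disch := repeat' first | exact E_sem .. | apply Sem.mul1) only [S1.um r]
    constructor <;> refine congrArg (up _) (Equiv.ext fun y => ?_) <;>
      simp only [Perm.mul_apply, r.tv_ap, S1.Eap r _ _ n0, S1.Eap r _ _ (o _), hf_add_l, hf_add_r, hf_smul_l, hf_smr, r.iso, i, n0,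
        hf_sw i, hf_sw n0, hf_comm n w, g w c i j] <;> ext i <;> simp only [Pi.add_apply, Pi.smul_apply, smul_eq_mul] <;> grind
  obtain ⟨j, o, two⟩ := odd_e2 y
  refine ⟨y ^ j, δ, two, odd_cj tw ?_ o, fun w c i d => odd_cj (ac w c i d).1 ?_ o⟩
  · rw [conj_mul_conj, tw, cQ _ _ (hf_zero_l _), mul_assoc, S1.um r (E_sem ..) (E_sem ..), r.E_sq, up_one, mul_one]
  · rw [(ac w c i d).2, conj_mul_conj, (ac w c i d).1, (ac w c i d).2, cQ _ _ (by simp [i]), mul_assoc, S1.um r (E_sem ..) (E_sem ..),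
      r.E_sq, up_one, mul_one]

end CF.Dq
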