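import Cfsg.Agent.Dq.C3
import Cfsg.Agent.Dq.X1

/-! A standard symplectic subgroup in characteristic two: the family moving `t` by transvections. -/

set_option autoImplicit false
set_option linter.unusedSectionVars false
set_option linter.unusedVariables false

namespace CF.Dq

open Subgroup Equiv CF.Loc CF.LX CF.Ud Module C3
open CF.Sq (ev)

variable {F : Type} [Field F] [Fintype F] [CharP F 2] {m : ℕ} {a c k δ : F} {g : Perm (Fin m → F)} {u v w n p w' n' : Fin m → F}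
  {T : Submodule F (Fin m → F)} {G : Type*} [Group G] [Finite G] {ρ : SU (1 : F ≃+* F) m →* G} {t h x z : G}
  {b : (Fin m → F) → (Fin m → F) → G} {y : (Fin m → F) → G}

set_option hygiene false in
local notation "𝐕" => Vf F m (m / 2)

theorem Y0.ym (e : Y0 ρ t y) (i : g ∈ SU (1 : F ≃+* F) m) (l : g v = v) : y v * up ρ g * (y v)⁻¹ = up ρ g :=
  conj_eq_iff.2 (conj_eq_iff.1 (by rw [e.ye g i, l])).symm
theorem Y0.ey (s : Sm F m) (e : Y0 ρ t y) (l : hf 1 v w = 0) (l' : hf 1 v n = 0) : y v * ev ρ w n a * (y v)⁻¹ = ev ρ w n a :=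
  e.ym (s.E_SU _ _ _) (E_fix l l' _)
theorem Rb.be0 (s : Sm F m) (r : Rb ρ b k) (e : hf 1 u v = 0) (e₁ : hf 1 u w = 0) (e₂ : hf 1 u n = 0) (e₃ : hf 1 v w = 0) (e₄ : hf 1 v n = 0) :
    b u v * ev ρ w n a * (b u v)⁻¹ = ev ρ w n a := conj_eq_iff.2 (r.eb s e e₁ e₂ e₃ e₄).symm

namespace CB
section
variable (s : Sm F m) (f : CB ρ t b k)
include s f

theorem tc (g : Perm (Fin m → F)) : t * up ρ g * t⁻¹ = up ρ g := conj_eq_iff.2 (S1.cL f.cm g).symm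
theorem ct' (g : Perm (Fin m → F)) : up ρ g * t * (up ρ g)⁻¹ = t := conj_eq_iff.2 (S1.cL f.cm g)
theorem cY0 (l : Ti 1 T) (i : h ∈ 𝐂₁(t)) (e : ∀ v, (∀ x ∈ T, hf 1 x v = 0) → h * tv ρ v 1 = tv ρ v 1 * h) :
    ∃ w ∈ WX 1 T, h = up ρ w ∨ h = t * up ρ w := by
  obtain ⟨ξ, ⟨θ, o⟩, j⟩ := f.ind h i
  have w := s.cY1 l ⟨θ, o⟩ fun v a => conj_eq_iff.1 (s.upi f.ker (o.cj (E_sem ..)) (E_sem ..) (by
    rw [← j _ (tv_SU _ _), conj_eq_iff.2 (e v a)]))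
  have := f.cen ((up ρ ξ)⁻¹ * h) (mem_inf.2 ⟨mul_mem (inv_mem (mem_c1.2 (S1.cL f.cm _))) i, fun z d => by
    obtain ⟨g, d', rfl⟩ := mem_range_up.1 d
    have := j g d'
    rw [up_cj (s.W_SU w) d', mul_inv_eq_iff_eq_mul] at this
    rw [mul_assoc _ h, this]
    group⟩)
  exact ⟨ξ, w, this.imp (fun e => (inv_mul_eq_one.1 e).symm) fun e => by rw [← S1.cL f.cm, ← e, mul_inv_cancel_left]⟩
theorem cY' (l : Ti 1 T) (i : x * t * x⁻¹ = z * t * z⁻¹)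
    (e : ∀ v, (∀ x ∈ T, hf 1 x v = 0) → x * tv ρ v 1 * x⁻¹ = tv ρ v 1 ∧ z * tv ρ v 1 * z⁻¹ = tv ρ v 1) :
    ∃ w ∈ WX 1 T, x = z * up ρ w ∨ x = z * t * up ρ w := by
  have q : ∀ a, x * a * x⁻¹ = z * a * z⁻¹ → z⁻¹ * x * a = a * (z⁻¹ * x) := fun a e => by
    rw [mul_assoc, mul_inv_eq_iff_eq_mul.1 e]; group
  obtain ⟨w, j, d⟩ := f.cY0 s l (mem_c1.2 (q t i)) fun v a => q _ ((e v a).1.trans (e v a).2.symm)
  exact ⟨w, j, d.imp (fun e => by rw [← e]; group) fun e => by rw [mul_assoc, ← e]; group⟩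
theorem w2 (l : LinearIndependent F ![u, w]) (o : hf 1 u w = 0) {a c d : F} (e : tv ρ u a * tv ρ w c * ev ρ u (d • w) 0 = 1) :
    a = 0 ∧ c = 0 ∧ d = 0 := by
  rw [um s (E_sem ..) (E_sem ..), um s (Sem.mul1 (E_sem ..) (E_sem ..)) (E_sem ..), ← up_one (φ := ρ)] at e
  exact s.w2inj l o (s.upi f.ker (Sem.mul1 (Sem.mul1 (E_sem ..) (E_sem ..)) (E_sem ..)) sem_one e)
theorem t1' (v0 : v ≠ 0) (e : tv ρ v a = 1) : a = 0 := by_contra fun a0 =>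
  s.tv_ne v0 a0 (s.upi f.ker (E_sem ..) sem_one (e.trans up_one.symm))
theorem tb (e : hf 1 u w = 0) : t * b u w * t⁻¹ = b u w * ev ρ u w 0 := by
  have := hf_sw e
  have q := mul_inv_eq_iff_eq_mul.1 (f.tw u w e)
  rw [mul_inv_eq_iff_eq_mul, ← f.toRb.eb s ort ort ort ort ort, mul_assoc, q, ← mul_assoc, ← mul_assoc, S1.cL f.cm, mul_assoc t, ee s, mul_one]
theorem cB (l : Ti 1 T) (hu : u ∈ T) (hw : w ∈ T) (hp : p ∈ T) (li : LinearIndependent F ![u, w]) (i : x * t * x⁻¹ = t * tv ρ p 1)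
    (i' : x * tv ρ p 1 * x⁻¹ = tv ρ p 1) (i'' : x * ev ρ u w 0 * x⁻¹ = ev ρ u w 0)
    (e : ∀ v, (∀ x ∈ T, hf 1 x v = 0) → ∃ z, x * z * x⁻¹ = tv ρ v 1 ∧ b u w * z * (b u w)⁻¹ = z) :
    ∃ g ∈ WX 1 T, x * b u w * x⁻¹ = b u w * up ρ g := by
  have r := f.toRb
  have o := l u hu w hw
  have o' := hf_sw o
  obtain ⟨g, j, d | d⟩ := f.cY' s l (x := x * b u w * x⁻¹) (z := b u w) (by
    have := l u hu p hp; have := l w hw p hp; have := l p hp u hu; have := l p hp w hw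
    have q : t = x * (t * tv ρ p 1) * x⁻¹ := by rw [conj_mul_conj, i, i', mul_assoc, ee s, mul_one]
    conv_lhs => rw [q, ← cj3, conj_mul_conj (b u w), f.tw u w o, r.be0 s ort ort ort ort ort, conj_mul_conj, conj_mul_conj, i, i', i'']
    rw [f.tw u w o]
    clear q i i' i''
    exact pt) fun v a => by
      obtain ⟨z, e, e'⟩ := e v a
      have := a u hu; have := a w hw
      exact ⟨by rw [← e, ← cj3, e'], r.be0 s ort ort ort ort ort⟩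
  · exact ⟨g, j, d⟩
  have c := r.cm s (s.W_SU j) o (W_fix j (l u hu)) (W_fix j (l w hw))
  have q : x * b u w * x⁻¹ * (x * b u w * x⁻¹) = 1 := by rw [← conj_mul_conj, r.bb s o', mul_one, mul_inv_cancel]
  rw [d, mul_assoc, ← mul_assoc (up ρ g), ← mul_assoc (up ρ g), c, mul_assoc (b u w) (up ρ g), S1.cL f.cm, mul_assoc, mul_assoc, mul_assoc t,
    um s j.1 j.1, W_sq l j, up_one, mul_one, ← mul_assoc t, ← mul_assoc, ← mul_assoc, mul_inv_eq_iff_eq_mul.1 (f.tw u w o), mul_assoc _ (b u w) (b u w), r.bb s o',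
    mul_one, mul_assoc, S1.cL f.cm, cn f.t2] at q
  exact absurd (f.w2 s li o (a := 0) (c := 0) (d := 1) (by simp [q, tv])).2.2 one_ne_zero
end

variable (sy : Sy F m) (f : CB ρ t b k)
include sy f

theorem cY (l : Ti 1 T) (i : h ∈ 𝐂₁(t)) (e : ∀ v, (∀ x ∈ T, hf 1 x v = 0) → h * tv ρ v 1 = tv ρ v 1 * h) :
    ∃ w ∈ WX 1 T, h = up ρ w ∨ h = t * up ρ w := f.cY0 sy.toSm l i e

theorem d0 (e : Xe ρ t x δ) : δ = 0 := by
  have s := sy.toSm
  have r := f.toRb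
  obtain ⟨z, hz, ez⟩ : ∃ z ∈ 𝐕, bv 0 = z := ⟨_, s.b0V, rfl⟩
  obtain ⟨u, hu, eu⟩ : ∃ u ∈ 𝐕, bv 1 = u := ⟨_, s.b1V, rfl⟩
  obtain ⟨v, hv, v', hv', l₁, l₂, l₃, n, n', n₁, n₂, n₃, n₄, n₅, n₆, n₇, n₈, n₉⟩ := sy.ex3
  have tw := e.tw
  have xT : ∀ w, hf 1 w z = 0 → Q0 F m w = 0 → x * tv ρ w 1 * x⁻¹ = tv ρ w 1 * ev ρ z (δ • w) 0 := fun w a q => by
    have := hf_sw a
    rw [e.ac w 1 (ez ▸ a) (by simp [q]), ez]
    clear tw ez eu
    exact pt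
  have xE : ∀ w p, hf 1 w z = 0 → Q0 F m w = 0 → hf 1 p z = 0 → Q0 F m p = 0 → hf 1 w p = 0 → x * ev ρ w p 0 * x⁻¹ = ev ρ w p 0 :=
    fun w p a q a' q' o => by
      have := hf_sw a; have := hf_sw a'; have := hf_sw o
      have d : ev ρ w p 0 = tv ρ (w + p) 1 * (tv ρ w 1 * tv ρ p 1) := by clear tw ez eu xT; exact pt
      rw [d, conj_mul_conj, conj_mul_conj, xT _ ort (by rw [s.q0_add, q, q', o]; simp), xT _ a q, xT _ a' q']
      clear d tw ez eu xT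
      exact pt
  rw [ez] at tw n₁ n₅ l₁ l₂ l₃
  rw [eu] at n₂ n₆ l₁ l₂ l₃
  clear ez eu
  have key : ∀ c ∈ 𝐕, LinearIndependent F ![z, u, c] → hf 1 c n = 0 → hf 1 c n' = 0 →
      ∃ g ∈ WW 1 m, x * b u c * x⁻¹ = b u c * up ρ g ∧ hf 1 (g n + n) n' = δ := fun c hc l a a' => by
    have := S1.or0 hc hz; have := S1.or0 hz hc; have := S1.or0 hu hz; have := S1.or0 hu hc; have := S1.or0 hc hu
    have := hf_sw a; have := hf_sw a'; have := hf_sw n₅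
    have x0 : x * tv ρ z 1 * x⁻¹ = tv ρ z 1 := by rw [xT z ort (s.q0_Vf hz)]; clear tw xT xE; exact pt
    obtain ⟨g, i, d⟩ := f.cB s s.Vl_ti hu hc hz (li_sub l (i := 1) (j := 2) (by decide)) tw x0
      (xE _ _ ort (s.q0_Vf hu) ort (s.q0_Vf hc) ort) fun p o => by
        have hp := s.Vl_pp fun y i => hf_sw (o y i)
        have := o z hz; have := o u hu; have := o c hc; have := S1.or0 hp hz
        exact ⟨tv ρ p 1 * ev ρ z (δ • p) 0, by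
          rw [conj_mul_conj, xT p ort (s.q0_Vf hp), xE _ _ ort (s.q0_Vf hz) ort (s.q0_Vf (Submodule.smul_mem _ _ hp)) ort, mul_assoc, ee s, mul_one],
          by rw [conj_mul_conj, r.be0 s ort ort ort ort ort, r.be0 s ort ort ort ort ort]⟩
    refine ⟨g, i, d, ?_⟩
    have q := r.eqv _ (s.E_SU c n' 0) u c ort
    rw [Ea s ort ort, hf_comm n', n₆, E_fix ort ort, r.add1 s ort ort ort, r.adj _ _ _ ort, r.self] at q
    have d' := cj3 x (ev ρ c n' 0) (b u c)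
    rw [q, xE c n' ort (s.q0_Vf hc) ort n₉ a', conj_mul_conj, d, conj_mul_conj, q, xT c ort (s.q0_Vf hc), mul_assoc, mul_assoc, mul_right_inj,
      ← up_cj (s.E_SU _ _ _) (s.W_SU i), um s (E_sem ..) (E_sem ..), um s i.1 (Sem.mul1 (E_sem ..) (E_sem ..)),
      um s (E_sem ..) ((E_sem ..).cj i.1)] at d'
    have d'' := congrArg (fun g : Perm _ => g (E 1 c n' 0 n)) (s.upi f.ker (i.1.mul1 (Sem.mul1 (E_sem ..) (E_sem ..))) ((E_sem ..).mul1 ((E_sem ..).cj i.1)) d')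
    have gc : hf 1 (g n) c = 0 := by rw [← s.W_fixV i hc, i.1.form1]; exact ort
    have := (hf_comm n z).trans n₁
    simp only [Perm.mul_apply, Perm.coe_inv, symm_apply_apply] at d''
    simp only [Eap s, hs s, gc, i.1.add, i.1.smul1, s.W_fixV i hc, zero_smul, add_zero, one_smul, *] at d''
    obtain ⟨j, c0⟩ := Function.ne_iff.1 (show c ≠ 0 from l.ne_zero 2)
    have := congrFun d'' j
    simp only [Pi.add_apply, Pi.smul_apply, smul_eq_mul, Pi.zero_apply, hf_add_l] at this c0 ⊢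
    grind
  obtain ⟨g₁, i₁, d₁, e₁⟩ := key v hv l₁ n₃ n₇
  obtain ⟨g₂, i₂, d₂, e₂⟩ := key v' hv' l₂ n₄ n₈
  obtain ⟨g₃, i₃, d₃, e₃⟩ := key (v + v') (add_mem hv hv') l₃ ort ort
  rw [r.add2 s (S1.or0 hv hu) (S1.or0 hv' hu) (S1.or0 hv hv'), conj_mul_conj, d₁, d₂, mul_assoc, mul_assoc, mul_right_inj, ← mul_assoc,
    r.cm s (s.W_SU i₁) (S1.or0 hu hv') (s.W_fixV i₁ hu) (s.W_fixV i₁ hv'), mul_assoc, mul_right_inj, um s i₁.1 i₂.1] at d₃
  rw [← s.upi f.ker (i₁.1.mul1 i₂.1) i₃.1 d₃, Perm.mul_apply, show g₂ n = n + (g₂ n + n) by rw [add_left_comm, vv, add_zero], i₁.1.add,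
    s.W_fixV i₁ (W_add i₂ n), add_right_comm, hf_add_l, e₁, e₂] at e₃
  simpa using e₃

theorem y0 (i : x ∈ 𝐂(im ρ (Y 1 (bv 0)))) (e : x * t * x⁻¹ = t * tv ρ (bv 0) 1) : ∃ y, Y0 ρ t y ∧ y (bv 0) = x := by
  classical
  have s := sy.toSm
  have tr : ∀ u : Fin m → F, u ≠ 0 → ∃ g ∈ SU (1 : F ≃+* F) m, g (bv 0) = u := fun u => s.witt1 s.b0
  choose! c c1 c2 using tr
  obtain ⟨y, hy⟩ : ∃ y : (Fin m → F) → G, ∀ u, y u = if u ≠ 0 then up ρ (c u) * x * (up ρ (c u))⁻¹ else 1 := ⟨_, fun _ => rfl⟩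
  have key : ∀ g ∈ SU (1 : F ≃+* F) m, y (g (bv 0)) = up ρ g * x * (up ρ g)⁻¹ := fun g j => by
    have l := (su_sem j).ne s.b0
    have o := mul_mem (inv_mem j) (c1 _ l)
    have := i _ (up_im (B := Y 1 (bv 0)) ⟨o, show _ = _ by simp [c2 _ l]⟩ o)
    rw [up_mul (inv_mem j) (c1 _ l), up_inv j] at this
    rw [hy, if_pos l]
    calc _ = up ρ g * ((up ρ g)⁻¹ * up ρ (c (g (bv 0))) * x) * (up ρ (c (g (bv 0))))⁻¹ := by group
      _ = _ := by rw [this]; group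
  have z : y 0 = 1 := by simp [hy]
  have cs : ∀ u, u = 0 ∨ ∃ g ∈ SU (1 : F ≃+* F) m, g (bv 0) = u := fun u => or_iff_not_imp_left.2 fun e => ⟨c u, c1 u e, c2 u e⟩
  refine ⟨y, ⟨z, fun g j u => ?_, fun u => ?_⟩, by simpa using key 1 (one_mem _)⟩ <;> rcases cs u with rfl | ⟨g', l, rfl⟩
  · simp [z, (su_sem j).zero]
  · rw [key _ l, ← Perm.mul_apply, key _ (mul_mem j l), up_mul j l, cj2]
  · simp [z, S1.T0]
  · conv_lhs => rw [key _ l, ← f.ct' s g', ← cj3, e, conj_mul_conj, f.ct' s, Tc s l]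

theorem k1 (e : Y0 ρ t y) (l : LinearIndependent F ![v, u, w]) (e₁ : hf 1 u v = 0) (e₂ : hf 1 w v = 0) (e₃ : hf 1 u w = 0) :
    ∃ a c : F, y v * b u w * (y v)⁻¹ = b u w * (tv ρ v c * ev ρ u (a • w) 0) := by
  have s := sy.toSm
  have r := f.toRb
  have := hf_sw e₁; have := hf_sw e₂; have := hf_sw e₃
  have ti : Ti 1 (Submodule.span F (Set.range ![v, u, w])) := ti_span fun i j => by fin_cases i <;> fin_cases j <;> simp [s.iso, *]
  have hv : v ∈ Submodule.span F (Set.range ![v, u, w]) := Submodule.subset_span ⟨0, rfl⟩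
  have hu : u ∈ Submodule.span F (Set.range ![v, u, w]) := Submodule.subset_span ⟨1, rfl⟩
  have hw : w ∈ Submodule.span F (Set.range ![v, u, w]) := Submodule.subset_span ⟨2, rfl⟩
  obtain ⟨g, i, d⟩ := f.cB s ti hu hw hv (li_sub l (i := 1) (j := 2) (by decide)) (e.tw v) (e.ey s ort ort) (e.ey s ort ort)
    fun p o => by
      have := o v hv; have := o u hu; have := o w hw
      exact ⟨_, e.ey s ort ort, r.be0 s ort ort ort ort ort⟩
  have gu := W_fix i (ti u hu)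
  have gw := W_fix i (ti w hw)
  have key : ∀ p n c, p ≠ 0 → g p = p → hf 1 v p = 0 → hf 1 v n = 0 → hf 1 n p = 0 →
      ev ρ p n 0 * b u w * (ev ρ p n 0)⁻¹ = b u w * tv ρ p c → ∃ a : F, g n = n + a • p := fun p n c p0 gp a₁ a₂ a₃ q => by
    have d' := cj3 (y v) (ev ρ p n 0) (b u w)
    have o : g * E 1 p 0 c = E 1 p 0 c * g := conj_eq_iff.1 (by rw [tv_cj1 i.1, gp])
    rw [q, e.ey s a₁ a₂, conj_mul_conj, d, conj_mul_conj, q, e.ey s a₁ ort, mul_assoc, mul_assoc, mul_right_inj, um s i.1 (E_sem ..), o,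
      ← um s (E_sem ..) i.1, mul_right_inj, ← up_cj (s.E_SU _ _ _) (s.W_SU i)] at d'
    have := conj_eq_iff.2 (conj_eq_iff.1 (s.upi f.ker i.1 ((E_sem ..).cj i.1) d').symm).symm
    rw [E_cj1 i.1, gp] at this
    obtain ⟨a, h, -⟩ := s.E_inj a₃ (by rw [← gp, i.1.form1, a₃]) p0 this.symm
    exact ⟨a, h⟩
  obtain ⟨n, hn⟩ := s.dual l ![0, 1, 0]
  obtain ⟨n', hn'⟩ := s.dual l ![0, 0, 1]
  have n₀ : hf 1 v n = 0 := hn 0
  have n₁ : hf 1 n u = 1 := (hf_comm ..).trans (hn 1)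
  have n₂ : hf 1 n w = 0 := hf_sw (hn 2)
  have n₃ : hf 1 v n' = 0 := hn' 0
  have n₄ : hf 1 n' u = 0 := hf_sw (hn' 1)
  have n₅ : hf 1 n' w = 1 := (hf_comm ..).trans (hn' 2)
  clear hn hn'
  have := hf_sw n₀; have := hf_sw n₂; have := hf_sw n₃; have := hf_sw n₄
  obtain ⟨a, g₁⟩ := key w n 1 (l.ne_zero 2) gw ort n₀ n₂ (by
    rw [r.eqv _ (s.E_SU _ _ _) _ _ e₃, Ea s n₂ e₃, n₁, E_fix ort ort, r.add1 s ort ort ort, r.adj _ _ _ ort, r.self])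
  obtain ⟨a', g₂⟩ := key u n' 1 (l.ne_zero 1) gu ort n₃ n₄ (by
    rw [r.eqv _ (s.E_SU _ _ _) _ _ e₃, E_fix ort ort, Ea s n₄ ort, n₅, r.add2 s ort ort ort, r.self])
  clear key
  obtain rfl : a' = a := by
    have := i.1.form1 n n'
    rw [g₁, g₂] at this
    simp only [hs s, n₁, hf_comm w n', n₅, hf_sw e₃] at this
    grind
  obtain ⟨c, hc⟩ := s.W1 (s.mem_W (T := Submodule.span F {v}) (i.1.mul1 (E_sem u (a' • w) 0)) fun p o => by
    have o := o v (Submodule.mem_span_singleton_self v)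
    have q := W_fix i (x := p + hf 1 p u • n + hf 1 p w • n') (mem_pp.1 (mem_pp_span.2 fun _ ⟨j, e⟩ => e ▸ by
      fin_cases j <;> simp [*, CharTwo.add_self_eq_zero]))
    rw [Perm.mul_apply, Eap s _ _ ort]
    simp only [i.1.add, i.1.smul1, g₁, g₂, gu, gw, hs s] at q ⊢
    ext j
    have := congrFun q j
    simp only [Pi.add_apply, Pi.smul_apply, smul_eq_mul] at this ⊢
    grind)
  exact ⟨a', c, by rw [d, um s (E_sem ..) (E_sem ..), ← hc, mul_assoc g, s.E_sq, mul_one]⟩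

theorem ka (e : Y0 ρ t y) : ∃ a, Ka ρ b y a := by
  have s := sy.toSm
  have r := f.toRb
  obtain ⟨z, hz, z', hz', l₁, l₂, l₃, -⟩ := sy.ex3
  have o := fun {x y} => @S1.or0 F _ _ _ m x y
  have h₀ := s.b0V
  have h₁ := s.b1V
  obtain ⟨a, c, d⟩ := f.k1 sy e l₁ (o h₁ h₀) (o hz h₀) (o h₁ hz)
  have k₂ : ∀ v u w, LinearIndependent F ![v, u, w] → hf 1 u v = 0 → hf 1 w v = 0 → hf 1 u w = 0 →
      y v * b u w * (y v)⁻¹ = b u w * (tv ρ v c * ev ρ u (a • w) 0) := fun v u w l e₁ e₂ e₃ => by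
    obtain ⟨g, i, q⟩ := s.witt0 l₁ l fun i j => by
      fin_cases i <;> fin_cases j <;> simp [s.iso, e₁, e₂, e₃, hf_sw e₁, hf_sw e₂, hf_sw e₃, o, h₀, h₁, hz]
    obtain rfl : g (bv 0) = v := q 0
    obtain rfl : g (bv 1) = u := q 1
    obtain rfl : g z = w := q 2
    rw [← e.ye g i, ← r.eqv g i _ _ (o h₁ hz), ← cj3, d, conj_mul_conj, conj_mul_conj, Tc s i, Ec s i, (su_sem i).smul1]
  have ad : ∀ c v u w p, hf 1 u v = 0 → hf 1 w v = 0 → hf 1 p v = 0 → hf 1 w u = 0 → hf 1 p u = 0 → hf 1 w p = 0 →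
      y v * b u w * (y v)⁻¹ = b u w * (tv ρ v c * ev ρ u (a • w) 0) → y v * b u p * (y v)⁻¹ = b u p * (tv ρ v c * ev ρ u (a • p) 0) →
      y v * b u (w + p) * (y v)⁻¹ = b u (w + p) * (tv ρ v 0 * ev ρ u (a • (w + p)) 0) := fun c v u w p e₁ e₂ e₃ e₄ e₅ e₆ d₁ d₂ => by
    have := hf_sw e₁; have := hf_sw e₂; have := hf_sw e₃; have := hf_sw e₄; have := hf_sw e₅; have := hf_sw e₆
    rw [r.add2 s ort ort ort, conj_mul_conj, d₁, d₂]
    clear d d₁ d₂ k₂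
    simp only [mul_assoc, r.eb' s, hs s, *]
    exact pt
  obtain rfl : c = 0 := by
    have := ad c _ _ _ _ (o h₁ h₀) (o hz h₀) (o hz' h₀) (o hz h₁) (o hz' h₁) (o hz hz') d (k₂ _ _ _ l₂ (o h₁ h₀) (o hz' h₀) (o h₁ hz'))
    rw [k₂ _ _ _ l₃ (o h₁ h₀) (o (add_mem hz hz') h₀) (o h₁ (add_mem hz hz')), mul_right_inj, mul_left_inj] at this
    exact f.t1' s s.b0 (by simpa [tv] using this)
  have sw : ∀ v u w, hf 1 u v = 0 → hf 1 w v = 0 → hf 1 u w = 0 → y v * b u w * (y v)⁻¹ = b u w * (tv ρ v 0 * ev ρ u (a • w) 0) →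
      y v * b w u * (y v)⁻¹ = b w u * (tv ρ v 0 * ev ρ w (a • u) 0) := fun v u w e₁ e₂ e₃ q => by
    have := hf_sw e₁; have := hf_sw e₂; have := hf_sw e₃
    rw [r.sym u w e₃, conj_mul_conj, q, e.ey s ort ort]
    clear d q k₂ ad
    exact pt
  have k₃ : ∀ v u w, v ≠ 0 → u ∉ Submodule.span F {v} → hf 1 u v = 0 → hf 1 w v = 0 → hf 1 u w = 0 →
      y v * b u w * (y v)⁻¹ = b u w * (tv ρ v 0 * ev ρ u (a • w) 0) := fun v u w v0 n e₁ e₂ e₃ => by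
    have l : ∀ w, w ∉ Submodule.span F {v, u} → LinearIndependent F ![v, u, w] := fun w i =>
      li3 v0 (fun a e => n (Submodule.mem_span_singleton.2 ⟨a, e.symm⟩)) fun a b e => i (Submodule.mem_span_pair.2 ⟨a, b, e.symm⟩)
    by_cases i : w ∈ Submodule.span F {v, u}
    swap
    · exact k₂ _ _ _ (l w i) e₁ e₂ e₃
    obtain ⟨p, j, p₁, p₂, p₃⟩ := out3 sy v u w (pair_dim v u)
    have := hf_sw e₃; have := hf_sw p₂; have := hf_sw p₃
    simpa only [add_assoc, vv, add_zero] using ad 0 v u (w + p) p e₁ ort p₁ ort p₂ ort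
      (k₂ _ _ _ (l _ fun e => j ((Submodule.add_mem_iff_right _ i).1 e)) e₁ ort ort) (k₂ _ _ _ (l p j) e₁ p₁ ort)
  refine ⟨a, fun v u w v0 e₁ e₂ e₃ => (?_ : _ = b u w * (tv ρ v 0 * ev ρ u (a • w) 0)).trans (by simp [tv])⟩
  by_cases i : u ∈ Submodule.span F {v}
  swap
  · exact k₃ v u w v0 i e₁ e₂ e₃
  obtain ⟨p, j, p₁, p₂, p₃⟩ := out3 sy v u w ((one_dim v).trans one_le_two)
  have := hf_sw e₃; have := hf_sw p₂; have := hf_sw p₃
  refine sw v w u e₂ e₁ ort ?_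
  simpa only [add_assoc, vv, add_zero] using ad 0 v w (u + p) p e₂ ort p₁ ort p₃ ort
    (sw _ _ _ ort e₂ ort (k₃ _ _ _ v0 (fun e => j ((Submodule.add_mem_iff_right _ i).1 e)) ort e₂ ort)) (sw _ _ _ p₁ e₂ p₃ (k₃ _ _ _ v0 j p₁ e₂ p₃))

end CB

end CF.Dq
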