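import Cfsg.Agent.Dq.C1

/-! A standard symplectic subgroup in characteristic two: relations of the square roots of the transvections. -/

set_option autoImplicit false
set_option linter.unusedSectionVars false
set_option linter.unusedVariables false

namespace CF.Dq

open Subgroup Equiv CF.Loc CF.LX CF.Ud Module C3
open CF.Sq (ev)

variable {F : Type} [Field F] [Fintype F] [CharP F 2] {m : ℕ} {a c k δ : F} {g : Perm (Fin m → F)} {u v w n p w' n' : Fin m → F}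
  {T : Submodule F (Fin m → F)} {G : Type*} [Group G] [Finite G] {ρ : SU (1 : F ≃+* F) m →* G} {t h x z : G}
  {b : (Fin m → F) → (Fin m → F) → G} {y : (Fin m → F) → G}

theorem Y0.ey1 (s : Sm F m) (e : Y0 ρ t y) (l : hf 1 v w = 0) (l' : hf 1 v n = 0) : ev ρ w n a * y v = y v * ev ρ w n a :=
  (conj_eq_iff.1 (e.ey s l l')).symm
theorem Y0.ey2 (s : Sm F m) (e : Y0 ρ t y) (l : hf 1 v w = 0) (l' : hf 1 v n = 0) (z : G) :
    ev ρ w n a * (y v * z) = y v * (ev ρ w n a * z) := by rw [← mul_assoc, e.ey1 s l l', mul_assoc]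
theorem Rb.c2 (s : Sm F m) (r : Rb ρ b k) (e : hf 1 w v = 0) (e₁ : hf 1 n v = 0) (e₂ : hf 1 n w = 0) (e₃ : hf 1 p v = 0) (e₄ : hf 1 p w = 0)
    (e₅ : hf 1 n p = 0) : b w n * b v p = b v p * b w n := by simp [r.key s e e₁ e₂ e₃ e₄, e₅, ev]
theorem Rb.bs (r : Rb ρ b k) (v : Fin m → F) : b v v = tv ρ v 1 := by simpa using r.self v 1
theorem Y0.cb (s : Sm F m) (e : Y0 ρ t y) (l : Ka ρ b y 0) (v u w : Fin m → F) (e₁ : hf 1 u v = 0) (e₂ : hf 1 w v = 0) (e₃ : hf 1 u w = 0) :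
    y v * b u w = b u w * y v := by
  by_cases v0 : v = 0
  · simp [v0, e.zero]
  · exact conj_eq_iff.1 (by simpa [ev] using l v u w v0 e₁ e₂ e₃)

namespace CB
section
variable (s : Sm F m) (f : CB ρ t b k)
include s f

theorem yt (e : Y0 ρ t y) (v : Fin m → F) : t * y v = y v * (t * tv ρ v 1) := by
  rw [← mul_inv_eq_iff_eq_mul.trans eq_comm, conj_mul_conj, e.tw, e.ey s ort ort, mul_assoc, ee s, mul_one]
theorem sq0 (e : Y0 ρ t y) : ∃ a, ∀ v, y v * y v = tv ρ v a := by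
  obtain ⟨g, i, d⟩ := f.cY0 s (s.ti_one (bv 0)) (h := y (bv 0) * y (bv 0))
    (mem_c1.2 (conj_eq_iff.1 (by rw [cj2, e.tw, conj_mul_conj, e.tw, e.ey s ort ort, mul_assoc, ee s, mul_one]))) fun v o => by
      have := o _ (Submodule.mem_span_singleton_self _)
      exact conj_eq_iff.1 (by rw [cj2, e.ey s ort ort, e.ey s ort ort])
  obtain ⟨a, rfl⟩ := s.W1 i
  rcases d with d | d
  · refine ⟨a, fun v => ?_⟩
    by_cases v0 : v = 0
    · simp [v0, e.zero, S1.T0]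
    obtain ⟨g, i, rfl⟩ := s.witt1 s.b0 v0
    rw [← e.ye g i, ← conj_mul_conj, d, Tc s i]
  have q : y (bv 0) * (t * tv ρ (bv 0) a) * (y (bv 0))⁻¹ = t * tv ρ (bv 0) a := by rw [← d]; group
  rw [conj_mul_conj, e.tw, e.ey s ort ort, mul_left_inj, mul_eq_left] at q
  exact absurd (f.t1' s s.b0 q) one_ne_zero
theorem rel (e : Y0 ρ t y) (o : hf 1 u w = 0) : ∃ a c d : F, y (u + w) = b u w * y u * y w * (tv ρ u a * tv ρ w c * ev ρ u (d • w) 0) ∨
    y (u + w) = b u w * y u * y w * t * (tv ρ u a * tv ρ w c * ev ρ u (d • w) 0) := by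
  have r := f.toRb
  have := hf_sw o
  obtain ⟨g, i, d⟩ := f.cY' s (s.ti_two o) (x := y (u + w)) (z := b u w * y u * y w) (by
    rw [cj2, cj2, e.tw, e.tw, conj_mul_conj (y u), e.tw, e.ey s ort ort, conj_mul_conj (b u w), conj_mul_conj (b u w), f.tw u w o, r.be0 s ort ort ort ort ort,
      r.be0 s ort ort ort ort ort]
    exact pt) fun v a => by
      have := a u (Submodule.subset_span (by simp)); have := a w (Submodule.subset_span (by simp))
      exact ⟨e.ey s ort ort, by rw [cj2, cj2, e.ey s ort ort, e.ey s ort ort, r.be0 s ort ort ort ort ort]⟩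
  obtain ⟨a, c, d', rfl⟩ := s.W2 o i
  rw [← um s (Sem.mul1 (E_sem ..) (E_sem ..)) (E_sem ..), ← um s (E_sem ..) (E_sem ..)] at d
  exact ⟨a, c, d', d⟩
end

variable (sy : Sy F m) (f : CB ρ t b k)
include sy f

theorem rel1 (e : Y0 ρ t y) (l : Ka ρ b y a) : a = 1 ∨ a = 0 ∧ ∃ a c d : F, ∀ u w, LinearIndependent F ![u, w] → hf 1 u w = 0 →
    y (u + w) = b u w * y u * y w * (tv ρ u a * tv ρ w c * ev ρ u (d • w) 0) := by
  have s := sy.toSm
  have r := f.toRb
  obtain ⟨u, w, li, o⟩ : ∃ u w : Fin m → F, LinearIndependent F ![u, w] ∧ hf 1 u w = 0 := ⟨_, _, s.li01, s.b01⟩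
  obtain ⟨p, j, p₁, p₂, -⟩ := out3 sy u w w ((one_dim u).trans one_le_two)
  have u0 : u ≠ 0 := li.ne_zero 0
  have w0 : w ≠ 0 := li.ne_zero 1
  have := hf_sw o; have := hf_sw p₁; have := hf_sw p₂
  have q := l (u + w) u p (fun e => one_ne_zero (LinearIndependent.pair_iff.1 li 1 1 (by simpa using e)).1) ort ort ort
  have key : ∀ c : F, b u w * y u * y w * (b u p * ev ρ u (c • p) 0) * (b u w * y u * y w)⁻¹ = b u p * ev ρ u (c • p) 0 := fun c => by
    rw [cj2, cj2, conj_mul_conj (y w), l w u p w0 ort ort ort, e.ey s ort ort, conj_mul_conj (y u), conj_mul_conj (y u), l u u p u0 ort ort ort,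
      e.ey s ort ort, e.ey s ort ort, mul_assoc (b u p), ee s, mul_one, conj_mul_conj, conj_eq_iff.2 (r.c1 s ort ort), r.be0 s ort ort ort ort ort]
  obtain ⟨a₁, a₂, d, h⟩ := f.rel s e o
  have c : tv ρ u a₁ * tv ρ w a₂ * ev ρ u (d • w) 0 * b u p * (tv ρ u a₁ * tv ρ w a₂ * ev ρ u (d • w) 0)⁻¹ = b u p := by
    rw [cj2, cj2, conj_eq_iff.2 (r.eb s ort ort ort ort ort), conj_eq_iff.2 (r.eb s ort ort ort ort ort),
      conj_eq_iff.2 (r.eb s ort ort ort ort ort)]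
  rcases h with h | h
  · have := key 0
    rw [zero_smul, ev, E_zero, up_one, mul_one] at this
    rw [h, cj2, c, this, left_eq_mul] at q
    refine .inr ⟨(f.w2 s (li_two u0 j) ort (a := 0) (c := 0) (by simp [q, tv])).2.2, a₁, a₂, d, fun u' w' li' o' => ?_⟩
    obtain ⟨g, i, rfl, rfl⟩ := s.wittP li li' (o.trans o'.symm)
    rw [← (su_sem i).add, ← e.ye g i, h, conj_mul_conj, conj_mul_conj, conj_mul_conj, conj_mul_conj, conj_mul_conj, r.eqv g i _ _ o, e.ye g i,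
      e.ye g i, Tc s i, Tc s i, Ec s i, (su_sem i).smul1]
  · have := key 1
    rw [one_smul] at this
    rw [h, cj2, c, cj2, f.tb s ort, this, mul_right_inj] at q
    have := (f.w2 s (li_two u0 j) ort (a := 0) (c := 0) (d := a + 1) (by
      rw [← ee (ρ := ρ) s u p 0]
      conv_rhs => rhs; rw [q]
      clear key c h q this
      exact pt)).2.2
    exact .inl (by grind)

theorem ry0 (e : Y0 ρ t y) (l : Ka ρ b y 0) : ∃ y, Y0 ρ t y ∧ Ry ρ b y k := by
  have s := sy.toSm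
  have r := f.toRb
  have cb := e.cb s l
  obtain ⟨a₁, a₂, d, h⟩ := ((f.rel1 sy e l).resolve_left zero_ne_one).2
  obtain ⟨κ, sq⟩ := f.sq0 s e
  obtain ⟨u, w, li, o, l₁, l₂⟩ : ∃ u w : Fin m → F, LinearIndependent F ![u, w] ∧ hf 1 u w = 0 ∧ LinearIndependent F ![w, u] ∧
      LinearIndependent F ![u, u + w] := ⟨_, _, s.li01, s.b01, LinearIndependent.pair_symm_iff.1 s.li01,
    LinearIndependent.pair_iff.2 fun a c e => by
      have := LinearIndependent.pair_iff.1 s.li01 (a + c) c (by rw [← e]; module)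
      grind⟩
  have o' := hf_sw o
  have h₁ := h u w li o
  have h₂ := h w u l₁ o'
  have h₃ := h u (u + w) l₂ ort
  have yb : ∀ v z, hf 1 u v = 0 → hf 1 w v = 0 → y v * (b u w * z) = b u w * (y v * z) := fun v z a c => by
    rw [← mul_assoc, cb v u w a c o, mul_assoc]
  have sw : y w * y u = y u * y w * (tv ρ u (a₁ + a₂) * tv ρ w (a₁ + a₂) * ev ρ u w 0) := by
    rw [add_comm, h₁, r.sym u w o] at h₂
    simp only [mul_assoc, mul_right_inj, e.ey2 s, hs s, o, o'] at h₂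
    refine mul_right_cancel (b := ev ρ u w 0 * (tv ρ w a₁ * (tv ρ u a₂ * ev ρ w (d • u) 0))) ?_
    rw [mul_assoc, ← h₂]
    clear h h₁ h₂ h₃ sq yb cb
    exact pt
  obtain ⟨e₁, -, e₂⟩ := f.w2 s li o (a := a₁ + a₂) (c := a₁ + a₂) (d := κ + 1) (by
    have q := sq (u + w)
    rw [h₁] at q
    simp only [mul_assoc, e.ey2 s, r.eb' s, yb, cn (r.bb s o'), hs s, o, o'] at q
    rw [← mul_assoc (y w), sw] at q
    simp only [mul_assoc, e.ey2 s, hs s, o, o'] at q
    rw [← mul_assoc (y u), ← mul_assoc (y w), sq, sq] at q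
    rw [← (congrArg (tv ρ (u + w) κ * ·) q).trans (ee s ..)]
    clear h h₁ h₂ h₃ sq yb cb sw q
    exact pt)
  obtain rfl : κ = 1 := by grind
  obtain rfl : a₁ = a₂ := by grind
  obtain rfl : a₁ = 0 := by
    rw [← add_assoc, vv, zero_add, h₁, add_comm u w, r.add2 s ort ort ort, r.bs] at h₃
    simp only [mul_assoc, e.ey2 s, r.eb' s, yb, cn (r.bb s o'), hs s, o, o'] at h₃
    rw [← mul_assoc (y u), sq, e.ey2 s ort ort, left_eq_mul] at h₃
    refine (f.w2 s li o (c := 0) (d := a₁) (h₃ ▸ ?_)).1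
    clear h h₁ h₂ h₃ sq yb cb sw
    exact pt
  clear h₁ h₂ h₃ yb sw e₁ e₂ li l₁ l₂ o o' u w
  obtain ⟨y', hy⟩ : ∃ y' : (Fin m → F) → G, ∀ v, y' v = y v * tv ρ v d := ⟨_, fun _ => rfl⟩
  have e' : Y0 ρ t y' := ⟨by simp [hy, e.zero, S1.T0], fun g i v => by rw [hy, hy, conj_mul_conj, e.ye g i, Tc s i],
    fun v => by rw [hy, cj2, f.ct' s, e.tw]⟩
  have cb' : ∀ v u w, hf 1 u v = 0 → hf 1 w v = 0 → hf 1 u w = 0 → y' v * b u w = b u w * y' v := fun v u w a c o => by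
    rw [hy, mul_assoc, r.eb s o a ort c ort, ← mul_assoc, cb v u w a c o, mul_assoc]
  have sq' : ∀ v, y' v * y' v = tv ρ v 1 := fun v => by rw [hy, mul_assoc, e.ey2 s ort ort, ee s, mul_one, sq]
  have pol : ∀ u w, u ≠ 0 → w ∉ Submodule.span F {u} → hf 1 u w = 0 → y' (u + w) = b u w * y' u * y' w := fun u w u0 n o => by
    have := hf_sw o
    rw [hy, hy, hy, h u w (li_two u0 n) o]
    clear h sq sq' cb cb' hy
    simp only [mul_assoc, e.ey2 s, hs s, *]
    exact pt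
  refine ⟨y', e', r, e'.zero, e'.ye, sq', fun u w o => ?_, cb'⟩
  by_cases u0 : u = 0
  · simp [u0, e'.zero, (r.b0 s w).2]
  by_cases w0 : w = 0
  · simp [w0, e'.zero, (r.b0 s u).1]
  by_cases uw : u + w = 0
  · obtain rfl := add_eq0.1 uw
    rw [uw, e'.zero, mul_assoc, sq', r.bs, ee s]
  obtain ⟨p, j, p₁, p₂, -⟩ := out3 sy u w w (pair_dim u w)
  have m : ∀ v ∈ Submodule.span F {u, w}, Submodule.span F {v} ≤ Submodule.span F {u, w} := fun v => (Submodule.span_singleton_le_iff_mem _ _).2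
  have hu : u ∈ Submodule.span F {u, w} := Submodule.subset_span (by simp)
  have hw : w ∈ Submodule.span F {u, w} := Submodule.subset_span (by simp)
  have := hf_sw o; have := hf_sw p₁; have := hf_sw p₂
  have q := pol u (w + p) u0 (fun e => j ((Submodule.add_mem_iff_right _ hw).1 (m u hu e))) ort
  rw [← add_assoc, pol _ p uw (fun e => j (m _ (add_mem hu hw) e)) ort, pol w p w0 (fun e => j (m w hw e)) ort, ← mul_assoc, mul_left_inj,
    r.add1 s ort ort ort, r.add2 s ort ort ort, r.c1 s (n := w) ort ort, ← mul_assoc, mul_assoc _ (y' u) (b w p), cb' u w p ort ort ort,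
    ← mul_assoc, mul_assoc (b u p) (b u w), r.c2 s (w := u) (n := w) ort ort ort ort ort ort] at q
  simpa only [mul_assoc, mul_right_inj] using q

theorem ry (e : Xe ρ t x δ) : ∃ y, Y0 ρ t y ∧ Ry ρ b y k := by
  classical
  have s := sy.toSm
  obtain rfl := f.d0 sy e
  have i : x ∈ 𝐂(im ρ (Y 1 (bv 0))) := fun z d => by
    obtain ⟨g, j, j', rfl⟩ := mem_im.1 d
    obtain ⟨g, d', rfl⟩ := s.Y_gen (H := ((𝐂₁(x)).comap ρ).map (SU 1 m).subtype) s.b0 (fun w o => by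
      obtain ⟨c, q⟩ := S1.rt (1 + Q0 F m w)
      have := e.ac w c o q
      rw [zero_mul, zero_smul, add_zero, mul_zero, tv, tv, E_zero, up_one, mul_one, up_eq (tv_SU _ _)] at this
      exact ⟨⟨_, tv_SU _ _⟩, mem_c1.2 (conj_eq_iff.1 this).symm, rfl⟩) j
    rw [up_eq j']
    exact mem_c1.1 d'
  obtain ⟨y, h, -⟩ := f.y0 sy i e.tw
  obtain ⟨a, l⟩ := f.ka sy h
  rcases f.rel1 sy h l with rfl | ⟨rfl, -⟩
  swap
  · exact f.ry0 sy h l
  refine f.ry0 sy (y := fun v => if v = 0 then 1 else y v * t) ⟨if_pos rfl, fun g i v => ?_, fun v => ?_⟩ fun v u w v0 e₁ e₂ e₃ => ?_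
  · by_cases v0 : v = 0
    · simp [v0, (su_sem i).zero]
    · rw [if_neg v0, if_neg ((su_sem i).ne v0), conj_mul_conj, h.ye g i, f.ct' s]
  · by_cases v0 : v = 0
    · simp [v0, S1.T0]
    · rw [if_neg v0, cj2, mul_inv_cancel_right, h.tw]
  · simp only [if_neg v0]
    rw [cj2, f.tb s e₃, conj_mul_conj, l v u w v0 e₁ e₂ e₃, h.ey s (hf_sw e₁) (hf_sw e₂), one_smul, mul_assoc, ee s, zero_smul, ev, E_zero, up_one]

theorem nor (e : Y0 ρ t y) (r : Ry ρ b y k) : 𝐂₁(t) ≤ 𝐍(ρ.range ⊔ closure (Set.range y)) := fun h i => by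
  have s := sy.toSm
  obtain ⟨ξ, ⟨θ, o⟩, j⟩ := f.ind h i
  have c : h * t * h⁻¹ = t := conj_eq_iff.2 (mem_c1.1 i)
  have hT : ∀ v, h * tv ρ v 1 * h⁻¹ = tv ρ (ξ v) 1 := fun v => by rw [j _ (tv_SU _ _), tv_cj o, map_one]
  refine mem_normalizer_of_cj_le ((cj_sup ..).trans_le (sup_le ((cj_eq_self (j.nor o)).trans_le le_sup_left)
    (map_le_iff_le_comap.2 ((closure_le _).2 ?_))))
  rintro _ ⟨v, rfl⟩
  change h * y v * h⁻¹ ∈ ρ.range ⊔ closure (Set.range y)
  by_cases v0 : v = 0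
  · simp [v0, e.zero]
  obtain ⟨g, l, d | d⟩ := f.cY' s (s.ti_one (ξ v)) (x := h * y v * h⁻¹) (z := y (ξ v))
    (by conv_lhs => rw [← c, ← cj3, e.tw, conj_mul_conj, c, hT, ← e.tw]) fun p a => by
      obtain ⟨p, rfl⟩ := ξ.surjective p
      have a := a _ (Submodule.mem_span_singleton_self _)
      refine ⟨?_, e.ey s a ort⟩
      rw [o.form, map_eq_zero] at a
      rw [← hT, ← cj3, e.ey s a ort]
  · exact d ▸ mul_mem (mem_sup_right (subset_closure ⟨_, rfl⟩)) (mem_sup_left (up_range _))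
  obtain ⟨a, rfl⟩ := s.W1 l
  have q : h * y v * h⁻¹ * (h * y v * h⁻¹) = tv ρ (ξ v) 1 := by rw [← conj_mul_conj, r.sq, hT]
  rw [d, mul_assoc, mul_assoc, mul_assoc, e.ey2 s ort ort, ← mul_assoc (ev ..), S1.cL f.cm, mul_assoc t (ev ..), ee s, mul_one, ← mul_assoc t,
    f.yt s e, mul_assoc, mul_assoc, S1.cL f.cm, cn f.t2, ← mul_assoc, r.sq, mul_eq_left] at q
  exact absurd (f.t1' s (o.ne v0) q) one_ne_zero

end CB

end CF.Dq
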