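import Cfsg.Agent.Dq.C

/-! A standard symplectic subgroup in characteristic two: words in the doubled elements of type `a₂`. -/

set_option autoImplicit false
set_option linter.unusedSectionVars false
set_option linter.unusedVariables false

namespace CF.Dq

open Subgroup Equiv CF.Loc CF.LX CF.Ud Module
open CF.Sq (ev)

variable {F : Type} [Field F] [Fintype F] [CharP F 2] {m : ℕ} {a c k ζ ζ' : F} {g g' : Perm (Fin m → F)} {u v w n p w' n' : Fin m → F}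
  {G : Type*} [Group G] [Finite G] {ρ : SU (1 : F ≃+* F) m →* G} {t x z : G} {H : Subgroup G}
  {b : (Fin m → F) → (Fin m → F) → G} {y : (Fin m → F) → G}

namespace C3

theorem ind {S : Set G} {P : G → Prop} (i : x ∈ closure S) (o : P 1) (l : ∀ a ∈ S, ∀ z, P z → P (a * z)) : P x := by
  rw [← mem_toSubmonoid, closure_toSubmonoid_of_finite] at i
  induction i using Submonoid.closure_induction_left with
  | one => exact o
  | mul_left a ha z _ h => exact l a ha z h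
theorem iv (e : x * x = 1) : x⁻¹ = x := inv_eq_of_mul_eq_one_right e
theorem cn (e : x * x = 1) (z : G) : x * (x * z) = z := by rw [← mul_assoc, e, one_mul]
theorem eJ (v n : Fin m → F) (ζ : F) : ev ρ v n ζ ∈ JB ρ b v := subset_closure (.inl ⟨_, E_Q _ _ _, rfl⟩)
theorem bJ (e : hf 1 n v = 0) : b v n ∈ JB ρ b v := subset_closure (.inr ⟨_, e, rfl⟩)
theorem e0 (n : Fin m → F) : ev ρ 0 n 0 = 1 := by
  by_cases h : Ok 1 0 n (0 : F)
  · rw [ev, E_swap iv1 (hf_zero_l _) (by simpa using h.tr.symm) (hf_zero_l _), E_zero, up_one]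
  · rw [ev, E_junk h, up_one]

section sm
variable (s : Sm F m)
include s

theorem Eap (v n : Fin m → F) (e : hf 1 n v = 0) (ζ : F) (y : Fin m → F) :
    E 1 v n ζ y = y + hf 1 y v • n + (hf 1 y n + ζ * hf 1 y v) • v := E_ap (s.ok e ζ) y
theorem Ea (e : hf 1 n v = 0) (e' : hf 1 w v = 0) (ζ : F) : E 1 v n ζ w = w + hf 1 n w • v := by
  simp [Eap s v n e, e', hf_comm w]
theorem hs : (∀ x y w : Fin m → F, hf 1 (x + y) w = hf 1 x w + hf 1 y w) ∧ (∀ x y w : Fin m → F, hf 1 w (x + y) = hf 1 w x + hf 1 w y) ∧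
    (∀ (c : F) (x y : Fin m → F), hf 1 (c • x) y = c * hf 1 x y) ∧ (∀ (c : F) (x y : Fin m → F), hf 1 x (c • y) = c * hf 1 x y) ∧
    (∀ x : Fin m → F, hf 1 x x = 0) ∧ (∀ x : Fin m → F, hf 1 0 x = 0) ∧ (∀ x : Fin m → F, hf 1 x 0 = 0) ∧ (∀ a : F, a * 0 = 0) ∧
    (∀ a : F, a * 1 = a) ∧ (∀ a : F, a + 0 = a) ∧ (∀ a : F, 0 + a = a) ∧ ∀ a : F, a + a = 0 :=
  ⟨hf_add_l, hf_add_r, hf_smul_l, hf_smr, s.iso, hf_zero_l, hf_zero_r, mul_zero, mul_one, add_zero, zero_add, CharTwo.add_self_eq_zero⟩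
theorem um (a : Sem 1 1 g) (b : Sem 1 1 g') : up ρ g * up ρ g' = up ρ (g * g') := (up_mul (s.mem_SU a) (s.mem_SU b)).symm
theorem Ec (i : g ∈ SU (1 : F ≃+* F) m) (v n : Fin m → F) (a : F) : up ρ g * ev ρ v n a * (up ρ g)⁻¹ = ev ρ (g v) (g n) a := by
  rw [← up_cj i (s.E_SU _ _ _), E_cj1 (su_sem i)]
theorem Tc (i : g ∈ SU (1 : F ≃+* F) m) (v : Fin m → F) (a : F) : up ρ g * tv ρ v a * (up ρ g)⁻¹ = tv ρ (g v) a := by
  rw [Ec s i, (su_sem i).zero]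
theorem ee (v n : Fin m → F) (ζ : F) : ev ρ v n ζ * ev ρ v n ζ = 1 := by rw [um s (E_sem ..) (E_sem ..), s.E_sq, up_one]
theorem JB_le (h : ∀ n ζ, hf 1 n v = 0 → ev ρ v n ζ ∈ H) (h' : ∀ n, hf 1 n v = 0 → b v n ∈ H) : JB ρ b v ≤ H :=
  (closure_le _).2 (by
    rintro _ (⟨_, i, rfl⟩ | ⟨n, e, rfl⟩)
    · obtain ⟨n, ζ, o, rfl⟩ := (mem_Q iv1 (s.iso v)).1 i
      exact h n ζ o.nv
    · exact h' n e)
theorem JB_cj (h : ∀ n ζ, hf 1 n v = 0 → x * ev ρ v n ζ * x⁻¹ ∈ H) (h' : ∀ n, hf 1 n v = 0 → x * b v n * x⁻¹ ∈ H) :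
    cj[x] (JB ρ b v) ≤ H := map_le_iff_le_comap.2 (JB_le s h h')
theorem p1 (h : w ∉ Submodule.span F {v}) : ∃ n, hf 1 n w = 1 ∧ hf 1 n v = 0 :=
  let ⟨n, a, b⟩ := s.part h; ⟨n, a, b _ (Submodule.mem_span_singleton_self _)⟩
theorem p2 (h : w ∉ Submodule.span F {u, v}) : ∃ n, hf 1 n w = 1 ∧ hf 1 n u = 0 ∧ hf 1 n v = 0 :=
  let ⟨n, a, b⟩ := s.part h; ⟨n, a, b _ (Submodule.subset_span (by simp)), b _ (Submodule.subset_span (by simp))⟩
end sm

set_option hygiene false in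
/-- orthogonality side conditions -/
scoped notation "ort" => (by simp only [C3.hs s, *])

set_option hygiene false in
/-- pointwise comparison of products of Eichler transformations -/
scoped notation "pt" => (by
  try simp (disch := repeat' first | exact E_sem .. | apply Sem.mul1) only [mul_assoc, C3.um s]
  repeat with_reducible refine congrArg (HMul.hMul _) ?_
  refine congrArg (up _) (Equiv.ext fun y => ?_)
  simp only [Perm.mul_apply, Perm.one_apply, C3.Eap s, C3.hs s, *]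
  ext i
  simp only [Pi.add_apply, Pi.smul_apply, smul_eq_mul, Pi.zero_apply]
  grind)

end C3

open C3

namespace Rb
variable (s : Sm F m) (r : Rb ρ b k)
include s r

theorem b0 (v : Fin m → F) : b v 0 = 1 ∧ b 0 v = 1 := by
  have : b v 0 = 1 := by simpa [tv] using r.self v 0
  exact ⟨this, by simpa [this] using r.adj v v 0 (s.iso v)⟩
theorem bb (e : hf 1 n v = 0) : b v n * b v n = 1 := by
  rw [r.mul v n n e e, vv, (r.b0 s v).1, s.iso, mul_zero, tv, E_zero, up_one, mul_one]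
theorem cm (i : g ∈ SU (1 : F ≃+* F) m) (e : hf 1 u v = 0) (a : g u = u) (c : g v = v) : up ρ g * b u v = b u v * up ρ g :=
  conj_eq_iff.1 (by rw [r.eqv g i u v e, a, c])
theorem eb (e : hf 1 u v = 0) (e₁ : hf 1 u w = 0) (e₂ : hf 1 u n = 0) (e₃ : hf 1 v w = 0) (e₄ : hf 1 v n = 0) :
    ev ρ w n ζ * b u v = b u v * ev ρ w n ζ := r.cm s (s.E_SU _ _ _) e (E_fix e₁ e₂ _) (E_fix e₃ e₄ _)
theorem eb' (e : hf 1 u v = 0) (e₁ : hf 1 u w = 0) (e₂ : hf 1 u n = 0) (e₃ : hf 1 v w = 0) (e₄ : hf 1 v n = 0) (z : G) :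
    ev ρ w n ζ * (b u v * z) = b u v * (ev ρ w n ζ * z) := by rw [← mul_assoc, r.eb s e e₁ e₂ e₃ e₄, mul_assoc]
theorem mul' (e : hf 1 n v = 0) (e' : hf 1 n' v = 0) : b v n * b v n' = tv ρ v (k * hf 1 n n') * b v (n + n') := by
  have := hf_sw e; have := hf_sw e'
  rw [r.mul _ _ _ e e', r.eb s ort ort ort ort ort]
theorem c1 (e : hf 1 n v = 0) (e' : hf 1 n' v = 0) : b v n * b v n' = b v n' * b v n := by
  rw [r.mul _ _ _ e e', r.mul _ _ _ e' e, add_comm, hf_comm]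
theorem add2 (e : hf 1 n v = 0) (e' : hf 1 n' v = 0) (e'' : hf 1 n n' = 0) : b v (n + n') = b v n * b v n' := by
  rw [r.mul _ _ _ e e', e'', mul_zero, tv, E_zero, up_one, mul_one]
theorem add3 (e : hf 1 n v = 0) (e' : hf 1 n' v = 0) : b v (n + n') = b v n * b v n' * tv ρ v (k * hf 1 n n') := by
  rw [r.mul _ _ _ e e', mul_assoc, ee s, mul_one]
theorem add1 (e : hf 1 u v = 0) (e' : hf 1 n u = 0) (e'' : hf 1 n v = 0) : b (u + v) n = b u n * b v n := by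
  have := hf_sw e; have := hf_sw e'; have := hf_sw e''
  rw [r.sym n _ ort, r.sym n u e', r.sym n v e'', r.add2 s ort ort e]
  simp only [mul_assoc, r.eb' s, hs s, *]
  exact pt
theorem sw (e : hf 1 u v = 0) (c : F) : b u (c • v) = b v (c • u) * ev ρ v (c • u) 0 := by
  have := hf_sw e
  rw [← r.adj _ _ _ e, r.sym v _ ort]
theorem be (e₁ : hf 1 w v = 0) (e₂ : hf 1 p v = 0) (e₃ : hf 1 p w = 0) (e₄ : hf 1 n v = 0) (ζ : F) :
    b w p * ev ρ v n ζ * (b w p)⁻¹ = ev ρ v (n + hf 1 n p • w) ζ * b v (hf 1 n w • p + hf 1 n p • w) := by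
  have := hf_sw e₁; have := hf_sw e₂; have := hf_sw e₃; have := hf_sw e₄
  have h := r.eqv _ (s.E_SU v n ζ) w p ort
  rw [Ea s e₄ e₁, Ea s e₄ e₂] at h
  obtain ⟨a, ha⟩ : ∃ a, hf 1 n w = a := ⟨_, rfl⟩
  obtain ⟨c, hc⟩ : ∃ c, hf 1 n p = c := ⟨_, rfl⟩
  have ha' := (hf_comm w n).trans ha
  rw [ha, hc, add_comm w, r.add1 s ort ort ort, r.adj _ _ _ ort, smul_add, r.add2 s ort ort ort, smul_smul, r.self, add_comm p,
    r.add2 s ort ort ort, r.sw s e₁, iv (ee s ..)] at h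
  rw [show b w p * ev ρ v n ζ = ev ρ v n ζ * (ev ρ v n ζ * b w p * ev ρ v n ζ) by rw [mul_assoc, cn (ee s ..)], h, ha, hc, r.add2 s ort ort ort,
    show ev ρ v (n + c • w) ζ = ev ρ v n ζ * (tv ρ v (a * c) * ev ρ v (c • w) 0) from pt]
  clear h
  generalize ev ρ v n ζ = z
  simp only [mul_assoc, mul_inv_cancel, mul_one]
  simp only [r.eb s, r.eb' s, hs s, *]
theorem key (e : hf 1 w v = 0) (e₁ : hf 1 n v = 0) (e₂ : hf 1 n w = 0) (e₃ : hf 1 p v = 0) (e₄ : hf 1 p w = 0) :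
    b w n * b v p = b v p * b w n * ev ρ v ((k * hf 1 n p) • w) 0 := by
  have := hf_sw e; have := hf_sw e₁; have := hf_sw e₂; have := hf_sw e₃; have := hf_sw e₄
  have h := r.add3 s (v := v + w) (n := n) (n' := p) ort ort
  rw [r.add1 s ort ort ort, r.add1 s ort ort ort, r.add1 s ort ort ort, r.add3 s e₁ e₃, r.add3 s e₂ e₄] at h
  generalize k * hf 1 n p = β at h ⊢
  rw [show tv ρ (v + w) β = ev ρ v (β • w) 0 * (tv ρ v β * tv ρ w β) from pt] at h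
  simp only [mul_assoc, r.eb' s, mul_right_inj, hs s, *] at h
  refine mul_right_cancel (b := b w p * (ev ρ v (β • w) 0 * (tv ρ v β * tv ρ w β))) ?_
  rw [mul_assoc, ← h]
  clear h
  simp only [mul_assoc, r.eb' s, cn (ee s ..), hs s, *]
theorem bc (e₁ : hf 1 w v = 0) (e₂ : hf 1 p v = 0) (e₃ : hf 1 p w = 0) (e₄ : hf 1 n v = 0) (e₅ : hf 1 n p = 0) :
    b w p * b v n * (b w p)⁻¹ = b v (n + hf 1 n w • p) * ev ρ v ((k * hf 1 n w) • p) 0 := by
  have := hf_sw e₁; have := hf_sw e₂; have := hf_sw e₃; have := hf_sw e₄; have := hf_sw e₅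
  have h := r.eqv _ (s.E_SU p w 0) v n ort
  rw [E_fix ort ort, Ea s ort e₅, hf_comm w] at h
  have l := r.key s (w := p) (n := w) (v := v) (p := n + hf 1 n w • p) ort ort ort ort ort
  rw [hf_add_r, hf_smr, ‹hf 1 w p = 0›, mul_zero, add_zero, hf_comm w] at l
  rw [r.sym p w e₃, show ∀ a b c : G, a * b * c * (a * b)⁻¹ = a * (b * c * b⁻¹) * a⁻¹ from fun _ _ _ => by group, h, l, mul_assoc _ (b p w),
    ← r.eb s ort ort ort ort ort]
  group
theorem nf (i : x ∈ JB ρ b v) : ∃ n ζ n', hf 1 n v = 0 ∧ hf 1 n' v = 0 ∧ x = ev ρ v n ζ * b v n' := by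
  have m : ∀ n ζ n' ζ', hf 1 n v = 0 → hf 1 n' v = 0 → ev ρ v n ζ * ev ρ v n' ζ' = ev ρ v (n + n') (ζ + ζ' + hf 1 n' n) :=
    fun n ζ n' ζ' a c => by rw [um s (E_sem ..) (E_sem ..), E_mul (s.ok a _) (s.ok c _)]
  refine ind (P := fun x => ∃ n ζ n', hf 1 n v = 0 ∧ hf 1 n' v = 0 ∧ x = ev ρ v n ζ * b v n') i ⟨0, 0, 0, ort, ort, by simp [(r.b0 s v).1, ev]⟩ ?_
  rintro _ (⟨_, i, rfl⟩ | ⟨p, e, rfl⟩) _ ⟨n, ζ, n', a, c, rfl⟩
  · obtain ⟨p, ζ', o, rfl⟩ := (mem_Q iv1 (s.iso v)).1 i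
    have := o.nv
    exact ⟨p + n, _, _, ort, c, by rw [← mul_assoc, m _ _ _ _ o.nv a]⟩
  · have := hf_sw e; have := hf_sw a; have := hf_sw c
    refine ⟨_, _, _, ?_, ?_, by
      rw [← mul_assoc, mul_inv_eq_iff_eq_mul.1 (r.be s (s.iso v) e e a ζ), mul_assoc, mul_assoc, r.mul' s e c, ← r.eb' s ort ort ort ort ort,
        r.mul' s ort ort, ← mul_assoc, ← mul_assoc, m _ _ _ _ ort ort, m _ _ _ _ ort ort]⟩ <;> exact ort
theorem jr (i : g ∈ SU (1 : F ≃+* F) m) (v : Fin m → F) : cj[up ρ g] (JB ρ b v) ≤ JB ρ b (g v) :=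
  JB_cj s (fun n ζ _ => by rw [Ec s i]; exact eJ _ _ _) fun n e => by
    rw [r.eqv g i _ _ (hf_sw e)]; exact bJ (((su_sem i).form1 ..).trans e)
theorem nu (i : g ∈ SU (1 : F ≃+* F) m) (e : g v = v) : up ρ g ∈ 𝐍(JB ρ b v) := mem_normalizer_of_cj_le (by simpa [e] using r.jr s i v)
theorem nb (e₁ : hf 1 w v = 0) (e₂ : hf 1 p v = 0) (e₃ : hf 1 p w = 0) : b w p ∈ 𝐍(JB ρ b v) := by
  have := hf_sw e₁; have := hf_sw e₂; have := hf_sw e₃
  by_cases h : p ∈ Submodule.span F {v, w}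
  · obtain ⟨a, c, rfl⟩ := Submodule.mem_span_pair.1 h
    rw [r.add2 s ort ort ort, r.sw s e₁, r.self]
    exact mul_mem (le_normalizer (mul_mem (bJ ort) (eJ _ _ _))) (r.nu s (tv_SU _ _) (E_fix ort ort _))
  obtain ⟨n₀, h₀, h₁, h₂⟩ := p2 s h
  refine mem_normalizer_of_cj_le (JB_cj s (fun n ζ e => ?_) fun n e => ?_)
  · rw [r.be s e₁ e₂ e₃ e]
    exact mul_mem (eJ _ _ _) (bJ ort)
  obtain ⟨c, hc⟩ : ∃ c, hf 1 n p = c := ⟨_, rfl⟩
  rw [show n = n + c • n₀ + c • n₀ by rw [add_assoc, vv, add_zero], r.add3 s ort ort, conj_mul_conj, conj_mul_conj,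
    r.bc s e₁ e₂ e₃ ort ort, conj_eq_iff.2 (r.eb s ort ort ort ort ort).symm]
  refine mul_mem (mul_mem (mul_mem (bJ ort) (eJ _ _ _)) ?_) (eJ _ _ _)
  rw [r.sym p w e₃, ← r.eb s ort ort ort ort ort, show ∀ a b c : G, a * b * c * (a * b)⁻¹ = a * (b * c * b⁻¹) * a⁻¹ from fun _ _ _ => by group,
    r.bc s e₂ e₁ ort ort ort]
  exact conj_mem_of_mem_normalizer (r.nu s (s.E_SU _ _ _) (E_fix ort ort _)) (mul_mem (bJ ort) (eJ _ _ _))
theorem ncl (e : hf 1 n v = 0) : b v n ∈ normalClosure (ρ.range : Set G) := by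
  have l : ∀ g, up ρ g ∈ normalClosure (ρ.range : Set G) := fun g => le_normalClosure (up_range g)
  by_cases h : n ∈ Submodule.span F {v}
  · obtain ⟨a, rfl⟩ := Submodule.mem_span_singleton.1 h
    exact r.self v a ▸ l _
  obtain ⟨p, h₀, h₁⟩ := p1 s h
  have := hf_sw e; have := hf_sw h₁
  have q := r.eqv _ (tv_SU n 1) v p ort
  rw [E_fix ort ort, s.tv_ap, h₀, mul_one, one_smul, add_comm, r.add3 s e h₁] at q
  rw [show b v n = tv ρ n 1 * (b v p * ((tv ρ n 1)⁻¹ * (tv ρ v (k * hf 1 n p))⁻¹) * (b v p)⁻¹) by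
    rw [eq_mul_inv_of_mul_eq (eq_mul_inv_of_mul_eq q.symm)]; group]
  exact mul_mem (l _) (normalClosure_normal.conj_mem _ (mul_mem (inv_mem (l _)) (inv_mem (l _))) _)

end Rb

end CF.Dq
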