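import Cfsg.Agent.Dq.C
import Cfsg.Agent.Sq.A2

/-! A standard symplectic subgroup in characteristic two, odd-dimensional overgroups: the model. -/

set_option autoImplicit false
set_option linter.unusedSectionVars false

namespace CF.Dq

open Subgroup Equiv CF.Loc CF.LX CF.Ud
open CF.Sq (ev sg cw)

variable {F : Type} [Field F] [Fintype F] [CharP F 2] {m : ℕ} {a c k ζ : F} {g : Perm (Fin m → F)} {u v w n n' : Fin m → F}
  {G : Type*} [Group G] {ρ : SU (1 : F ≃+* F) m →* G} {b : (Fin m → F) → (Fin m → F) → G} {y : (Fin m → F) → G}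
  {A : Type} [CommRing A] [CharP A 2] {m' : ℕ} {σ : A ≃+* A} {f : F →+* A} {ω : A} {ι : (Fin m → F) → Fin m' → A}
  {r : Fin m' → A} {e : SU (1 : F ≃+* F) m →* Perm (Fin m' → A)}

theorem up_prod {P X X' : Type*} [Group P] [Group X] [Group X'] {H : Subgroup P} (φ : H →* X) (ψ : H →* X') (g : P) :
    up (φ.prod ψ) g = (up φ g, up ψ g) := by
  unfold up
  split_ifs <;> rfl

theorem Ry.prod {G' : Type*} [Group G'] {ρ' : SU (1 : F ≃+* F) m →* G'} {b' : (Fin m → F) → (Fin m → F) → G'} {y' : (Fin m → F) → G'}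
    (r' : Ry ρ' b' y' k) (r : Ry ρ b y k) : Ry (ρ'.prod ρ) (fun v n => (b' v n, b v n)) (fun v => (y' v, y v)) k where
  eqv g i u v h := by rw [up_prod]; exact Prod.ext (r'.eqv g i u v h) (r.eqv g i u v h)
  self v c := by rw [tv, up_prod]; exact Prod.ext (r'.self v c) (r.self v c)
  sym u v h := by rw [ev, up_prod]; exact Prod.ext (r'.sym u v h) (r.sym u v h)
  adj u v c h := Prod.ext (r'.adj u v c h) (r.adj u v c h)
  mul v n n' h h' := by rw [tv, up_prod]; exact Prod.ext (r'.mul v n n' h h') (r.mul v n n' h h')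
  zero := Prod.ext r'.zero r.zero
  ye g i v := by rw [up_prod]; exact Prod.ext (r'.ye g i v) (r.ye g i v)
  sq v := by rw [tv, up_prod]; exact Prod.ext (r'.sq v) (r.sq v)
  pol u w h := Prod.ext (r'.pol u w h) (r.pol u w h)
  cb v u w h₁ h₂ h₃ := Prod.ext (r'.cb v u w h₁ h₂ h₃) (r.cb v u w h₁ h₂ h₃)

section mid

/-- insertion of a middle coordinate -/
def ins (z : A) (x : Fin m → A) : Fin (m + 1) → A := Fin.insertNth (α := fun _ => A) ⟨m / 2, by omega⟩ z x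

theorem ins_ex (p : Fin (m + 1) → A) : ∃ z x, p = ins z x := ⟨_, _, (Fin.insertNth_self_removeNth _ p).symm⟩
theorem ins_mid (z : A) (x : Fin m → A) : ins z x ⟨m / 2, by omega⟩ = z := Fin.insertNth_apply_same ..
theorem ins_ap (z : A) (x : Fin m → A) (i : Fin m) : ins z x (Fin.succAbove ⟨m / 2, by omega⟩ i) = x i := Fin.insertNth_apply_succAbove ..
theorem ins_ext {p q : Fin (m + 1) → A} (h : p ⟨m / 2, by omega⟩ = q ⟨m / 2, by omega⟩)
    (l : ∀ i, p (Fin.succAbove ⟨m / 2, by omega⟩ i) = q (Fin.succAbove ⟨m / 2, by omega⟩ i)) : p = q :=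
  funext fun i => Fin.succAboveCases (α := fun i => p i = q i) _ h l i
theorem ins_add (z z' : A) (x x' : Fin m → A) : ins z x + ins z' x' = ins (z + z') (x + x') :=
  ins_ext (by simp [ins_mid]) fun i => by simp [ins_ap]
theorem ins_smul (c z : A) (x : Fin m → A) : c • ins z x = ins (c * z) (c • x) := ins_ext (by simp [ins_mid]) fun i => by simp [ins_ap]
theorem ins_hf (h : Even m) (z z' : A) (x x' : Fin m → A) : hf σ (ins z x) (ins z' x') = z * σ z' + hf σ x x' := by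
  have : Fin.rev (⟨m / 2, by omega⟩ : Fin (m + 1)) = ⟨m / 2, by omega⟩ := Fin.ext (by obtain ⟨j, rfl⟩ := h; simp; omega)
  simp only [hf, Fin.sum_univ_succAbove _ (⟨m / 2, by omega⟩ : Fin (m + 1)), Fin.rev_succAbove, this, ins_mid, ins_ap]

/-- extension fixing the middle coordinate -/
def xm : Perm (Fin m → A) →* Perm (Fin (m + 1) → A) where
  toFun g := (Fin.insertNthEquiv (fun _ => A) ⟨m / 2, by omega⟩).permCongr (Equiv.prodCongr (Equiv.refl A) g)
  map_one' := by ext; simp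
  map_mul' g h := by ext; simp

theorem xm_ap (g : Perm (Fin m → A)) (z : A) (x : Fin m → A) : xm g (ins z x) = ins z (g x) := by simp [xm, ins]; rfl

end mid

theorem ex_mc (s : Sm F m) (k : F) : ∃ ι r e, Mc (m := m) (m' := m + 1) (sg k 1 (one_mul 1)) (algebraMap F (KK k)) k (om k) ι r e := by
  let ε : SU (1 : F ≃+* F) m →* Perm (Fin m → KK k) := ⟨⟨fun g => ext k 0 g.1, ext_one⟩, fun g h => by
    simp [ext_mul (su_sem g.2)]⟩
  have al : ∀ a : F, algebraMap F (KK k) a = ⟨a, 0⟩ := fun _ => rfl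
  have ih : ∀ x y : Fin m → F, hf (sg k 1 (one_mul 1)) (mkv k x 0) (mkv k y 0) = algebraMap F (KK k) (hf 1 x y) := fun x y => by
    simp only [hf, map_sum, map_mul]
    exact Finset.sum_congr rfl fun i _ => by ext <;> simp [mkv, Sq.sg_ap]
  have sp : ∀ x y : Fin m → F, mkv k x y = mkv k x 0 + om k • mkv k y 0 := fun x y => by simp [om, mkv_smul, mkv_add]
  refine ⟨fun x => ins 0 (mkv k x 0), ins 1 0, xm.comp ε, fun a => ?_, fun a => ?_, ?_, ?_, fun a c h => ?_, fun z => ⟨z.re, z.im, ?_⟩,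
    fun x y => ?_, fun c x => ?_, fun x y => ?_, ?_, fun x => ?_, fun x => ?_, fun g => ?_, fun g x => ?_, fun g => ?_, fun x => ?_, ?_, ?_,
    fun i h => ?_⟩
  · obtain ⟨a, b⟩ := a
    simp [Sq.sg_ap, add_assoc, CharTwo.add_self_eq_zero]
  · simp [al, Sq.sg_ap]
  · ext <;> simp [om, Sq.sg_ap] <;> rfl
  · ext <;> simp [om]
  · exact ⟨by simpa [om] using congrArg (·.re) h, by simpa [om] using congrArg (·.im) h⟩
  · ext <;> simp [om]
  · simp [ins_add, mkv_add]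
  · simp [ins_smul, al, mkv_smul]
  · simp [ins_hf s.ev, ih]
  · simp [ins_hf s.ev]
  · simp [ins_hf s.ev]
  · obtain ⟨z, x, rfl⟩ := ins_ex x
    obtain ⟨x₀, x₁, rfl⟩ := exists_mkv x
    exact ⟨x₀, x₁, z, by simp [ins_add, ins_smul, ← sp]⟩
  · have l := (su_sem g.2).ext1 (k := k) rfl
    refine ⟨fun x y => ?_, fun c x => ?_, fun x y => ?_, fun _ => rfl⟩ <;> obtain ⟨z, x, rfl⟩ := ins_ex x
    · obtain ⟨z', y, rfl⟩ := ins_ex y
      simp [ins_add, xm_ap, ε, l.add]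
    · simp [ins_smul, xm_ap, ε, l.smul1]
    · obtain ⟨z', y, rfl⟩ := ins_ex y
      obtain ⟨x₀, x₁, rfl⟩ := exists_mkv x
      obtain ⟨y₀, y₁, rfl⟩ := exists_mkv y
      simp only [MonoidHom.comp_apply, xm_ap, ins_hf s.ev, ε, MonoidHom.coe_mk, OneHom.coe_mk, ext_ap, zero_smul, add_zero]
      rw [sp x₀, sp y₀, sp (g.1 x₀), sp (g.1 y₀)]
      simp [ih, (su_sem g.2).form1]
  · simp [xm_ap, ε, ext_ap, (su_sem g.2).zero]
  · simp [xm_ap, ε, ((su_sem g.2).ext1 (k := k) rfl).zero]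
  · exact ins_ext (by simp [Sq.cw_ap, ins_mid]) fun i => by simp [Sq.cw_ap, ins_ap, mkv, Sq.sg_ap]
  · exact ins_ext (by simp [Sq.cw_ap, ins_mid]) fun i => by simp [Sq.cw_ap, ins_ap]
  · have := s.h4
    refine ins_ext (by simp [ins_mid, bv]; omega) fun i => ?_
    have : (Fin.succAbove (⟨m / 2, by omega⟩ : Fin (m + 1)) i).val = 0 ↔ i.val = 0 := by
      unfold Fin.succAbove; split_ifs with h <;> simp [Fin.lt_def] at h ⊢; omega
    simp only [ins_ap, mkv, bv, this]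
    split_ifs <;> rfl
  · obtain ⟨j, rfl⟩ := Fin.exists_succAbove_eq (x := i) (y := ⟨m / 2, by omega⟩) fun q => h (by
      obtain ⟨j, rfl⟩ := s.ev; rw [q]; ext; simp; omega)
    refine ⟨bv j.val, ins_ext ?_ fun i => ?_⟩
    · simpa [ins_mid, bv] using fun q => Fin.succAbove_ne _ j (Fin.ext q.symm)
    · simp only [ins_ap, mkv, bv, Fin.val_inj, Fin.succAbove_right_inj]
      split_ifs <;> rfl

namespace Mc
variable (s : Sm F m) (M : Mc σ f k ω ι r e)
include M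

theorem z0 : ι 0 = 0 := by simpa using M.is 0 0
theorem ir (x : Fin m → F) : hf σ (ι x) r = 0 := hf_swap M.iv (M.ri x)
theorem ext {p q : Perm (Fin m' → A)} (i : Sem σ 1 p) (j : Sem σ 1 q) (h : ∀ x, p (ι x) = q (ι x)) (l : p r = q r) : p = q :=
  Equiv.ext fun x => by
    obtain ⟨x₀, x₁, z, rfl⟩ := M.sp x
    simp only [i.add, j.add, i.smul1, j.smul1, h, l]
theorem fi : Function.Injective f := (injective_iff_map_eq_zero f).2 fun a h => (M.oi a 0 (by simp [h])).1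
theorem inj (h : ι u = ι v) : u = v := hf_ext (σ := 1) fun w => M.fi (by rw [← M.ih, ← M.ih, h])
theorem cj (i : g ∈ SU 1 m) (x : Fin m → F) (p : Fin m' → A) (z : A) : up e g * E σ (ι x) p z * (up e g)⁻¹ = E σ (ι (g x)) (up e g p) z := by
  rw [up_eq i, E_cj1 (M.es _), M.ei]

include s
theorem ok1 (h : hf 1 n v = 0) (ζ : F) : Ok σ (ι v) (ι n) (f ζ) :=
  ⟨M.iv, by simp [M.ih, s.iso], by simp [M.ih, h], by simp [M.ih, s.iso, M.sf, CharTwo.add_self_eq_zero]⟩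
theorem ok2 (h : hf 1 n v = 0) : Ok σ (ι v) (ω • ι n) 0 := ⟨M.iv, by simp [M.ih, s.iso], by simp [M.ih, h], by simp [M.ih, s.iso]⟩
theorem ok3 (v : Fin m → F) : Ok σ (ι v) r ω := ⟨M.iv, by simp [M.ih, s.iso], M.ri v, by rw [M.rr, M.so]; grind⟩
theorem ok4 (v : Fin m → F) : Ok σ (ι v) (ω • r) (f k * ω) := ⟨M.iv, by simp [M.ih, s.iso], by simp [M.ri], by
  simp only [hf_smul_l, hf_smul_r, M.rr, map_mul, M.sf, M.so]
  have := M.oo
  grind⟩

theorem eE (h : hf 1 n v = 0) (ζ : F) : ev e v n ζ = E σ (ι v) (ι n) (f ζ) := by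
  rw [ev, up_eq (s.E_SU _ _ _)]
  exact M.ext (M.es _) (E_sem ..) (fun x => by simp [M.ei, E_ap (s.ok h ζ), E_ap (M.ok1 s h ζ), M.ia, M.is, M.ih])
    (by rw [M.er, E_fix (M.ri _) (M.ri _)])
theorem eT (v : Fin m → F) (ζ : F) : tv e v ζ = E σ (ι v) (ι 0) (f ζ) := M.eE s (hf_zero_l _) ζ
theorem ap1 (h : hf 1 n v = 0) (z : Fin m' → A) : E σ (ι v) (ι n) (f ζ) z = ef σ (ι v) (ι n) (f ζ) z := E_ap (M.ok1 s h ζ) z
theorem ap2 (h : hf 1 n v = 0) (z : Fin m' → A) : E σ (ι v) (ω • ι n) 0 z = ef σ (ι v) (ω • ι n) 0 z := E_ap (M.ok2 s h) z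

set_option quotPrecheck false in
set_option hygiene false in
local notation "mt" hh:max => (by
  refine Equiv.ext fun z => ?_
  simp (disch := simp [hh, s.iso]) only [Perm.mul_apply, Perm.one_apply, M.ap1 s, M.ap2 s, ef, E_ap (M.ok3 s _), E_ap (M.ok3 s _).inv,
    E_ap (M.ok4 s _)]
  simp only [M.ia, M.is, M.z0, hf_add_l, hf_add_r, hf_smul_l, hf_smul_r, hf_zero_l, hf_zero_r, M.ih, M.ri, M.ir, M.rr, M.sf, M.so, s.iso, hh,
    map_zero, map_one, map_mul]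
  ext i
  simp only [Pi.add_apply, Pi.smul_apply, smul_eq_mul, Pi.zero_apply]
  have := M.oo
  grind)

theorem ry : Ry e (fun v n => E σ (ι v) (ω • ι n) 0) (fun v => E σ (ι v) r ω) k where
  eqv g i u v h := by rw [M.cj i, up_eq i, (M.es _).smul1, M.ei]
  self v c := by rw [M.eT s]; exact mt (s.iso v)
  sym u v h := by rw [M.eE s (hf_sw h)]; exact mt (And.intro h (hf_sw h))
  adj u v c h := mt (And.intro h (hf_sw h))
  mul v n n' h h' := by rw [M.eT s]; exact mt (show _ ∧ _ ∧ _ ∧ _ ∧ _ from ⟨h, hf_sw h, h', hf_sw h', hf_comm n' n⟩)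
  zero := mt (s.iso 0)
  ye g i v := by rw [M.cj i, up_eq i, M.er]
  sq v := by rw [M.eT s]; exact mt (s.iso v)
  pol u w h := mt (And.intro h (hf_sw h))
  cb v u w h₁ h₂ h₃ := mt (show _ ∧ _ ∧ _ ∧ _ ∧ _ ∧ _ from ⟨h₁, hf_sw h₁, h₂, hf_sw h₂, h₃, hf_sw h₃⟩)

theorem zz (h : Ad v w n) :
    zz e (fun v n => E σ (ι v) (ω • ι n) 0) (fun v => E σ (ι v) r ω) k v w n = E σ (ι v) (ω • r) (f k * ω) := by
  obtain ⟨h₁, h₂, h₃⟩ := h
  simp only [Dq.zz]
  rw [M.eE s (by simp [h₁]), E_inv (M.ok3 s w)]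
  exact mt (show _ ∧ _ ∧ _ ∧ _ ∧ _ ∧ _ from ⟨h₁, hf_sw h₁, h₂, hf_sw h₂, h₃, (hf_comm w n).trans h₃⟩)

theorem nf (h : hf 1 n v = 0) (h' : hf 1 n' v = 0) (ζ a c : F) : ∃ ζ',
    Ok σ (ι v) (ι n + ω • ι n' + (f a + ω * f c) • r) ζ' ∧
    E σ (ι v) (ι n) (f ζ) * E σ (ι v) (ω • ι n') 0 * E σ (ι (a • v)) r ω * E σ (ι (c • v)) (ω • r) (f k * ω) =
      E σ (ι v) (ι n + ω • ι n' + (f a + ω * f c) • r) ζ' := by
  have o := (M.ok3 s v).vv
  have p := M.ok3 s (a • v)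
  have q := M.ok4 s (c • v)
  rw [M.is] at p q
  have p' := p.smul o (M.ri v)
  have q' := q.smul o (M.ok4 s v).nv
  have t := (((M.ok1 s h ζ).mul (M.ok2 s h')).mul p').mul q'
  rw [M.is, M.is, E_smul p o (M.ri v), E_smul q o (M.ok4 s v).nv, E_mul (M.ok1 s h ζ) (M.ok2 s h'),
    E_mul ((M.ok1 s h ζ).mul (M.ok2 s h')) p', E_mul (((M.ok1 s h ζ).mul (M.ok2 s h')).mul p') q']
  rw [M.sf, M.sf, smul_smul, add_assoc _ (f a • r), ← add_smul, mul_comm (f c) ω] at t ⊢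
  exact ⟨_, t, rfl⟩

end Mc

end CF.Dq
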