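import Cfsg.Agent.Dq.P1a

/-! Symplectic spaces in characteristic two: involutions and the groups `WX T`. -/

set_option autoImplicit false
set_option linter.unusedSectionVars false
set_option linter.unusedVariables false

namespace CF.Dq

open Subgroup Equiv CF.Loc CF.LX CF.Geom QuadraticMap Module CF.Ud
open CF.Dbl (El)
open scoped commutatorElement

variable {F : Type} [Field F] [Fintype F] [CharP F 2] {m : ℕ} {θ θ' : F ≃+* F} {a b c ζ ζ' : F}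
  {g k ξ α w : Perm (Fin m → F)} {u v x y z n n' u' v' : Fin m → F} {H : Subgroup (Perm (Fin m → F))}
  {T T' S : Submodule F (Fin m → F)}

/-- the range of `g + 1` -/
def rg (l : Sem 1 1 g) : Submodule F (Fin m → F) := LinearMap.range (lin l + LinearMap.id)

theorem mem_rg (l : Sem 1 1 g) : x ∈ rg l ↔ ∃ y, g y + y = x := Iff.rfl
theorem W_rg (l : Sem 1 1 g) : g ∈ WX 1 (rg l) := ⟨l, fun x => ⟨x, (vsub _ _).symm⟩⟩
theorem rg_le (i : w ∈ WX 1 T) : rg i.1 ≤ T := fun _ ⟨y, e⟩ => e ▸ W_add i y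
theorem rg_ti (i : Sem 1 1 g) (e : g * g = 1) : Ti 1 (rg i) := fun x ⟨a, p⟩ y ⟨b, q⟩ => by
  rw [← show g a + a = x from p, ← show g b + b = y from q, inv_sa i e, inv_D i e, vv, hf_zero_r]
theorem ti_mono (l : Ti 1 T) (h : T' ≤ T) : Ti 1 T' := fun x i y j => l x (h i) y (h j)
theorem add_eq0 : x + y = 0 ↔ x = y := by rw [← vsub, sub_eq_zero]

/-- a field automorphism applied to the coordinates -/
def co (θ : F ≃+* F) (m : ℕ) : Perm (Fin m → F) := Equiv.piCongrRight fun _ => θ.toEquiv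

theorem co_ap (x : Fin m → F) (i : Fin m) : co θ m x i = θ (x i) := rfl
theorem co_sem : Sem 1 θ (co θ m) :=
  ⟨fun x y => funext fun i => by simp [co_ap], fun c x => funext fun i => by simp [co_ap], fun x y => by simp [hf, co_ap], fun _ => rfl⟩

namespace Sm
variable (s : Sm F m)
include s

theorem W1 (i : w ∈ WX 1 (Submodule.span F {v})) : ∃ a, w = E 1 v 0 a :=
  ((mem_Z iv1 (s.iso v)).1 (s.WX_gen (H := Z 1 v) (fun x j => by
    obtain ⟨c, rfl⟩ := Submodule.mem_span_singleton.1 j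
    rw [s.tv_sm]; exact tv_Z _ _) i)).imp fun _ => And.right
theorem W2 (e : hf 1 u v = 0) (i : w ∈ WX 1 (Submodule.span F {u, v})) :
    ∃ a b c : F, w = E 1 u 0 a * E 1 v 0 b * E 1 u (c • v) 0 := by
  have e' := hf_sw e
  have mul : ∀ a b c a' b' c' : F, E 1 u 0 a * E 1 v 0 b * E 1 u (c • v) 0 * (E 1 u 0 a' * E 1 v 0 b' * E 1 u (c' • v) 0) =
      E 1 u 0 (a + a') * E 1 v 0 (b + b') * E 1 u ((c + c') • v) 0 := fun a b c a' b' c' => Equiv.ext fun x => by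
    rw [Perm.mul_apply, s.E3 e, s.E3 e, s.E3 e]
    simp only [hf_add_l, hf_smul_l, s.iso, e, e']; module
  let K : Subgroup (Perm (Fin m → F)) :=
    { carrier := {w | ∃ a b c : F, w = E 1 u 0 a * E 1 v 0 b * E 1 u (c • v) 0}
      mul_mem' := by rintro _ _ ⟨a, b, c, rfl⟩ ⟨a', b', c', rfl⟩; exact ⟨_, _, _, mul ..⟩
      one_mem' := ⟨0, 0, 0, by simp⟩
      inv_mem' := by
        rintro _ ⟨a, b, c, rfl⟩
        exact ⟨a, b, c, inv_eq_of_mul_eq_one_right (by simp [mul, CharTwo.add_self_eq_zero])⟩ }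
  refine s.WX_gen (H := K) (fun x j => ?_) i
  obtain ⟨a, b, rfl⟩ := Submodule.mem_span_pair.1 j
  exact ⟨a * a, b * b, a * b, Equiv.ext fun x => by rw [s.E3 e, s.tv_ap, hf_add_r, hf_smr, hf_smr]; module⟩
theorem w2inj (hu : LinearIndependent F ![u, v]) (e : hf 1 u v = 0) (f : E 1 u 0 a * E 1 v 0 b * E 1 u (c • v) 0 = 1) :
    a = 0 ∧ b = 0 ∧ c = 0 := by
  have k : ∀ x, a * hf 1 x u + c * hf 1 x v = 0 ∧ c * hf 1 x u + b * hf 1 x v = 0 := fun x =>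
    LinearIndependent.pair_iff.1 hu _ _ (by simpa [f, add_assoc] using s.E3 e a b c x)
  obtain ⟨n, h1, h2⟩ := s.dual2 hu 1 0
  obtain ⟨n', h3, h4⟩ := s.dual2 hu 0 1
  have k1 := k n; have k2 := k n'
  simp only [h1, h2, h3, h4] at k1 k2
  grind
theorem W_el (l : Ti 1 T) : El (WX 1 T) := fun _ => W_sq l
theorem W_mem (hu : u ∈ Vf F m (m / 2)) (hv : v ∈ Vf F m (m / 2)) (a : F) : E 1 u v a ∈ WW 1 m := E_W hu hv a
theorem W_SU : WX 1 T ≤ SU (1 : F ≃+* F) m := fun _ i => s.mem_SU i.1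
theorem W_cent (i : Sem 1 1 g) (e : ∀ x ∈ T, g x = x) : g ∈ 𝐂(WX 1 T) := mem_centralizer_iff'.2 fun w j => Equiv.ext fun x => by
  have h1 := W_fix j (x := g x + x) fun z k => by rw [hf_add_l, ← i.form1 x z, e z k, CharTwo.add_self_eq_zero]
  have h2 := e _ (W_add j x)
  rw [j.1.add] at h1; rw [i.add] at h2
  simp only [Perm.mul_apply]
  linear_combination (norm := module) h1 - h2 + vv (g x) - vv (w x)
theorem W_fixV (i : w ∈ WW 1 m) (h : x ∈ Vf F m (m / 2)) : w x = x := W_fix i (s.Vl_ti x h)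
theorem W_comm (l : Ti 1 T) (i : w ∈ WX 1 T) (j : g ∈ WX 1 T) : w * g = g * w :=
  mem_centralizer_iff'.1 (s.W_cent j.1 fun x h => W_fix j (l x h)) w i
theorem tv_W (a0 : a ≠ 0) (i : E 1 v 0 a ∈ WX 1 T) : v ∈ T := by
  by_cases v0 : v = 0
  · exact v0 ▸ zero_mem _
  obtain ⟨y, k⟩ := s.partner v0
  simpa [s.tv_ap, k, T.smul_mem_iff a0] using i.2 y
theorem WX_norm (i : ξ ∈ Gam 1 m) : ξ ∈ 𝐍(WX 1 T) ↔ ∀ x ∈ T, ξ x ∈ T := by
  obtain ⟨θ, l⟩ := i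
  refine ⟨fun e x j => ?_, fun e => mem_normalizer_fintype fun w => W_cj l e⟩
  have := (mem_normalizer_iff.1 e _).1 (E_W j (zero_mem _) 1)
  rw [tv_cj l, map_one] at this
  exact s.tv_W one_ne_zero this
theorem W_norm (i : ξ ∈ Gam 1 m) : ξ ∈ 𝐍(WW 1 m) ↔ ∀ x ∈ Vf F m (m / 2), ξ x ∈ Vf F m (m / 2) := s.WX_norm i
theorem mem_WW (l : Sem 1 1 g) (e : ∀ x ∈ Vf F m (m / 2), g x = x) : g ∈ WW 1 m := s.mem_W l fun x i => e x (s.Vl_pp i)
theorem cW (i : ξ ∈ Gam 1 m) (e : ∀ v ∈ Vf F m (m / 2), ξ * E 1 v 0 1 = E 1 v 0 1 * ξ) : ξ ∈ WW 1 m :=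
  s.cY1 s.Vl_ti i fun v j => e v (s.Vl_pp fun y k => hf_sw (j y k))
theorem E_inj (e : hf 1 n v = 0) (e' : hf 1 n' v = 0) (v0 : v ≠ 0) (h : E 1 v n ζ = E 1 v n' ζ') :
    ∃ a : F, n' = n + a • v ∧ ζ' = ζ := by
  obtain ⟨y, k⟩ := s.partner v0
  have f := congrArg (· y) h
  simp only [E_ap (s.ok e _), E_ap (s.ok e' _), k, one_smul, mul_one] at f
  have f' : n' = n + (hf 1 y n + ζ + (hf 1 y n' + ζ')) • v := by
    linear_combination (norm := module) -f - vv ((hf 1 y n' + ζ') • v)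
  refine ⟨_, f', ?_⟩
  have := congrArg (hf 1 y) f'
  rw [hf_add_r, hf_smr, k] at this; grind
theorem W_conj (l : Ti 1 T) : ∃ r ∈ SU 1 m, ∀ g ∈ WX 1 T, r * g * r⁻¹ ∈ WW 1 m :=
  (s.wittT l).imp fun _ h => ⟨h.1, fun _ => W_cj (su_sem h.1) h.2⟩
theorem m3 (i : Sem 1 1 g) (e : g * g = 1) : ∃ r ∈ SU 1 m, r * g * r⁻¹ ∈ WW 1 m :=
  (s.W_conj (rg_ti i e)).imp fun _ h => ⟨h.1, h.2 _ (W_rg i)⟩
/-- the diagonal vector of an involution -/
theorem diag (i : Sem 1 1 g) (e : g * g = 1) : ∃ y, ∀ x, hf 1 (g x) x = hf 1 x y * hf 1 x y := by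
  choose r hr using fun j : Fin m => exists_rt (hf 1 (g (bv j.val)) (bv j.val))
  obtain ⟨y, h⟩ := s.dual (li_bv (K := F) (le_refl m)) r
  refine ⟨y, fun x => ?_⟩
  have := Vf_span (K := F) (le_refl m) ▸ Vf_top (x := x)
  induction this using Submodule.span_induction with
  | mem x j => obtain ⟨j, rfl⟩ := j; rw [h, hr]
  | zero => simp
  | add x z _ _ p q =>
    have := inv_sa i e x z
    simp only [i.add, hf_add_l, hf_add_r, p, q, hf_comm x (g z)] at this ⊢; grind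
  | smul c x _ p => rw [i.smul1, hf_smul_l, hf_smr, hf_smul_l, p]; ring
theorem W_dec' (l : Ti 1 T) (i : w ∈ WX 1 T) : ∃ y ∈ T, ∃ α ∈ WX 1 T, (∀ x, hf 1 (α x) x = 0) ∧ w = E 1 y 0 1 * α ∧
    ∀ x, hf 1 (w x) x = hf 1 x y * hf 1 x y := by
  obtain ⟨y, h⟩ := s.diag i.1 (W_sq l i)
  have j : y ∈ T := s.mem_of_pp fun x k => hf_sw (mul_self_eq_zero.1 (by rw [← h, W_fix i k, s.iso]))
  refine ⟨y, j, E 1 y 0 1 * w, mul_mem (E_W j (zero_mem _) 1) i, fun x => ?_, by rw [← mul_assoc, tv_sq, one_mul], h⟩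
  have := l _ (W_add i x) y j
  rw [hf_add_l] at this
  rw [Perm.mul_apply, s.tv_ap, hf_add_l, hf_smul_l, h, hf_comm y]; grind
theorem W_dec (i : w ∈ WW 1 m) : ∃ y ∈ Vf F m (m / 2), ∃ α, Al α ∧ w = E 1 y 0 1 * α :=
  let ⟨y, a, α, b, c, e, _⟩ := s.W_dec' s.Vl_ti i; ⟨y, a, α, ⟨b, c⟩, e⟩
theorem al_E (hu : u ∈ Vf F m (m / 2)) (hv : v ∈ Vf F m (m / 2)) : Al (E 1 u v 0) := ⟨E_W hu hv 0, fun x => by
  rw [s.E0_ap (s.Vl_ti v hv u hu)]; simp only [hf_add_l, hf_smul_l, s.iso, hf_comm u, hf_comm v]; grind⟩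
theorem al_mul (i : Al α) (j : Al w) : Al (α * w) := ⟨mul_mem i.1 j.1, fun x => by
  have := s.Vl_ti _ (W_add i.1 (w x)) _ (W_add j.1 x)
  have := i.2 (w x); have := j.2 x
  simp only [hf_add_l, hf_add_r, Perm.mul_apply, s.iso] at *; grind⟩
/-- one step of the reduction of an alternating involution -/
theorem al_step (l : Ti 1 T) (i : α ∈ WX 1 T) (al : ∀ x, hf 1 (α x) x = 0) (n : α ≠ 1) : ∃ x y, hf 1 (α x + x) y = 1 ∧
    ∀ z, (α * E 1 (α x + x) (α y + y) 0) z + z = α z + z + hf 1 z (α x + x) • (α y + y) + hf 1 z (α y + y) • (α x + x) := by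
  obtain ⟨x, n⟩ := not_forall.1 (mt Equiv.ext n)
  obtain ⟨y, k⟩ := s.partner (mt add_eq0.1 n)
  refine ⟨x, y, (hf_comm _ _).trans k, fun z => ?_⟩
  rw [Perm.mul_apply, s.E0_ap (l _ (W_add i y) _ (W_add i x)), i.1.add, i.1.add, i.1.smul1, i.1.smul1, W_fix i (l _ (W_add i x)),
    W_fix i (l _ (W_add i y))]; abel
theorem al_gen' (l : Ti 1 T) (i : α ∈ WX 1 T) (al : ∀ x, hf 1 (α x) x = 0) (h : ∀ a ∈ T, ∀ b ∈ T, E 1 a b 0 ∈ H) : α ∈ H := by
  induction T using WellFoundedLT.induction generalizing α with | _ T ih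
  by_cases n : α = 1
  · exact n ▸ one_mem H
  obtain ⟨x, y, e, f⟩ := s.al_step l i al n
  have j := mul_mem i (E_W (σ := 1) (W_add i x) (W_add i y) 0)
  have a : ∀ z, hf 1 (α z + z) z = 0 := fun z => by rw [hf_add_l, al, s.iso, add_zero]
  refine (mul_mem_cancel_right (h _ (W_add i x) _ (W_add i y))).1 (ih (T ⊓ pp 1 (Submodule.span F {y}))
    (lt_of_le_of_ne inf_le_left fun k => ?_) (ti_mono l inf_le_left) ⟨j.1, fun z => ⟨j.2 z, mem_perp_singleton.2 ?_⟩⟩ (fun z => ?_)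
    fun a p b q => h a p.1 b q.1)
  · exact one_ne_zero (e.symm.trans (mem_perp_singleton.1 (k.ge (W_add i x)).2))
  · rw [sq_ap, vsub, f]; simp only [hf_add_l (_ + _), hf_smul_l, a, e, W_sa l i z y]; grind
  · have := congrArg (hf 1 · z) (f z)
    simp only [hf_add_l (_ + _), hf_smul_l, a, hf_comm z] at this
    rw [hf_add_l, s.iso] at this; grind
theorem al_gen (i : Al α) (l : ∀ x y, E 1 (α x + x) (α y + y) 0 ∈ H) : α ∈ H :=
  s.al_gen' (ti_mono s.Vl_ti (rg_le i.1)) (W_rg i.1.1) i.2 fun _ ⟨x, p⟩ _ ⟨y, q⟩ => p ▸ q ▸ l x y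
theorem al_cases (i : Al α) : α = 1 ∨ (∃ g ∈ SU 1 m, g * α * g⁻¹ = E 1 (bv 0) (bv 1) 0) ∨
    (6 ≤ m ∧ ∃ x y, LinearIndependent F ![α x + x, α y + y] ∧ hf 1 (α x) y = hf 1 x y ∧ hf 1 x y = 0) := by
  refine or_iff_not_imp_left.2 fun n => ?_
  have l := s.Vl_ti
  obtain ⟨x, y, e, f⟩ := s.al_step l i.1 i.2 n
  have a : ∀ z, hf 1 (α z + z) z = 0 := fun z => by rw [hf_add_l, i.2, s.iso, add_zero]
  have e' : hf 1 (α y + y) x = 1 := by rw [W_sa l i.1, hf_comm, e]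
  have li : LinearIndependent F ![α x + x, α y + y] := LinearIndependent.pair_iff.2 fun p q h => by
    have h1 := congrArg (hf 1 · x) h
    have h2 := congrArg (hf 1 · y) h
    simp only [hf_add_l (_ • _), hf_smul_l, a, e, e', hf_zero_l] at h1 h2
    grind
  by_cases k : α * E 1 (α x + x) (α y + y) 0 = 1
  · obtain ⟨g, j, h1, h2⟩ := s.wittP li s.li01 ((l _ (W_add i.1 x) _ (W_add i.1 y)).trans s.b01.symm)
    refine .inl ⟨g, j, ?_⟩
    rw [← h1, ← h2, ← E_cj1 (su_sem j)]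
    congr 2
    exact (eq_inv_of_mul_eq_one_left k).trans (inv_eq_of_mul_eq_one_right (s.E_sq ..))
  obtain ⟨z, n⟩ := not_forall.1 (mt Equiv.ext k)
  have n := mt add_eq0.1 n
  rw [Perm.one_apply, f] at n
  obtain ⟨p, hp⟩ : ∃ p, p = α z + z + hf 1 z (α x + x) • (α y + y) + hf 1 z (α y + y) • (α x + x) := ⟨_, rfl⟩
  rw [← hp] at n
  have px : hf 1 p x = 0 := by rw [hp]; simp only [hf_add_l (_ + _), hf_smul_l, a, e', W_sa l i.1 z x]; grind
  have py : hf 1 p y = 0 := by rw [hp]; simp only [hf_add_l (_ + _), hf_smul_l, a, e, W_sa l i.1 z y]; grind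
  have pV : p ∈ Vf F m (m / 2) := hp ▸ add_mem (add_mem (W_add i.1 z) (Submodule.smul_mem _ _ (W_add i.1 y)))
    (Submodule.smul_mem _ _ (W_add i.1 x))
  obtain ⟨z', hz⟩ : ∃ z', α z' + z' = p := ⟨z + hf 1 z (α x + x) • y + hf 1 z (α y + y) • x, by
    rw [hp, i.1.1.add, i.1.1.add, i.1.1.smul1, i.1.1.smul1]; module⟩
  have fx : α (z' + hf 1 x z' • (α y + y)) + (z' + hf 1 x z' • (α y + y)) = p := by
    rw [i.1.1.add, s.W_fixV i.1 (Submodule.smul_mem _ _ (W_add i.1 y)), add_add_add_comm, vv, add_zero, hz]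
  have o : hf 1 x (z' + hf 1 x z' • (α y + y)) = 0 := by rw [hf_add_r, hf_smr, hf_comm x (_ + _), e', mul_one, CharTwo.add_self_eq_zero]
  refine .inr ⟨?_, x, _, ?_, ?_, o⟩
  · by_contra h6
    have := s.l2
    have : Submodule.span F (Set.range ![α x + x, α y + y]) = Vf F m (m / 2) := Submodule.eq_of_le_of_finrank_le
      (Submodule.span_le.2 (Set.range_subset_iff.2 (by simp [Fin.forall_fin_two, W_add i.1])))
      (by rw [finrank_span_eq_card li, s.Vl_dim, Fintype.card_fin]; omega)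
    obtain ⟨c, h⟩ := (Submodule.mem_span_range_iff_exists_fun F).1 (this.ge pV)
    rw [← h] at n px py
    simp only [Fin.sum_univ_two, Matrix.cons_val_zero, Matrix.cons_val_one, hf_add_l (_ • _), hf_smul_l, a, e, e', mul_zero, mul_one,
      zero_add, add_zero] at n px py
    simp [px, py] at n
  · rw [fx]
    refine LinearIndependent.pair_iff.2 fun c d h => ?_
    have h2 := congrArg (hf 1 · y) h
    simp only [hf_add_l (_ • _), hf_smul_l, e, py, hf_zero_l, mul_one, mul_zero, add_zero] at h2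
    exact ⟨h2, by simpa [h2, n] using h⟩
  · have := W_sa l i.1 x (z' + hf 1 x z' • (α y + y))
    rw [fx, hf_add_l, o, hf_comm x p, px] at this
    rw [o, ← this, add_zero]
theorem std (l : Sem 1 θ ξ) : ∃ g ∈ Ud.SU (1 : F ≃+* F) m, ∀ x i, g (ξ x) i = θ (x i) :=
  ⟨co θ m * ξ⁻¹, s.mem_SU (by simpa using (co_sem (θ := θ)).mul l.inv), fun x i => by simp [co_ap]⟩
theorem sem_uq (l : Sem 1 θ ξ) (l' : Sem 1 θ' ξ) : θ = θ' := Dq.sem_uq (by have := s.h4; omega) l l'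
/-- rational vectors span -/
theorem rat0 (l : Sem 1 θ ξ) (e : ξ * ξ = 1) (θ1 : θ ≠ 1) (h : hf 1 x z ≠ 0) :
    ∃ y, ξ y = y ∧ hf 1 y z ≠ 0 ∧ ∀ f, ξ f = f → hf 1 x f = 0 → hf 1 y f = 0 := by
  obtain ⟨c, n⟩ := not_forall.1 (mt RingEquiv.ext θ1)
  have k : ∀ c : F, ∀ f, ξ f = f → hf 1 x f = 0 → hf 1 (ξ (c • x) + c • x) f = 0 := fun c f i j => by
    rw [hf_add_l, ← i, l.form, i, hf_smul_l, j]; simp
  by_contra! q
  have h1 := by_contra fun o => (q _ (inv_D l e ((1 : F) • x)) o).elim fun f o => o.2.2 (k 1 f o.1 o.2.1)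
  have h2 := by_contra fun o => (q _ (inv_D l e (c • x)) o).elim fun f o => o.2.2 (k c f o.1 o.2.1)
  simp only [l.smul, hf_add_l, hf_smul_l, map_one, RingAut.one_apply] at h1 h2 n
  grind
theorem rat1 (l : Sem 1 θ ξ) (e : ξ * ξ = 1) (θ1 : θ ≠ 1) (h : hf 1 x z ≠ 0) (hz : ξ z = z) :
    ∃ y, ξ y = y ∧ hf 1 y z = 1 ∧ ∀ f, ξ f = f → hf 1 x f = 0 → hf 1 y f = 0 := by
  obtain ⟨y, a, b, c⟩ := s.rat0 l e θ1 h
  exact ⟨(hf 1 y z)⁻¹ • y, by rw [l.smul, map_inv₀, ← l.form, a, hz], by rw [hf_smul_l, inv_mul_cancel₀ b],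
    fun f i j => by rw [hf_smul_l, c f i j, mul_zero]⟩
theorem rat (l : Sem 1 θ ξ) (e : ξ * ξ = 1) (θ1 : θ ≠ 1) : θ * θ = 1 ∧ ∃ u u' v v', ξ u = u ∧ ξ u' = u' ∧ ξ v = v ∧ ξ v' = v' ∧
    hf 1 u u' = 1 ∧ hf 1 v v' = 1 ∧ hf 1 u v = 0 ∧ hf 1 u v' = 0 ∧ hf 1 u' v = 0 ∧ hf 1 u' v' = 0 := by
  refine ⟨s.sem_uq (l.mul l) (e ▸ sem_one), ?_⟩
  have nz : ∀ {x}, x ≠ 0 → ∃ y, ξ y = y ∧ y ≠ 0 ∧ ∀ f, ξ f = f → hf 1 x f = 0 → hf 1 y f = 0 := fun x0 => by
    obtain ⟨z, h⟩ := s.partner x0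
    obtain ⟨y, a, b, c⟩ := s.rat0 l e θ1 (((hf_comm _ _).trans h).trans_ne one_ne_zero)
    exact ⟨y, a, fun k => b (by simp [k]), c⟩
  obtain ⟨v, a1, a2, -⟩ := nz s.b0
  obtain ⟨x, h⟩ := s.partner a2
  obtain ⟨v', b1, b2, -⟩ := s.rat1 l e θ1 (h.trans_ne one_ne_zero) a1
  obtain ⟨x, i, x0⟩ := exists_out (T := ⊥) (T' := pp 1 (Submodule.span F {v, v'})) (by
    have := s.pp_dim (Submodule.span F {v, v'}); have := pair_dim v v'; have := s.h4; rw [finrank_bot]; omega)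
  obtain ⟨u, c1, c2, c3⟩ := nz x0
  have h1 := c3 v a1 (mem_perp_pair.1 i).1
  have h2 := c3 v' b1 (mem_perp_pair.1 i).2
  obtain ⟨y, j, k⟩ := s.part (T := Submodule.span F {v, v'}) (x := u) fun k => by
    obtain ⟨p, q, rfl⟩ := Submodule.mem_span_pair.1 k
    simp only [hf_add_l, hf_smul_l, s.iso, b2, hf_comm v v', mul_zero, mul_one, zero_add, add_zero] at h1 h2
    simp [h1, h2] at c2
  obtain ⟨u', d1, d2, d3⟩ := s.rat1 l e θ1 (j.trans_ne one_ne_zero) c1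
  exact ⟨u, u', v, v', c1, d1, a1, b1, (hf_comm _ _).trans d2, (hf_comm _ _).trans b2, h1, h2,
    d3 v a1 (k _ (Submodule.subset_span (by simp))), d3 v' b1 (k _ (Submodule.subset_span (by simp)))⟩
end Sm

end CF.Dq
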