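import Cfsg.Agent.Dq.C4
import Cfsg.Agent.Dq.C3
import Cfsg.Agent.Sq.C1

/-! A standard symplectic subgroup in characteristic two, odd-dimensional overgroups: the graphs. -/

set_option autoImplicit false
set_option linter.unusedSectionVars false

namespace CF.Dq

open Subgroup Equiv CF.Loc CF.LX CF.Ud
open CF.Sq (ev sg cw Jr Jt GJ)

variable {F : Type} [Field F] [Fintype F] [CharP F 2] {m : ℕ} {a c k ζ : F} {g : Perm (Fin m → F)} {u v w n n' : Fin m → F}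
  {G : Type*} [Group G] [Finite G] {ρ : SU (1 : F ≃+* F) m →* G} {t : G} {b : (Fin m → F) → (Fin m → F) → G} {y : (Fin m → F) → G}
  {A : Type} [CommRing A] [CharP A 2] [Finite A] {m' : ℕ} {σ : A ≃+* A} {f : F →+* A} {ω z : A} {ι : (Fin m → F) → Fin m' → A}
  {r x : Fin m' → A} {e : SU (1 : F ≃+* F) m →* Perm (Fin m' → A)} {p : Perm (Fin m' → A) × G}

namespace C5

theorem eJ (v n : Fin m → F) (ζ : F) : ev ρ v n ζ ∈ JC ρ b y k v := mem_sup_left (C3.eJ v n ζ)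
theorem bJ (h : hf 1 n v = 0) : b v n ∈ JC ρ b y k v := mem_sup_left (C3.bJ h)
theorem yJ (c : F) (v : Fin m → F) : y (c • v) ∈ JC ρ b y k v := mem_sup_right (subset_closure (.inl ⟨c, rfl⟩))
theorem zJ (c : F) (v : Fin m → F) : zv ρ b y k (c • v) ∈ JC ρ b y k v := mem_sup_right (subset_closure (.inr ⟨c, rfl⟩))
theorem qJ (i : g ∈ Q (1 : F ≃+* F) v) : up ρ g ∈ JC ρ b y k v := mem_sup_left (subset_closure (.inl ⟨g, i, rfl⟩))
theorem z0 (s : Sm F m) (r : Rb ρ b k) : zv ρ b y k 0 = 1 := by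
  unfold zv
  split_ifs <;> simp [zz, (r.b0 s _).2, C3.e0]
theorem spl (s : Sm F m) (r : Rb ρ b k) (o : hf 1 v w = 0) {x : G} (q : x = up ρ g * b w (a • v + c • w) * 1 * zv ρ b y k 0)
    (i : g ∈ SU 1 m) : x = up ρ g * b v (a • w) * (up ρ g)⁻¹ * up ρ (g * (E 1 v (a • w) 0 * E 1 w 0 c)) := by
  rw [q, r.add2 s (by simp [o]) (by simp [s.iso]) (by simp [o]), r.sw s (hf_sw o), r.self, z0 s r,
    up_mul i (mul_mem (s.E_SU _ _ _) (s.E_SU _ _ _)), up_mul (s.E_SU _ _ _) (s.E_SU _ _ _)]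
  group
theorem sd (s : Sy F m) : Sq.Sd (1 : F ≃+* F) m := ⟨fun _ => rfl, s.ev, s.h6⟩
theorem ad (s : Sy F m) (v : Fin m → F) : ∃ p : (Fin m → F) × (Fin m → F), Ad v p.1 p.2 := by
  obtain ⟨w, h, e, -⟩ := (sd s).out2 v v
  obtain ⟨n, i, j, -⟩ := (sd s).part2 h
  exact ⟨(w, n), e, j, i⟩

end C5

namespace Mc
open C5
variable (s : Sy F m) (M : Mc σ f k ω ι r e)
include M

theorem ii (h : ∀ u, hf σ (ι n + ω • ι n' + z • r) (ι u) = 0) : n = 0 ∧ n' = 0 := by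
  simp only [hf_add_l, hf_smul_l, M.ih, M.ri, mul_zero, add_zero] at h
  exact ⟨hf_ext (σ := 1) fun u => by simp [(M.oi _ _ (h u)).1], hf_ext (σ := 1) fun u => by simp [(M.oi _ _ (h u)).2]⟩
theorem perp (h : ∀ u, hf σ x (ι u) = 0) : ∃ z : A, x = z • r := by
  obtain ⟨x₀, x₁, z, rfl⟩ := M.sp x
  obtain ⟨rfl, rfl⟩ := M.ii h
  exact ⟨z, by simp [M.z0]⟩
theorem fx (h : σ z = z) : ∃ a, z = f a := by
  obtain ⟨a, c, rfl⟩ := M.sa z
  rw [map_add, map_mul, M.sf, M.sf, M.so] at h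
  exact ⟨a, by grind⟩
theorem hn (h : hf σ (ι u) (ι n + ω • ι n' + z • r) = 0) : hf 1 n u = 0 ∧ hf 1 n' u = 0 :=
  M.oi _ _ (by simpa [M.ih, M.ri] using hf_swap M.iv h)
theorem hr (h : hf σ r (ι n + ω • ι n' + (f a + ω * f c) • r) = 0) : a = 0 ∧ c = 0 :=
  M.oi _ _ (by simpa [M.ir, M.rr] using hf_swap M.iv h)
theorem um (h : hf 1 v u = 1) (l : z • ι v = 0) : z = 0 := by simpa [M.ih, h] using congrArg (hf σ · (ι u)) l

include s
theorem eQ (v0 : v ≠ 0) (i : g ∈ SU 1 m) (h : up e g ∈ Q σ (ι v)) : g ∈ Q 1 v := by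
  have o := (M.ok3 s.toSm v).vv
  obtain ⟨N, ζ, l, h⟩ := (mem_Q M.iv o).1 h
  rw [up_eq i] at h
  refine (sd s).cQ v0 (su_sem i) (M.inj ((M.ei ⟨g, i⟩ v).symm.trans (by rw [h, E_fix o l.vn]))) fun n j => ?_
  obtain ⟨a, c, q⟩ := M.sa (hf σ (ι n) N)
  have := M.ei ⟨g, i⟩ n
  rw [h, E_ap l, M.ih, j, q] at this
  refine ⟨a, add_eq0.1 (M.ii (n' := c • v) (z := 0) fun u => ?_).1⟩
  simp only [M.ia, M.is, ← this, hf_add_l, hf_smul_l, map_zero]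
  grind

variable (R : Ry ρ b y k)
include R

local notation "𝐁" => fun v n => (E σ (ι v) (ω • ι n) 0, b v n)
local notation "𝐘" => fun v => (E σ (ι v) r ω, y v)
local notation "𝐉" => JC (e.prod ρ) 𝐁 𝐘 k

theorem f1 (h : hf 1 n v = 0) (h' : hf 1 n' v = 0) (ζ a c : F) : ∃ ζ', Ok σ (ι v) (ι n + ω • ι n' + (f a + ω * f c) • r) ζ' ∧
    (ev (e.prod ρ) v n ζ * 𝐁 v n' * 𝐘 (a • v) * zv (e.prod ρ) 𝐁 𝐘 k (c • v)).1 = E σ (ι v) (ι n + ω • ι n' + (f a + ω * f c) • r) ζ' := by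
  obtain ⟨ζ', o, l⟩ := M.nf s.toSm h h' ζ a c
  refine ⟨ζ', o, ?_⟩
  rw [← l, zv, dif_pos (ad s _), ← M.zz s.toSm (ad s (c • v)).choose_spec, ← M.eE s.toSm h]
  simp [Dq.zz, up_prod]

theorem nf' (i : p ∈ 𝐉 v) : ∃ (n : Fin m → F) (ζ : F) (n' : Fin m → F) (a c : F) (ζ' : A), hf 1 n v = 0 ∧ hf 1 n' v = 0 ∧
    p = ev (e.prod ρ) v n ζ * 𝐁 v n' * 𝐘 (a • v) * zv (e.prod ρ) 𝐁 𝐘 k (c • v) ∧
    Ok σ (ι v) (ι n + ω • ι n' + (f a + ω * f c) • r) ζ' ∧ p.1 = E σ (ι v) (ι n + ω • ι n' + (f a + ω * f c) • r) ζ' := by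
  obtain ⟨n, ζ, n', a, c, h, h', rfl⟩ := ((M.ry s.toSm).prod R).nf s i
  obtain ⟨ζ', o, l⟩ := M.f1 s R h h' ζ a c
  exact ⟨n, ζ, n', a, c, ζ', h, h', rfl, o, l⟩

theorem fQ (i : p ∈ 𝐉 v) : p.1 ∈ Q σ (ι v) := by
  obtain ⟨_, _, _, _, _, _, -, -, -, -, l⟩ := M.nf' s R i
  exact l ▸ E_Q _ _ _

theorem jr : Jr σ f ω ι (e.prod ρ) 𝐉 := by
  have t := s.toSm
  have R' := (M.ry t).prod R
  have nu : ∀ g ∈ SU 1 m, ∀ v, g v = v → up (e.prod ρ) g ∈ 𝐍(𝐉 v) := fun g i v h => cj_eq_self_iff.1 (by rw [R'.nr s i, h])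
  refine ⟨M.iv, M.ia, M.is, M.ih, M.oi, fun x => ?_, fun n => ?_, M.es, M.ei, fun g x h => ?_, fun v _ g i => up_coe (φ := e.prod ρ) g ▸ qJ i,
    fun g v => up_coe (φ := e.prod ρ) g ▸ R'.nr s g.2 v, fun v _ => le_antisymm ?_ ?_, fun v v0 p i h => ?_, fun v v0 w w0 o p i h => ?_,
    fun v v0 w w0 o p i h => ?_, fun c c0 v => R'.ns s c0 v⟩
  · obtain ⟨x₀, x₁, z, rfl⟩ := M.sp x
    exact ⟨x₀, x₁, _, fun u => by simp [M.ri], rfl⟩
  · obtain ⟨a, h⟩ := M.fx (hf_sym M.iv n n)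
    exact ⟨ω * f a, by rw [h, map_mul, M.so, M.sf]; grind⟩
  · obtain ⟨z, rfl⟩ := M.perp h
    exact ((M.es g).smul1 z r).trans (by rw [M.er])
  · rintro _ ⟨p, i, rfl⟩
    exact M.fQ s R i
  · intro q i
    obtain ⟨N, ζ, o, rfl⟩ := (mem_Q M.iv (M.ok3 t v).vv).1 i
    obtain ⟨n, n', z, rfl⟩ := M.sp N
    obtain ⟨a, c, rfl⟩ := M.sa z
    obtain ⟨h, h'⟩ := M.hn o.vn
    obtain ⟨ζ', o', l⟩ := M.f1 s R h h' 0 a c
    obtain ⟨d, j⟩ := M.fx (z := ζ + ζ') (by have := o.tr; have := o'.tr; rw [map_add]; grind)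
    refine ⟨_, mul_mem (mul_mem (mul_mem (mul_mem (eJ v n 0) (bJ h')) (yJ a v)) (zJ c v)) (eJ v 0 d), ?_⟩
    rw [MonoidHom.coe_fst, Prod.fst_mul, l, ev, up_prod, ← ev, M.eE t (hf_zero_l _), E_mul o' (M.ok1 t (hf_zero_l _) d), M.z0, ← j]
    congr 1 <;> simp [add_comm ζ, ← add_assoc, CharTwo.add_self_eq_zero]
  · obtain ⟨n, ζ, n', a, c, ζ', h₁, h₂, rfl, o, l⟩ := M.nf' s R i
    obtain ⟨v', q⟩ := t.partner v0
    have q' := (hf_comm v v').trans q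
    rw [h] at l
    have key : ∀ x, hf σ x (ι v) = 0 → hf σ x (ι n + ω • ι n' + (f a + ω * f c) • r) = 0 := fun x i => M.um q' (by
      simpa only [E_ap o, i, zero_smul, add_zero, mul_zero, Perm.one_apply, left_eq_add] using congrArg (· x) l)
    obtain ⟨rfl, rfl⟩ := M.hr (key r (M.ri v))
    obtain ⟨c, rfl⟩ := t.perp_perp1 (x := n') (v := v) fun u j => (M.hn (key (ι u) (by simp [M.ih, j]))).2
    simp only [zero_smul, C5.z0 t R'.toRb, R'.zero, R'.self, mul_one, C3.um t (E_sem ..) (E_sem ..)] at h ⊢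
    rw [up_prod, up_eq (t.mem_SU ((E_sem ..).mul1 (E_sem ..)))] at h
    rw [show E 1 v n ζ * E 1 v 0 c = 1 from Equiv.ext fun u => M.inj ((M.ei ⟨_, _⟩ u).symm.trans (congrArg (· (ι u)) h)), up_one, Prod.snd_one]
  · obtain ⟨n, ζ, n', a, c, ζ', h₁, h₂, rfl, o', l⟩ := M.nf' s R i
    obtain ⟨w', q⟩ := t.partner w0
    rw [l] at h
    rw [E_ap o', M.ih, o, map_zero, zero_smul, add_zero, mul_zero, add_zero, add_eq_left] at h
    obtain ⟨j, j'⟩ := M.hn (M.um ((hf_comm w w').trans q) h)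
    exact mul_mem (mul_mem (mul_mem (nu _ (t.E_SU _ _ _) _ (E_fix o (hf_sw j) _)) (R'.nb s (hf_sw o) j' h₂))
      (R'.ny s (by simp [hf_sw o]))) (R'.nz s (by simp [hf_sw o]))
  · by_cases w1 : w ∈ Submodule.span F {v}
    · obtain ⟨c, rfl⟩ := Submodule.mem_span_singleton.1 w1
      rwa [R'.ns s (by rintro rfl; simp at w0)] at i
    obtain ⟨n, ζ, n', a, c, ζ', h₁, h₂, q, o', l⟩ := M.nf' s R i
    obtain ⟨N, ζ₁, o₁, l₁⟩ := (mem_Q M.iv (M.ok3 t v).vv).1 h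
    obtain ⟨w', e₁, e₂⟩ := C3.p1 t w1
    have key : ∀ x, hf σ x (ι v) = 0 → hf σ x (ι w) = 0 → hf σ x (ι n + ω • ι n' + (f a + ω * f c) • r) = 0 := fun x i j => by
      simpa [E_ap o', E_ap o₁, i, j, M.ih, hf_comm w w', hf_comm v w', e₁, e₂] using congrArg (fun g => hf σ (g x) (ι w')) (l.symm.trans l₁)
    obtain ⟨rfl, rfl⟩ := M.hr (key r (M.ri v) (M.ri w))
    have k2 : ∀ u, hf 1 u v = 0 → hf 1 u w = 0 → _ := fun u i j => M.hn (key (ι u) (by simp [M.ih, i]) (by simp [M.ih, j]))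
    obtain ⟨α, β, rfl⟩ := Submodule.mem_span_pair.1 (t.mem_of_pp (T := Submodule.span F {v, w}) (x := n') fun u j =>
      (k2 u (j v (Submodule.subset_span (by simp))) (j w (Submodule.subset_span (by simp)))).2)
    have j := (k2 v (t.iso v) o).1
    have i₁ := t.E_SU w n ζ
    have i₂ : E 1 v (α • w) 0 * E 1 w 0 β ∈ SU 1 m := mul_mem (t.E_SU _ _ _) (t.E_SU _ _ _)
    have i₃ := (mem_normalizer_iff.1 (nu _ i₁ _ (E_fix o (hf_sw j) _)) _).1 (bJ (b := 𝐁) (y := 𝐘) (n := α • w) (by simp [hf_sw o]))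
    simp only [zero_smul, R'.zero] at q
    rw [spl t R'.toRb o q i₁] at h ⊢
    refine mul_mem i₃ (qJ (M.eQ s v0 (mul_mem i₁ i₂) ?_))
    simpa [up_prod] using (mul_mem_cancel_left (M.fQ s R i₃)).1 h

theorem gj : GJ 𝐉 = ρ.range ⊔ closure (Set.range y) := by
  have t := s.toSm
  refine le_antisymm ((closure_le _).2 ?_) (sup_le ?_ ((closure_le _).2 ?_))
  · rintro _ ⟨v, -, p, i, rfl⟩
    refine (sup_le ?_ ((closure_le _).2 ?_) : _ ≤ comap (MonoidHom.snd _ _) (ρ.range ⊔ closure (Set.range y))) (((M.ry t).prod R).le s v i)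
    · rintro _ ⟨g, rfl⟩
      exact mem_sup_left ⟨g, rfl⟩
    · rintro _ ⟨v, rfl⟩
      exact mem_sup_right (subset_closure ⟨v, rfl⟩)
  · rintro _ ⟨g, rfl⟩
    obtain ⟨g', i, j⟩ := SU_iso iv1 (H := ((GJ 𝐉).comap ρ).map (SU 1 m).subtype) (fun v a _ _ => ⟨⟨_, tv_SU v a⟩, by
      by_cases v0 : v = 0
      · simp [v0, E_zero_v, show ∀ h, (⟨1, h⟩ : SU (1 : F ≃+* F) m) = 1 from fun _ => rfl]
      · exact subset_closure ⟨v, v0, _, eJ v 0 a, by rw [ev, up_eq (tv_SU v a)]; rfl⟩, rfl⟩) g.2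
    exact Subtype.ext j ▸ i
  · rintro _ ⟨v, rfl⟩
    by_cases v0 : v = 0
    · simp [v0, R.zero]
    · exact subset_closure ⟨v, v0, _, yJ 1 v, by simp⟩

omit R in
theorem jt' (B : CB ρ t b k) (Y : Y0 ρ t y) (R : Ry ρ b y k) (N : 𝐂₁(t) ≤ 𝐍(ρ.range ⊔ closure (Set.range y))) :
    ∃ ε J, Jt ρ t σ σ f ω ι ε J := by
  have l := s.toSm
  have c := Sq.cw_sem (m := m') (σ := σ) (θ := σ) fun _ => rfl
  have ti : t⁻¹ = t := inv_eq_of_mul_eq_one_right B.t2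
  have sw : ∀ x d : G, x * t * x⁻¹ = t * d → d * x = x * d → t * x * t⁻¹ = x * d := fun x d i j => by
    rw [ti, mul_assoc, mul_inv_eq_iff_eq_mul.1 i, ← mul_assoc, ← mul_assoc, B.t2, one_mul, j]
  refine ⟨_, _, M.jr s R, fun _ => rfl, M.i0, fun _ => rfl, fun v _ => ((M.ry l).prod R).nt s (fun g => Prod.ext ?_ (B.cm _ ⟨g, rfl⟩).symm)
    (fun u v h => ?_) (fun v => ?_) v, M.gj s R ▸ N, M.gj s R ▸ sup_le le_normalClosure ((closure_le _).2 ?_)⟩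
  · change cw σ * e g = e g * cw σ
    exact mul_inv_eq_iff_eq_mul.1 (M.ext (c.cj (M.es g)) (M.es g)
      (fun x => by rw [Perm.mul_apply, Perm.mul_apply, Perm.inv_eq_iff_eq.2 (M.ci x).symm, M.ei, M.ci])
      (by rw [Perm.mul_apply, Perm.mul_apply, Perm.inv_eq_iff_eq.2 M.cr.symm, M.er, M.cr]))
  · rw [ev, up_prod]
    refine Prod.ext ?_ (sw _ _ (B.tw u v h) (R.toRb.cm l (l.E_SU _ _ _) h (E_fix (l.iso u) h _) (E_fix (hf_sw h) (l.iso v) _)))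
    simp only [Prod.fst_mul, Prod.fst_inv]
    rw [E_cj c, c.smul, M.ci, M.ci, M.so, ← ev, M.eE l (hf_sw h), E_mul (M.ok2 l (hf_sw h)) (M.ok1 l (hf_sw h) 0)]
    simp [add_smul, M.ih, l.iso]
  · rw [tv, up_prod]
    refine Prod.ext ?_ (sw _ _ (Y.tw v) (conj_eq_iff.1 (by rw [Y.ye _ (tv_SU _ _), E_fix (l.iso v) (hf_zero_r _)])))
    simp only [Prod.fst_mul, Prod.fst_inv]
    rw [E_cj c, M.ci, M.cr, M.so, ← tv, M.eT l, E_mul (M.ok3 l v) (M.ok1 l (hf_zero_l _) 1)]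
    simp [M.z0]
  · rintro _ ⟨v, rfl⟩
    exact R.ncl s v

end Mc

end CF.Dq
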