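import Cfsg.Agent.Dq.M1

/-! Geometry of reflections and Eichler transformations in characteristic two. -/

set_option autoImplicit false
set_option linter.unusedSectionVars false
set_option linter.unusedVariables false

namespace CF.Dq

open Cfsg Subgroup Equiv CF.Loc CF.LX CF.Geom QuadraticMap Module
open CF.Ud (E2)
open CF.Dbl (El)
open scoped commutatorElement

variable {F V : Type*} [Field F] [Finite F] [CharP F 2] [AddCommGroup V] [Module F V] [FiniteDimensional F V]
  {Q : QuadraticForm F V} {θ θ' : F ≃+* F} {ξ ξ' : Perm V} {a b n r u v w x y v' r' : V} {c : F} {g s s' : OG Q} {H B : Subgroup (OG Q)}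

namespace M2

theorem f2 : (2 : F) = 0 := CharTwo.two_eq_zero

theorem ff (a : F) : a + a = 0 := CharTwo.add_self_eq_zero a

include F in
theorem vv (x : V) : x + x = 0 := by rw [← two_smul F x, f2, zero_smul]

theorem pp (x : V) : polar Q x x = 0 := by rw [polar_self', f2, zero_mul]

theorem sq1 {a b : F} (e : a ^ 2 = b ^ 2) : a = b := by
  have : (a + b) ^ 2 = 0 := by rw [CharTwo.add_sq, e, ff]
  exact CharTwo.add_eq_zero.1 (pow_eq_zero_iff two_ne_zero |>.1 this)

include F in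
theorem eq_of_add {x y : V} (e : x + y = 0) : x = y := by
  rw [← add_zero x, ← vv (F := F) y, ← add_assoc, e, zero_add]

theorem gq (g : OG Q) (x : V) : Q (g.1 x) = Q x := mem_OG.1 g.2 x

theorem perp2 (o : Os Q) (e : ∀ y, polar Q a y = 0 → polar Q b y = 0 → polar Q x y = 0) : ∃ α β : F, x = α • a + β • b := by
  have h := isWittPair_quad Q o.nd
  have : x ∈ perp (polarBilin Q) (perp (polarBilin Q) (Submodule.span F {a, b})) := by
    refine mem_perp.2 fun y hy => ?_
    have := mem_perp_pair.1 hy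
    rw [polarBilin_apply_apply, polar_comm]
    exact e y this.1 this.2
  rw [h.perp_perp] at this
  obtain ⟨α, β, k⟩ := Submodule.mem_span_pair.1 this
  exact ⟨α, β, k.symm⟩

theorem perp3 (o : Os Q) (e : ∀ y, polar Q a y = 0 → polar Q b y = 0 → polar Q u y = 0 → polar Q x y = 0) :
    ∃ α β γ : F, x = α • a + β • b + γ • u := by
  have h := isWittPair_quad Q o.nd
  have : x ∈ perp (polarBilin Q) (perp (polarBilin Q) (Submodule.span F {a, b, u})) := by
    refine mem_perp.2 fun y hy => ?_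
    have := mem_perp_span.1 hy
    rw [polarBilin_apply_apply, polar_comm]
    exact e y (this a (by simp)) (this b (by simp)) (this u (by simp))
  rw [h.perp_perp] at this
  obtain ⟨α, β, γ, k⟩ := Submodule.mem_span_triple.1 this
  exact ⟨α, β, γ, k.symm⟩

/-- a dual vector -/
theorem dual2 (o : Os Q) (e : ∀ α β : F, x ≠ α • a + β • b) : ∃ y, polar Q a y = 0 ∧ polar Q b y = 0 ∧ polar Q x y = 1 := by
  by_contra k
  push Not at k
  obtain ⟨α, β, f⟩ := perp2 (x := x) (a := a) (b := b) o fun y ha hb => by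
    by_contra k'
    refine k ((polar Q x y)⁻¹ • y) ?_ ?_ ?_
    · rw [polar_smul_right, ha, smul_zero]
    · rw [polar_smul_right, hb, smul_zero]
    · rw [polar_smul_right, smul_eq_mul, inv_mul_cancel₀ k']
  exact e α β f

/-- the orthogonal complement of a plane is not totally isotropic -/
theorem exP (o : Os Q) (a b : V) : ∃ p p', polar Q a p = 0 ∧ polar Q b p = 0 ∧ polar Q a p' = 0 ∧ polar Q b p' = 0 ∧ polar Q p p' ≠ 0 := by
  by_contra k
  push Not at k
  have h := isWittPair_quad Q o.nd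
  have h1 := h.finrank_perp (Submodule.span F {a, b})
  have h2 : finrank F (Submodule.span F {a, b}) ≤ 2 := by
    classical
    have := finrank_span_finset_le_card (R := F) ({a, b} : Finset V)
    rw [Set.finrank, Finset.coe_pair] at this
    exact this.trans Finset.card_le_two
  have h3 := h.two_mul_finrank_le (U := perp (polarBilin Q) (Submodule.span F {a, b})) fun y hy => mem_perp.2 fun x hx =>
    k x y (mem_perp_pair.1 hx).1 (mem_perp_pair.1 hx).2 (mem_perp_pair.1 hy).1 (mem_perp_pair.1 hy).2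
  have := o.h6
  omega

theorem refl_ra (p : Pr Q v r) (a : F) : oRefl Q (r + a • v) = oRefl Q r * ei Q v (a • r) := by
  by_cases a0 : a = 0
  · rw [a0, zero_smul, zero_smul, add_zero, ei_zero, mul_one]
  · have h1 : Q (a • r) = a ^ 2 := by rw [quad_smul, p.qr, mul_one]
    rw [ei_refl p.qv (by rw [polar_smul_right, p.vr, smul_zero]) (by rw [h1]; exact pow_ne_zero 2 a0), h1, oRefl_smul a0,
      ← mul_assoc, oRefl_mul_self, one_mul, ← oRefl_smul a0 (r + a • v), smul_add, smul_smul, pow_two]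

theorem q_vr (p : Pr Q v r) (a b : F) : Q (a • v + b • r) = b ^ 2 := by
  rw [quad_add, quad_smul, quad_smul, p.qv, p.qr, polar_smul_left, polar_smul_right, p.vr]; simp

theorem ei_ne (o : Os Q) (p : Pr Q v r) (c0 : c ≠ 0) : ei Q v (c • r) ≠ 1 := by
  intro e
  rw [← ei_zero v] at e
  obtain ⟨d, k⟩ := o.ei_inj p.v0 p.qv (polar_zero_right _ _) (by rw [polar_smul_right, p.vr, smul_zero]) e.symm
  have := congrArg Q k
  rw [zero_add, quad_smul, quad_smul, p.qr, p.qv, mul_one, mul_zero] at this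
  exact pow_ne_zero 2 c0 this

theorem fixP (o : Os Q) (p : Pr Q v r) (e : g.1 v = v)
    (f : ∀ y, polar Q v y = 0 → polar Q r y = 0 → ∃ a b : F, g.1 y = y + a • v + b • r) :
    ∃ x, Q x ≠ 0 ∧ polar Q v x = 0 ∧ polar Q r x = 0 ∧ g.1 x = x := by
  have f' : ∀ y, polar Q v y = 0 → polar Q r y = 0 → ∃ a : F, g.1 y = y + a • v := by
    intro y h1 h2
    obtain ⟨a, b, k⟩ := f y h1 h2
    have := gq g y
    rw [k, add_assoc, quad_add, q_vr p, polar_add_right, polar_smul_right, polar_smul_right, polar_comm Q y v, polar_comm Q y r,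
      h1, h2] at this
    have b0 : b = 0 := by simpa using this
    exact ⟨a, by rw [k, b0, zero_smul, add_zero]⟩
  obtain ⟨a0, k0⟩ := f' r p.vr (pp r)
  by_cases h0 : a0 = 0
  · exact ⟨r, by rw [p.qr]; exact one_ne_zero, p.vr, pp r, by rw [k0, h0, zero_smul, add_zero]⟩
  by_contra k
  push Not at k
  have k1 : ∀ x, polar Q v x = 0 → polar Q r x = 0 → g.1 x = x → Q x = 0 := fun x h1 h2 h3 => by
    by_contra h; exact k x h h1 h2 h3
  have k2 : ∀ y, polar Q v y = 0 → polar Q r y = 0 → ∃ m : F, g.1 (y + m • r) = y + m • r := by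
    intro y h1 h2
    obtain ⟨a, ka⟩ := f' y h1 h2
    refine ⟨a / a0, ?_⟩
    rw [map_add, map_smul, ka, k0, smul_add, smul_smul, div_mul_cancel₀ _ h0]
    calc y + a • v + ((a / a0) • r + a • v) = y + (a / a0) • r + (a • v + a • v) := by abel
      _ = _ := by rw [vv (F := F), add_zero]
  obtain ⟨y, y', h1, h2, h3, h4, h5⟩ := exP o v r
  obtain ⟨m, km⟩ := k2 y h1 h2
  obtain ⟨m', km'⟩ := k2 y' h3 h4
  have pv : ∀ (y : V) (m : F), polar Q v y = 0 → polar Q v (y + m • r) = 0 := fun y m h => by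
    rw [polar_add_right, polar_smul_right, h, p.vr, smul_zero, add_zero]
  have pr : ∀ (y : V) (m : F), polar Q r y = 0 → polar Q r (y + m • r) = 0 := fun y m h => by
    rw [polar_add_right, polar_smul_right, h, pp, smul_zero, add_zero]
  have q1 := k1 _ (pv y m h1) (pr y m h2) km
  have q2 := k1 _ (pv y' m' h3) (pr y' m' h4) km'
  have q3 := k1 (y + m • r + (y' + m' • r)) (by rw [polar_add_right, pv y m h1, pv y' m' h3, add_zero])
    (by rw [polar_add_right, pr y m h2, pr y' m' h4, add_zero]) (by rw [map_add, km, km'])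
  rw [quad_add, q1, q2, zero_add, zero_add, polar_add_left, polar_smul_left, pr y' m' h4, smul_zero, add_zero, polar_add_right,
    polar_smul_right, polar_comm Q y r, h2, smul_zero, add_zero] at q3
  exact h5 q3

theorem so_inj (k : So Q θ ξ) {l : F} (v0 : v ≠ 0) (e : ξ v = l • v) : l ≠ 0 := by
  rintro rfl
  rw [zero_smul, ← k.zero] at e
  exact v0 (ξ.injective e)

theorem qe_cj (l : Qe Q a ≤ H) (hg : g ∈ H) : Qe Q (g.1 a) ≤ H := by
  refine (closure_le _).2 ?_
  rintro _ ⟨y, rfl⟩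
  have : ei Q (g.1 a) y = g * ei Q a (g⁻¹.1 y) * g⁻¹ := by
    rw [ei_cj]; congr 1; exact (g.1.apply_symm_apply y).symm
  rw [this]
  exact H.mul_mem (H.mul_mem hg (l (subset_closure ⟨_, rfl⟩))) (H.inv_mem hg)

theorem qe_smul (ha : Q a = 0) (l : Qe Q a ≤ H) (c : F) : Qe Q (c • a) ≤ H := by
  intro g hg
  obtain ⟨y, h1, rfl⟩ := (mem_Qe (by rw [quad_smul, ha, mul_zero])).1 hg
  by_cases c0 : c = 0
  · have : ei Q (c • a) y = 1 := by
      ext x
      rw [ei_ap (by rw [quad_smul, ha, mul_zero]) h1, c0]; simp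
    rw [this]; exact H.one_mem
  · rw [polar_smul_left, smul_eq_mul, mul_eq_zero, or_iff_right c0] at h1
    rw [ei_smul ha h1]
    exact l (subset_closure ⟨_, rfl⟩)

/-- `Qe a` is transitive on the singular points not orthogonal to `a` -/
theorem qe_tr (ha : Q a = 0) (hx : Q x = 0) (hy : Q y = 0) (l : Qe Q a ≤ H) (l' : Qe Q x ≤ H) (e : polar Q a x ≠ 0)
    (e' : polar Q a y ≠ 0) : Qe Q y ≤ H := by
  set m := polar Q a x / polar Q a y
  have m0 : m ≠ 0 := div_ne_zero e e'
  have h1 : polar Q a (m • y) = polar Q a x := by rw [polar_smul_right, smul_eq_mul, div_mul_cancel₀ _ e']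
  have h2 : polar Q a ((polar Q a x)⁻¹ • (x + m • y)) = 0 := by
    rw [polar_smul_right, polar_add_right, h1, ff, smul_zero]
  obtain ⟨μ, h3⟩ : ∃ μ : F, (ei Q a ((polar Q a x)⁻¹ • (x + m • y))).1 x = m • y + μ • a := by
    rw [ei_ap ha h2, smul_smul, mul_inv_cancel₀ e, one_smul, ← add_assoc, vv (F := F), zero_add]
    exact ⟨_, rfl⟩
  have h4 := gq (ei Q a ((polar Q a x)⁻¹ • (x + m • y))) x
  rw [h3, quad_add, quad_smul, quad_smul, hy, ha, hx, polar_smul_right, polar_comm, h1] at h4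
  have μ0 : μ = 0 := by simpa [e] using h4
  rw [μ0, zero_smul, add_zero] at h3
  have h5 := qe_cj l' (l (subset_closure ⟨(polar Q a x)⁻¹ • (x + m • y), rfl⟩))
  rw [h3] at h5
  have := qe_smul (by rw [quad_smul, hy, mul_zero]) h5 m⁻¹
  rwa [smul_smul, inv_mul_cancel₀ m0, one_smul] at this

end M2

open M2

namespace Os
variable (o : Os Q)
include o

theorem vi (p : Pr Q v r) (c0 : c ≠ 0) (k : Q x ≠ 0) (k' : Q y ≠ 0) (e : oRefl Q x * oRefl Q y = ei Q v (c • r)) :
    ∃ a : F, oRefl Q x = oRefl Q r * ei Q v (a • r) := by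
  have hc : polar Q v (c • r) = 0 := by rw [polar_smul_right, p.vr, smul_zero]
  obtain ⟨α, β, h⟩ := M2.perp2 (x := x) (a := v) (b := r) o fun w h1 h2 => by
    by_contra h3
    have e' : oRefl Q y = oRefl Q x * ei Q v (c • r) := by rw [← e, ← mul_assoc, oRefl_mul_self, one_mul]
    have h4 : (ei Q v (c • r)).1 w = w := by
      rw [ei_ap p.qv hc, h1, polar_smul_left, h2]; simp
    have h5 : (oRefl Q y).1 w = (oRefl Q x).1 w := by
      rw [e']; change (oRefl Q x).1 ((ei Q v (c • r)).1 w) = _; rw [h4]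
    rw [refl_ap, refl_ap, add_right_inj] at h5
    have h6 : (Q x)⁻¹ * polar Q x w ≠ 0 := mul_ne_zero (inv_ne_zero k) h3
    have h7 : (Q y)⁻¹ * polar Q y w ≠ 0 := fun h => by
      rw [h, zero_smul] at h5
      have := congrArg Q h5
      rw [quad_smul, map_zero] at this
      exact mul_ne_zero (pow_ne_zero 2 h6) k this.symm
    have h8 : oRefl Q x = oRefl Q y := by rw [← oRefl_smul h6, ← h5, oRefl_smul h7]
    rw [h8, oRefl_mul_self] at e
    exact M2.ei_ne o p c0 e.symm
  have β0 : β ≠ 0 := by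
    rintro rfl
    rw [h, q_vr p] at k
    simp at k
  refine ⟨α / β, ?_⟩
  rw [← refl_ra p, ← oRefl_smul β0 (r + _), smul_add, smul_smul, mul_div_cancel₀ _ β0, h, add_comm]

theorem bb (hr : Q r = 1) (l : ∀ g ∈ B, g * oRefl Q r = oRefl Q r * g ∧ ∃ x, Q x ≠ 0 ∧ oRefl Q r * g = oRefl Q x) :
    Nat.card B ≤ Nat.card F := by
  have r0 : Q r ≠ 0 := by rw [hr]; exact one_ne_zero
  have l' : ∀ g ∈ B, g ≠ 1 → ∃ v, Pr Q v r ∧ g = ei Q v r := by
    intro g hg g1
    obtain ⟨h1, x, h2, h3⟩ := l g hg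
    have h4 : g = oRefl Q r * oRefl Q x := by rw [← h3, ← mul_assoc, oRefl_mul_self, one_mul]
    have h5 : polar Q r x = 0 := (o.refl_comm r0 h2).1 (by rw [← h4, ← h3, mul_assoc, h1, ← mul_assoc, oRefl_mul_self, one_mul])
    obtain ⟨v, p, h6⟩ := o.refl_pr hr h2 h5 fun h => g1 (by rw [h4, h, oRefl_mul_self])
    exact ⟨v, p, h4.trans h6⟩
  have ap : ∀ v w, Pr Q v r → polar Q r w = 0 → (ei Q v r).1 w = w + polar Q v w • (r + v) := fun v w p h => by
    rw [ei_ap p.qv p.vr, h, hr, zero_add, one_mul, smul_add, add_assoc]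
  by_cases h0 : B = ⊥
  · rw [h0, card_bot]; exact Nat.card_pos
  obtain ⟨⟨g0, m0⟩, n0⟩ := ne_bot_iff_exists_ne_one.1 h0
  have n0' : g0 ≠ 1 := fun h => n0 (Subtype.ext h)
  obtain ⟨v0, p0, e0⟩ := l' g0 m0 n0'
  have key : ∀ g : B, ∃ c : F, g.1 = ei Q v0 (c • r) := by
    rintro ⟨g, m⟩
    by_cases g1 : g = 1
    · exact ⟨0, by rw [zero_smul, ei_zero]; exact g1⟩
    obtain ⟨v, p, e⟩ := l' g m g1
    by_cases i : ∀ α β : F, v ≠ α • v0 + β • r
    · exfalso
      obtain ⟨w, h1, h2, h3⟩ := M2.dual2 o i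
      have h4 : (g * g0).1 w = w + (r + v) := by
        change g.1 (g0.1 w) = _
        rw [e0, ap v0 w p0 h2, h1, zero_smul, add_zero, e, ap v w p h2, h3, one_smul]
      have qrv : ∀ v, Pr Q v r → Q (r + v) = 1 := fun v p => by
        rw [quad_add, hr, p.qv, polar_comm, p.vr, add_zero, add_zero]
      by_cases g2 : g * g0 = 1
      · rw [g2] at h4
        have h5 : r + v = 0 := left_eq_add.1 h4
        have := qrv v p
        rw [h5, map_zero] at this
        exact zero_ne_one this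
      obtain ⟨v', p', e'⟩ := l' _ (B.mul_mem m m0) g2
      rw [e', ap v' w p' h2, add_right_inj] at h4
      have h5 := congrArg Q h4
      rw [quad_smul, qrv v p, qrv v' p', mul_one, ← one_pow 2] at h5
      rw [sq1 h5, one_smul, add_right_inj] at h4
      rw [h4, ← e, mul_eq_left] at e'
      exact n0' e'
    · push Not at i
      obtain ⟨α, β, i⟩ := i
      have h1 := p.qv
      rw [i, q_vr p0] at h1
      have β0 : β = 0 := by simpa using h1
      rw [β0, zero_smul, add_zero] at i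
      exact ⟨α, by rw [← ei_smul p0.qv p0.vr, ← i]; exact e⟩
  choose f hf using key
  exact Nat.card_le_card_of_injective f fun g g' h => Subtype.ext (by rw [hf, hf, h])

theorem gen (ha : Q a = 0) (hb : Q b = 0) (e : polar Q a b ≠ 0) (l : Qe Q a ≤ H) (l' : Qe Q b ≤ H) : _root_.commutator (OG Q) ≤ H := by
  have h6 := o.h6
  have e' : polar Q b a ≠ 0 := by rwa [polar_comm]
  have A : ∀ x, Q x = 0 → polar Q a x ≠ 0 → Qe Q x ≤ H := fun x hx h => qe_tr ha hb hx l l' e h
  have A' : ∀ x, Q x = 0 → polar Q b x ≠ 0 → Qe Q x ≤ H := fun x hx h => qe_tr hb ha hx l' l e' h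
  have all : ∀ x, Q x = 0 → Qe Q x ≤ H := by
    intro x hx
    by_cases x0 : x = 0
    · have := qe_smul ha l 0
      rwa [zero_smul, ← x0] at this
    by_cases hx' : polar Q b x ≠ 0
    · exact A' x hx hx'
    push Not at hx'
    obtain ⟨d, hd, k⟩ := (isWittPair_quad Q o.nd).exists_hyperbolic x0 (by rw [hx, map_zero])
    rw [map_zero] at hd
    rw [polarBilin_apply_apply] at k
    have k' : polar Q d x ≠ 0 := by rw [polar_comm, k]; exact one_ne_zero
    by_cases h1 : polar Q a d ≠ 0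
    · exact qe_tr hd ha hx (A d hd h1) l (by rwa [polar_comm]) k'
    by_cases h2 : polar Q b d ≠ 0
    · exact qe_tr hd hb hx (A' d hd h2) l' (by rwa [polar_comm]) k'
    push Not at h1 h2
    have q : Q (d + b) = 0 := by rw [quad_add, hd, hb, polar_comm, h2, add_zero, add_zero]
    have h3 : polar Q a (d + b) ≠ 0 := by rwa [polar_add_right, h1, zero_add]
    exact qe_tr q ha hx (A _ q h3) l (by rwa [polar_comm]) (by rwa [polar_add_left, hx', add_zero])
  rw [commutator_eq_eichlerSub_of_finite o.nd (Or.inr (by omega)) (by omega)]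
  refine (closure_le _).2 ?_
  rintro _ ⟨u, w, hu, hw, rfl⟩
  have : eichler hu hw = ei Q u w := by rw [ei, dif_pos ⟨hu, hw⟩]
  rw [this]
  exact all u hu (subset_closure ⟨_, rfl⟩)

theorem cq (k : So Q θ ξ) (v0 : v ≠ 0) (hv : Q v = 0) (e : ∀ y, polar Q v y = 0 → ei Q (ξ v) (ξ y) = ei Q v y) : ξ * ξ = 1 := by
  have h6 := o.h6
  obtain ⟨d, hd, kd⟩ := (isWittPair_quad Q o.nd).exists_hyperbolic v0 (by rw [hv, map_zero])
  rw [map_zero] at hd
  obtain ⟨y0, q0, h0, -⟩ := exists_nonsingular_perp_hyp o.nd (by omega) hv hd kd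
  have A : ∀ y, polar Q v y = 0 → Q y ≠ 0 → ∃ l : F, ξ v = l • v ∧ l ^ 2 * θ (Q y) = Q y := by
    intro y h1 h2
    obtain ⟨-, -, l, c, -, h3, h4⟩ := o.ei_eq v0 hv h1 h2 (e y h1)
    have := congrArg Q h4
    rw [quad_smul, k.q, quad_add, quad_smul, hv, polar_smul_right, polar_comm, h1] at this
    exact ⟨l, h3, by simpa using this⟩
  obtain ⟨l, hl, ql⟩ := A y0 h0 q0
  have θ1 : ∀ c, θ c = c := by
    intro c
    by_cases c0 : c = 0
    · rw [c0, map_zero]
    obtain ⟨l', hl', ql'⟩ := A (c • y0) (by rw [polar_smul_right, h0, smul_zero])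
      (by rw [quad_smul]; exact mul_ne_zero (pow_ne_zero 2 c0) q0)
    have : l' = l := smul_left_injective F v0 (hl'.symm.trans hl)
    rw [this, quad_smul, map_mul, map_pow, mul_left_comm, ql] at ql'
    exact sq1 (mul_right_cancel₀ q0 ql')
  have l1 : l = 1 := by
    rw [θ1] at ql
    exact sq1 (by rw [one_pow]; exact mul_right_cancel₀ q0 (by rw [ql, one_mul]))
  rw [l1, one_smul] at hl
  have pl : ∀ x y, polar Q (ξ x) (ξ y) = polar Q x y := fun x y => by rw [k.pol, θ1]
  have Bv : ∀ y, polar Q v y = 0 → ∃ μ : F, ξ y = y + μ • v := fun y h =>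
    o.ei_inj v0 hv h (by rw [← h, ← pl v y, hl]) (by rw [← e y h, hl])
  ext x
  change ξ (ξ x) = x
  by_cases hx : polar Q v x = 0
  · obtain ⟨μ, h⟩ := Bv x hx
    rw [h, k.add, k.smul, θ1, hl, h, add_assoc, vv (F := F), add_zero]
  · have h1 : polar Q v (ξ x + x) = 0 := by
      rw [polar_add_right, ← pl v x, hl, ff]
    obtain ⟨μ, h⟩ := Bv _ h1
    have h2 := pl x (ξ x + x)
    have h3 : polar Q (ξ x) v = polar Q v x := by rw [← pl v x, hl, polar_comm]
    rw [h, polar_add_right, polar_add_right, polar_add_right, polar_smul_right, pp, pp, h3, polar_comm Q x, zero_add, add_zero,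
      add_eq_left, smul_eq_mul, mul_eq_zero, or_iff_left hx] at h2
    rw [h2, zero_smul, add_zero, k.add, add_comm (ξ x) x] at h
    exact add_right_cancel h

theorem cw (k : So Q θ ξ) (p : Pr Q v r) (p' : Pr Q x r) (e : polar Q v x = 0) (i : ∀ c : F, x ≠ c • v)
    (f : ∀ y, Q y ≠ 0 → polar Q v y = 0 → polar Q x y = 0 → polar Q r y = 0 →
      ei Q (ξ v) (ξ y) = ei Q v y ∧ ei Q (ξ x) (ξ y) = ei Q x y) : ξ * ξ = 1 := by
  have A : ∀ (v : V) (c : F), Pr Q v r → c ≠ 0 → ei Q (ξ v) (ξ (c • r)) = ei Q v (c • r) → ∃ l : F, ξ v = l • v ∧ l * θ c = c := by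
    intro v c p c0 h
    obtain ⟨-, -, l, d, -, h3, h4⟩ := o.ei_eq p.v0 p.qv (by rw [polar_smul_right, p.vr, smul_zero])
      (by rw [quad_smul, p.qr, mul_one]; exact pow_ne_zero 2 c0) h
    have := congrArg Q h4
    rw [add_comm, q_vr p, quad_smul, k.q, quad_smul, p.qr, mul_one, map_pow, ← mul_pow] at this
    exact ⟨l, h3, sq1 this⟩
  have fr : ∀ c : F, c ≠ 0 → _ := fun c c0 => f (c • r) (by rw [quad_smul, p.qr, mul_one]; exact pow_ne_zero 2 c0)
    (by rw [polar_smul_right, p.vr, smul_zero]) (by rw [polar_smul_right, p'.vr, smul_zero]) (by rw [polar_smul_right, pp, smul_zero])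
  obtain ⟨l, hv, l1⟩ := A v 1 p one_ne_zero (fr 1 one_ne_zero).1
  obtain ⟨l', hx, l1'⟩ := A x 1 p' one_ne_zero (fr 1 one_ne_zero).2
  rw [map_one, mul_one] at l1 l1'
  rw [l1, one_smul] at hv
  rw [l1', one_smul] at hx
  have θ1 : ∀ c, θ c = c := by
    intro c
    by_cases c0 : c = 0
    · rw [c0, map_zero]
    obtain ⟨m, hm, h⟩ := A v c p c0 (fr c c0).1
    have : m = 1 := smul_left_injective F p.v0 (by simp only [one_smul]; exact hm.symm.trans hv)
    rwa [this, one_mul] at h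
  have pl : ∀ x y, polar Q (ξ x) (ξ y) = polar Q x y := fun x y => by rw [k.pol, θ1]
  have N : ∀ y, Q y ≠ 0 → polar Q v y = 0 → polar Q x y = 0 → polar Q r y = 0 → ξ y = y := by
    intro y h1 h2 h3 h4
    obtain ⟨h5, h6⟩ := f y h1 h2 h3 h4
    rw [hv] at h5
    rw [hx] at h6
    obtain ⟨μ, h7⟩ := o.ei_inj p.v0 p.qv h2 (by rw [← h2, ← pl v y, hv]) h5.symm
    obtain ⟨ν, h8⟩ := o.ei_inj p'.v0 p'.qv h3 (by rw [← h3, ← pl x y, hx]) h6.symm
    by_cases ν0 : ν = 0
    · rw [h8, ν0, zero_smul, add_zero]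
    · rw [h7, add_right_inj] at h8
      exact absurd (by rw [mul_smul, h8, smul_smul, inv_mul_cancel₀ ν0, one_smul]) (i (ν⁻¹ * μ))
  have r1 : Q r ≠ 0 := by rw [p.qr]; exact one_ne_zero
  have hr := N r r1 p.vr p'.vr (pp r)
  have N' : ∀ y, polar Q v y = 0 → polar Q x y = 0 → polar Q r y = 0 → ξ y = y := by
    intro y h2 h3 h4
    by_cases h1 : Q y ≠ 0
    · exact N y h1 h2 h3 h4
    push Not at h1
    have := N (y + r) (by rwa [quad_add, h1, polar_comm, h4, zero_add, add_zero]) (by rw [polar_add_right, h2, p.vr, add_zero])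
      (by rw [polar_add_right, h3, p'.vr, add_zero]) (by rw [polar_add_right, h4, pp, add_zero])
    rwa [k.add, hr, add_left_inj] at this
  ext u
  change ξ (ξ u) = u
  obtain ⟨α, β, γ, h⟩ := M2.perp3 (x := ξ u + u) (a := v) (b := x) (u := r) o fun y h1 h2 h3 => by
    rw [polar_add_left, ← pl u y, N' y h1 h2 h3, ff]
  have : ξ (ξ u + u) = ξ u + u := by rw [h, k.add, k.add, k.smul, k.smul, k.smul, hv, hx, hr, θ1, θ1, θ1]
  rw [k.add, add_comm (ξ u) u] at this
  exact add_right_cancel this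

theorem fixns (p : Pr Q v r) (e : g.1 v = v) (f : ∀ y, polar Q v y = 0 → ∃ a b : F, g.1 y = y + a • v + b • r) :
    ∃ x, Q x ≠ 0 ∧ polar Q v x = 0 ∧ polar Q r x = 0 ∧ g.1 x = x := fixP o p e fun y h _ => f y h

theorem rk1 (k : So Q θ ξ) (p : Pr Q v r) {R : AddSubgroup V} {S : AddSubgroup F} (S1 : S ≠ ⊤) (c0 : c ≠ 0)
    (e : ei Q (ξ v) (ξ (c • r)) = ei Q v (c • r)) (R1 : ∀ y ∈ R, polar Q v y = 0) (R2 : ∀ a b : F, a • v + b • r ∈ R)
    (R3 : ∀ g : OG Q, g.1 v = v → g.1 r = r → ∀ y ∈ R, g.1 y ∈ R)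
    (f : ∀ y, polar Q v y = 0 → ∃ y' ∈ R, ei Q (ξ v) (ξ y) = ei Q v (y + y'))
    (f' : ∀ y ∈ R, ∃ b ∈ S, ei Q (ξ v) (ξ y) = ei Q v (y + b • r)) :
    ∃ x, Q x ≠ 0 ∧ polar Q v x = 0 ∧ polar Q r x = 0 ∧ ξ x = x := by
  obtain ⟨-, -, l, d, l0, hv, hr⟩ := o.ei_eq p.v0 p.qv (by rw [polar_smul_right, p.vr, smul_zero])
    (by rw [quad_smul, p.qr, mul_one]; exact pow_ne_zero 2 c0) e
  have lc : l * θ c = c := by
    have := congrArg Q hr
    rw [add_comm, q_vr p, quad_smul, k.q, quad_smul, p.qr, mul_one, map_pow, ← mul_pow] at this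
    exact sq1 this
  have hr' : ξ r = r + (c⁻¹ * d) • v := by
    rw [k.smul, smul_smul, lc] at hr
    rw [← inv_smul_smul₀ c0 (ξ r), hr, smul_add, inv_smul_smul₀ c0, smul_smul]
  have pv : ∀ y, polar Q v y = 0 → polar Q v (ξ y) = 0 := fun y h => by
    have := k.pol v y
    rwa [h, map_zero, hv, polar_smul_left, smul_eq_mul, mul_eq_zero, or_iff_right l0] at this
  have pr : ∀ y, polar Q v y = 0 → polar Q r y = 0 → polar Q r (ξ y) = 0 := fun y h h' => by
    have := k.pol r y
    rwa [h', map_zero, hr', polar_add_left, polar_smul_left, pv y h, smul_zero, add_zero] at this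
  have tr : ∀ y y', polar Q v y = 0 → polar Q v y' = 0 → ei Q (ξ v) (ξ y) = ei Q v y' → ∃ μ : F, l • ξ y = y' + μ • v := by
    intro y y' h h' e
    rw [hv, ei_smul p.qv (pv y h)] at e
    exact o.ei_inj p.v0 p.qv h' (by rw [polar_smul_right, pv y h, smul_zero]) e.symm
  have main : ∀ y, polar Q v y = 0 → polar Q r y = 0 → ∃ a b : F, l • ξ y = y + a • v + b • r := by
    by_cases H : ∀ y ∈ R, polar Q r y = 0 → ∃ a b : F, y = a • v + b • r
    · intro y h1 h2
      obtain ⟨y', m, h3⟩ := f y h1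
      obtain ⟨μ, h4⟩ := tr y _ h1 (by rw [polar_add_right, h1, R1 y' m, add_zero]) h3
      have h5 := congrArg (polar Q r) h4
      rw [polar_smul_right, pr y h1 h2, smul_zero, polar_add_right, polar_add_right, polar_smul_right, h2, polar_comm Q r v, p.vr,
        smul_zero, add_zero, zero_add] at h5
      obtain ⟨a, b, h6⟩ := H y' m h5.symm
      exact ⟨a + μ, b, by rw [h4, h6, add_smul]; abel⟩
    · push Not at H
      obtain ⟨y1, m1, h1, i1⟩ := H
      have A : ∀ x, polar Q v x = 0 → polar Q r x = 0 → polar Q x y1 ≠ 0 → x ∈ R := by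
        intro x h2 h3 h4
        obtain ⟨a, ha⟩ := isSquare_of_two_eq_zero f2 (Q x + polar Q x y1)
        have q : Q (x + a • r) = polar Q x y1 := by
          rw [quad_add, quad_smul, p.qr, mul_one, polar_smul_right, polar_comm Q x r, h3, smul_zero, add_zero, pow_two, ← ha,
            ← add_assoc, ff, zero_add]
        have := R3 (oRefl Q (x + a • r))
          (oRefl_of_polar_eq_zero (by rw [polar_comm, polar_add_right, polar_smul_right, h2, p.vr, smul_zero, add_zero]))
          (oRefl_of_polar_eq_zero (by rw [polar_comm, polar_add_right, polar_smul_right, h3, pp, smul_zero, add_zero])) y1 m1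
        rw [refl_ap, q, polar_add_left, polar_smul_left, h1, smul_zero, add_zero, inv_mul_cancel₀ h4, one_smul] at this
        have h5 := R.sub_mem (R.sub_mem this m1) (R2 0 a)
        rwa [zero_smul, zero_add, add_sub_cancel_left, add_sub_cancel_right] at h5
      obtain ⟨x0, h2, h3, h4⟩ := M2.dual2 o i1
      rw [polar_comm] at h4
      intro y h5 h6
      have m : y ∈ R := by
        by_cases h7 : polar Q y y1 ≠ 0
        · exact A y h5 h6 h7
        push Not at h7
        have := R.sub_mem (A (y + x0) (by rw [polar_add_right, h5, h2, add_zero]) (by rw [polar_add_right, h6, h3, add_zero])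
          (by rw [polar_add_left, h7, h4, zero_add]; exact one_ne_zero)) (A x0 h2 h3 (by rw [h4]; exact one_ne_zero))
        rwa [add_sub_cancel_right] at this
      obtain ⟨b, -, h7⟩ := f' y m
      obtain ⟨μ, h8⟩ := tr y _ h5 (by rw [polar_add_right, polar_smul_right, h5, p.vr, smul_zero, add_zero]) h7
      exact ⟨μ, b, by rw [h8, add_right_comm]⟩
  obtain ⟨y, y', h1, h2, h3, h4, h5⟩ := exP o v r
  have θ1 : ∀ a, θ a = a := by
    intro a
    obtain ⟨α, β, h6⟩ := main y h1 h2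
    obtain ⟨α', β', h7⟩ := main (a • y) (by rw [polar_smul_right, h1, smul_zero]) (by rw [polar_smul_right, h2, smul_zero])
    rw [k.smul, smul_comm, h6] at h7
    have := congrArg (fun z => polar Q z y') h7
    simp only [polar_add_left, polar_smul_left, h3, h4, mul_zero, add_zero, smul_eq_mul] at this
    exact mul_right_cancel₀ h5 this
  have l1 : l = 1 := by rw [θ1] at lc; exact mul_right_cancel₀ c0 (by rw [lc, one_mul])
  have : θ = 1 := RingEquiv.ext θ1
  subst this
  obtain ⟨g, hg⟩ := k.lin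
  have hg' : ∀ x, g.1 x = ξ x := fun x => by rw [← hg]; rfl
  simp only [l1, one_smul, ← hg'] at main hv ⊢
  exact fixP o p hv main

theorem fp (k : So Q θ ξ) (e : ξ * ξ = 1) (f : ∀ x, ξ x = x → Q x = 0) : θ = 1 := by
  by_contra h
  obtain ⟨w, hw⟩ : ∃ w, θ w ≠ w := by
    by_contra h'; push Not at h'; exact h (RingEquiv.ext h')
  have h6 := o.h6
  have : Nontrivial V := Module.nontrivial_of_finrank_pos (R := F) (by omega)
  obtain ⟨x, hx⟩ := exists_nonsingular o.nd
  have fx : ∀ x, ξ (x + ξ x) = x + ξ x := fun x => by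
    have : ξ (ξ x) = x := by change (ξ * ξ) x = x; rw [e]; rfl
    rw [k.add, this, add_comm]
  have q1 := f _ (fx x)
  have q2 := f _ (fx (w • x))
  have q3 := f (x + ξ x + (w • x + ξ (w • x))) (by rw [k.add, fx, fx])
  rw [quad_add, q1, q2, zero_add, zero_add] at q3
  have h1 : (θ w + w) • x = θ w • (x + ξ x) + (w • x + ξ (w • x)) := by
    rw [k.smul, add_smul, smul_add]
    calc θ w • x + w • x = θ w • x + w • x + (θ w • ξ x + θ w • ξ x) := by rw [vv (F := F), add_zero]
      _ = _ := by abel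
  have h2 := congrArg Q h1
  rw [quad_smul, quad_add, quad_smul, q1, q2, polar_smul_left, q3, mul_zero, smul_zero, add_zero, add_zero] at h2
  exact mul_ne_zero (pow_ne_zero 2 fun h => hw (CharTwo.add_eq_zero.1 h)) hx h2

end Os

end CF.Dq
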