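import Cfsg.Agent.Dq.M3b
import Cfsg.Agent.Dq.M2

/-! Involutions of an orthogonal group fixing only singular vectors, part 3. -/

set_option autoImplicit false
set_option linter.unusedSectionVars false

namespace CF.Dq

open Cfsg Subgroup Equiv CF.Loc CF.LX CF.Geom QuadraticMap Module CF.Cls M3 M3.A
open CF.Dbl (El)

variable {F V : Type*} [Field F] [Finite F] [CharP F 2] [AddCommGroup V] [Module F V] [FiniteDimensional F V]
  {Q : QuadraticForm F V} {a b n m r u v x y : V} {c : F} {g s : OG Q} {H : Subgroup (OG Q)}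

theorem Os.at_irr (o : Os Q) (k : AT s) (a0 : a ≠ 0) (e : s.1 a = a) (f : polar Q a n = 0) (i : ∀ c : F, s.1 n + n ≠ c • a) (l : 𝐂₁(s) ≤ H)
    (m : ei Q a n ∈ H) : _root_.commutator (OG Q) ≤ H ∨ ∀ g ∈ H, ∀ u, s.1 u = u → s.1 (g.1 u) = g.1 u := by
  have qa := k.fx a e
  have h1 : ∀ y, polar Q a y = 0 → polar Q (s.1 n + n) y ≠ 0 → ei Q a y ∈ H := fun y p j => by
    rw [adj k, polar_comm] at j
    have t := l (cN k (a := s.1 y + y) (y := (polar Q (s.1 y + y) n)⁻¹ • y) (by rw [map_smul, ← smul_add]) (fN k _))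
    have q : polar Q (s.1 y + y) ((polar Q (s.1 y + y) n)⁻¹ • y) = 0 := by rw [polar_smul_right, alt' k, smul_zero]
    have := H.mul_mem (H.mul_mem t m) (H.inv_mem t)
    rw [ei_cj, ei_ap (k.fx _ (fN k _)) q, ei_ap (k.fx _ (fN k _)) q, uu k (fN k _) e, polar_smul_left, polar_comm _ y, p,
      smul_inv_smul₀ j] at this
    simp only [zero_smul, smul_zero, mul_zero, add_zero] at this
    generalize _ + Q _ * _ = d at this
    have w : s.1 (d • (s.1 y + y)) = d • (s.1 y + y) := by rw [map_smul, fN k]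
    have f' : polar Q a (n + y) = 0 := by rw [polar_add_right, f, p, add_zero]
    rw [← ei_mul qa f' (uu k e w), H.mul_mem_cancel_right (l (cm (by rw [e, w]))), ← ei_mul qa f p] at this
    exact (H.mul_mem_cancel_left m).1 this
  obtain ⟨x, p, p'⟩ := (isWittPair_quad Q o.nd).exists_dual_vec (x := s.1 n + n) (Z := F ∙ a) fun z =>
    let ⟨c, z⟩ := Submodule.mem_span_singleton.1 z; i c z.symm
  replace p' : polar Q a x = 0 := p' a (Submodule.mem_span_singleton_self a)
  change polar Q _ _ = 1 at p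
  have h2 : Qe Q a ≤ H := fun g w => by
    obtain ⟨y, t, z⟩ := (mem_Qe qa).1 w
    subst z
    by_cases j : polar Q (s.1 n + n) y = 0
    · have f' : polar Q a (y + x) = 0 := by rw [polar_add_right, t, p', add_zero]
      have := H.mul_mem (h1 _ f' (by rw [polar_add_right, j, p, zero_add]; exact one_ne_zero)) (h1 x p' (p ▸ one_ne_zero))
      rwa [ei_mul qa f' p', add_assoc, vv F, add_zero] at this
    · exact h1 y t j
  have h3 : ∀ b, b ≠ 0 → s.1 b = b → Qe Q b ≤ H := fun b b0 t => let ⟨g, j, z⟩ := tr o k a0 e b0 t; z ▸ qe h2 (l j)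
  refine or_iff_not_imp_left.2 fun z g j u t => prp o k fun b w => by_contra fun p => z ?_
  refine o.gen ((OG_map g u).trans (k.fx u t)) (k.fx b w) p (qe (h3 u ?_ t) j) (h3 b ?_ w) <;> rintro rfl <;> simp at p

end CF.Dq
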