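import Cfsg.Agent.Dq.G1a
import Cfsg.Agent.Dq.M2
import Cfsg.Agent.Dq.M3

/-! An orthogonal group containing all conjugates of a reflection commuting with it: commuting conjugates, blocks. -/

set_option autoImplicit false
set_option linter.unusedSectionVars false

namespace CF.Dq

open Cfsg Subgroup Equiv CF.Loc CF.LX CF.Geom QuadraticMap Module
open CF.Ud (E2)
open CF.Dbl (El)
open scoped commutatorElement

variable {F V : Type*} [Field F] [Finite F] [CharP F 2] [AddCommGroup V] [Module F V] [FiniteDimensional F V]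
  {Q : QuadraticForm F V} {θ θ' : F ≃+* F} {ξ ξ' : Perm V} {r v x y : V} {c : F} {g : OG Q}
  {G : Type*} [Group G] [Finite G] {Φ : OG Q →* G} {t d e e' h h' z : G} {P X : Subgroup G}

namespace OD
variable (k : OD Φ r t)
include k

theorem fp (i : h ∈ N0 Φ t) (e : h * h = 1) (f : ∀ d, D0 Φ d → d * h ≠ h * d) : ∃ s, AT s ∧ h = Φ s := by
  obtain ⟨θ, ξ, s, a⟩ := k.ex_act i
  have e2 : ξ * ξ = 1 := k.act_eq (s.mul s) so_one (a.mul s a) (e ▸ act_one)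
  have fx : ∀ x, ξ x = x → Q x = 0 := fun x u => by
    by_contra n
    have := a.refl s x
    rw [u] at this
    exact f _ ⟨x, n, rfl⟩ (conj_eq_iff.1 this).symm
  obtain rfl := k.toOs.fp s e2 fx
  obtain ⟨g, rfl⟩ := s.lin
  have g2 : g * g = 1 := og_ext fun x => congrFun (congrArg DFunLike.coe e2) x
  have c : h * (Φ g)⁻¹ ∈ 𝐂(Φ.range) := by
    rintro _ ⟨u, rfl⟩
    have b := a.mul (so_of g).inv (act_of g).inv
    rw [mul_inv_cancel] at b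
    exact (mul_inv_eq_iff_eq_mul.1 (b u u fun _ => rfl)).symm
  have c1 := k.c2 _ c ⟨1, by
    have u := c (Φ g)⁻¹ ⟨g⁻¹, map_inv _ _⟩
    have w : (Φ g)⁻¹ * (Φ g)⁻¹ = 1 := by rw [← mul_inv_rev, ← map_mul, g2, map_one, inv_one]
    have u' : (Φ g)⁻¹ * h = h * (Φ g)⁻¹ := by
      rw [← mul_assoc] at u
      exact mul_right_cancel u
    calc _ = h * ((Φ g)⁻¹ * h) * (Φ g)⁻¹ := by rw [pow_one, pow_two]; group
      _ = (h * h) * ((Φ g)⁻¹ * (Φ g)⁻¹) := by rw [u']; group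
      _ = 1 := by rw [e, w, one_mul]⟩
  exact ⟨g, ⟨g2, fx⟩, mul_inv_eq_one.1 c1⟩

theorem no_at {s : OG Q} (a : AT s) : ¬ IsConj t (Φ s) := fun i => by
  obtain ⟨B, l, b⟩ := k.toOs.at_big a
  obtain ⟨m, e⟩ := isConj_iff.1 i
  have et : m⁻¹ * Φ s * m = t := by rw [← e]; group
  have u : ∀ g ∈ B, m⁻¹ * Φ g * m ∈ 𝐂₁(t) ∧ D0 Φ (t * (m⁻¹ * Φ g * m)) := fun g j => by
    have c : m⁻¹ * Φ g * m ∈ 𝐂₁(t) := mem_c1.2 (by
      calc _ = m⁻¹ * (Φ g * Φ s) * m := by rw [← et]; group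
        _ = _ := by rw [← map_mul, (b g j).1, map_mul, ← et]; group)
    refine ⟨c, k.dc _ ?_ (mul_mem (mem_c1.2 rfl) c)⟩
    refine (i.trans (Φ.map_isConj (b g j).2)).trans (isConj_iff.2 ⟨m⁻¹, ?_⟩)
    rw [map_mul, ← et]; group
  have le : cj[m⁻¹] (B.map Φ) ≤ Φ.range := by
    rintro _ ⟨_, ⟨g, j, rfl⟩, rfl⟩
    obtain ⟨x, -, w⟩ := (u g j).2
    refine ⟨oRefl Q r * oRefl Q x, ?_⟩
    rw [map_mul, ← k.tt, ← w, ← mul_assoc, k.t2.1, one_mul]; simp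
  have c : Nat.card ((cj[m⁻¹] (B.map Φ)).comap Φ) = Nat.card B := by
    rw [← card_map_of_injective k.inj, map_comap_eq_self le, card_cj, card_map_of_injective k.inj]
  refine (c ▸ l).not_ge (k.toOs.bb k.qr fun g j => ?_)
  obtain ⟨_, ⟨g', j', rfl⟩, w⟩ := j
  have w' : m⁻¹ * Φ g' * m = Φ g := by rw [← w]; simp
  obtain ⟨c, x, n, f⟩ := u g' j'
  rw [w'] at c f
  exact ⟨k.inj (by rw [map_mul, map_mul, ← k.tt]; exact mem_c1.1 c), x, n, k.inj (by rw [map_mul, ← k.tt, f])⟩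

theorem cl1 (i : IsConj t e) (c : t * (e * t * e) = e * t * e * t) : t * e = e * t := by
  have e2 := cj_sq i k.t2.1
  have ei : e⁻¹ = e := inv_eq_of_mul_eq_one_right e2
  have n : e ∈ N0 Φ t := k.mem_N0.2 (k.dc _ (isConj_iff.2 ⟨e, rfl⟩) (mem_c1.2 (by rw [ei, c])))
  by_cases f : ∀ d, D0 Φ d → d * e ≠ e * d
  · obtain ⟨s, a, rfl⟩ := k.fp n e2 f
    exact absurd i (k.no_at a)
  push Not at f
  obtain ⟨d, u, w⟩ := f
  obtain ⟨y, m, rfl⟩ := k.dc0 u i w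
  have a : Φ (oRefl Q y) * t * Φ (oRefl Q y) = Φ (oRefl Q ((oRefl Q y).1 r)) := by
    rw [← conj_oRefl, oRefl_inv, map_mul, map_mul, k.tt]
  rw [a, k.tt, ← map_mul, ← map_mul] at c
  have b := (k.toOs.refl_comm k.r0 ((so_of (oRefl Q y)).ne k.r0)).1 (k.inj c)
  change polar Q r ((oRefl Q y).1 r) = 0 at b
  rw [refl_ap, polar_add_right, polar_smul_right, pol_self, zero_add, polar_comm Q y r, smul_eq_mul] at b
  have b' : polar Q r y = 0 := by simpa [m] using b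
  rw [k.tt, ← map_mul, ← map_mul, (k.toOs.refl_comm k.r0 m).2 b']

theorem cl (i : IsConj t d) (i' : IsConj t e) (f : E2 (d * e)) : d * e = e * d := by
  obtain ⟨j, f⟩ := f
  induction j generalizing d e with
  | zero =>
    rw [pow_zero, pow_one] at f
    rw [f, mul_eq_one_comm.1 f]
  | succ j ih =>
    have e2 := cj_sq i' k.t2.1
    have ei : e⁻¹ = e := inv_eq_of_mul_eq_one_right e2
    have c := ih i (i.trans (isConj_iff.2 ⟨e, rfl⟩)) (by rw [ei, ← f, pow_succ', pow_mul, pow_two]; simp only [mul_assoc])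
    rw [ei] at c
    obtain ⟨m, rfl⟩ := isConj_iff.1 i
    have := k.cl1 (e := m⁻¹ * e * m) (i'.trans (isConj_iff.2 ⟨m⁻¹, by simp⟩)) (by
      calc _ = m⁻¹ * (m * t * m⁻¹ * (e * (m * t * m⁻¹) * e)) * m := by group
        _ = _ := by rw [c]; group)
    calc _ = m * (t * (m⁻¹ * e * m)) * m⁻¹ := by group
      _ = _ := by rw [this]; group

theorem d0_two (two : IsPGroup 2 P) (i : t ∈ P) (j : d ∈ P) (c : IsConj t d) : D0 Φ d :=
  k.dc d c (mem_c1.2 (k.cl (IsConj.refl t) c (E2_of_mem two (mul_mem i j))).symm)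

theorem two_le (two : IsPGroup 2 P) (i : t ∈ P) : P ≤ N0 Φ t := fun s j =>
  k.mem_N0.2 (k.d0_two two i (mul_mem (mul_mem j i) (inv_mem j)) (isConj_iff.2 ⟨s, rfl⟩))

theorem ex_syl (l : N0 Φ t ≤ X) : ∃ S, IsSyl 2 S X ∧ t ∈ S := by
  obtain ⟨S, a, b⟩ := exists_isSyl_ge (two_zp k.t2.1) (zpowers_le.2 (l (c_N0 (mem_c1.2 rfl))))
  exact ⟨S, a, b (mem_zpowers t)⟩

theorem two_N0 (l : N0 Φ t ≤ X) (two : IsPGroup 2 P) (l' : P ≤ X) : ∃ m ∈ X, cj[m] P ≤ N0 Φ t := by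
  obtain ⟨S, a, b⟩ := k.ex_syl l
  obtain ⟨m, i, e⟩ := a.exists_cj_le two l'
  exact ⟨m, i, e.trans (k.two_le a.isPGroup b)⟩

theorem uq (l : N0 Φ t ≤ X) (i : h * t * h⁻¹ ∈ X) : h ∈ X := by
  obtain ⟨S, a, b⟩ := k.ex_syl l
  obtain ⟨m, j, e⟩ := a.exists_cj_le (two_zp (cj_sq (isConj_iff.2 ⟨h, rfl⟩) k.t2.1)) (zpowers_le.2 i)
  have u := e (conj_mem_cj m (mem_zpowers _))
  have w : m * (h * t * h⁻¹) * m⁻¹ = m * h * t * (m * h)⁻¹ := by group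
  rw [w] at u
  exact (X.mul_mem_cancel_left j).1 (l (k.mem_N0.2 (k.d0_two a.isPGroup b u (isConj_iff.2 ⟨_, rfl⟩))))

theorem uq0 (l : N0 Φ t ≤ X) (e : D0 Φ d) (i : h * d * h⁻¹ ∈ X) : h ∈ X := by
  obtain ⟨g, rfl⟩ := k.d0_cj e
  have w : h * (Φ g * t * (Φ g)⁻¹) * h⁻¹ = h * Φ g * t * (h * Φ g)⁻¹ := by group
  exact (X.mul_mem_cancel_right (l (phi_N0 g))).1 (k.uq l (w ▸ i))

omit k in
theorem mem_Z (p : Pr Q v r) : z ∈ (Zr Q v r).map Φ ↔ ∃ c : F, z = Φ (ei Q v (c • r)) :=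
  ⟨fun ⟨_, i, e⟩ => let ⟨c, f⟩ := (mem_Zr p).1 i; ⟨c, by rw [← e, f]⟩, fun ⟨c, e⟩ => ⟨_, (mem_Zr p).2 ⟨c, rfl⟩, e.symm⟩⟩

theorem vi (p : Pr Q v r) (i : z ∈ (Zr Q v r).map Φ) (z1 : z ≠ 1) (e : D0 Φ d) (c : d * z = z * d) (f : IsConj t (d * z)) :
    t * d ∈ (Zr Q v r).map Φ := by
  obtain ⟨y, m, u⟩ := k.dc0 e f (by rw [mul_assoc, ← c])
  obtain ⟨b, rfl⟩ := (mem_Z p).1 i
  have d2 := e.sq
  obtain ⟨x, n, rfl⟩ := e
  have b0 : b ≠ 0 := fun w => z1 (by rw [w, zero_smul, ei_zero, map_one])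
  obtain ⟨a, w⟩ := k.toOs.vi p b0 n m (k.inj (by rw [map_mul, ← u, ← mul_assoc, d2, one_mul]))
  exact (mem_Z p).2 ⟨a, by rw [w, map_mul, ← k.tt, ← mul_assoc, k.t2.1, one_mul]⟩

omit k in
theorem pr_smul (p : Pr Q v r) (c : F) : polar Q v (c • r) = 0 := by rw [polar_smul_right, p.vr, smul_zero]

theorem bk (p : Pr Q v r) : BK t ((Zr Q v r).map Φ) where
  t2 := k.t2.1
  t1 := k.t2.2
  ne e := by
    have a : Φ (ei Q v ((1 : F) • r)) ∈ (⊥ : Subgroup G) := e ▸ (mem_Z p).2 ⟨1, rfl⟩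
    rw [mem_bot, one_smul, ← map_one Φ, ← ei_zero (Q := Q) v] at a
    obtain ⟨c, f⟩ := k.toOs.ei_inj p.v0 p.qv (polar_zero_right Q v) p.vr (k.inj a).symm
    exact k.r0 (by rw [f, zero_add, quad_smul, p.qv, mul_zero])
  el z i := by
    obtain ⟨b, rfl⟩ := (mem_Z p).1 i
    rw [← map_mul, ei_sq, map_one]
  cz z i := by
    obtain ⟨b, rfl⟩ := (mem_Z p).1 i
    refine (conj_eq_iff.1 ?_).symm
    rw [k.tt, ← map_inv, ← map_mul, ← map_mul, ei_cj, oRefl_of_polar_eq_zero (by rw [polar_comm, p.vr]),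
      oRefl_of_polar_eq_zero (by rw [polar_smul_right, pol_self, smul_zero])]
  cl _ _ := k.cl
  b1 := by
    rintro _ ⟨g, e, rfl⟩ n
    obtain ⟨θ, ξ, s, a⟩ := k.act g (mem_c1.2 (conj_eq_iff.1 e.symm))
    have xr : ξ r = r := by
      have u := a.refl s r
      rw [← k.tt, ← e, k.tt] at u
      obtain ⟨c, -, f⟩ := k.toOs.refl_eq k.r0 (s.ne k.r0) (k.inj u)
      have q := s.q r
      rw [f, quad_smul, k.qr, map_one, mul_one, pow_two, mul_self_eq_one_iff] at q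
      rw [f]
      rcases q with q | q <;> rw [q]
      · exact one_smul _ _
      · rw [CharTwo.neg_eq, one_smul]
    have cz : ∀ b : F, g * Φ (ei Q v (b • r)) * g⁻¹ = Φ (ei Q (ξ v) (θ b • r)) := fun b => by rw [a.ei s, s.smul, xr]
    obtain ⟨⟨z, i, _, j, rfl⟩, z1⟩ := (Subgroup.ne_bot_iff_exists_ne_one).1 n
    obtain ⟨b, u⟩ := (mem_Z p).1 i
    obtain ⟨b', rfl⟩ := (mem_Z p).1 j
    have b0 : b ≠ 0 := fun w => z1 (Subtype.ext (u.trans (by rw [w, zero_smul, ei_zero, map_one]; rfl)))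
    obtain ⟨-, -, l, -, -, f, -⟩ := k.toOs.ei_eq p.v0 p.qv (pr_smul p b) (by
      rw [quad_smul, k.qr, mul_one]; exact pow_ne_zero 2 b0) (k.inj ((cz b').symm.trans u))
    refine cj_eq_self (mem_normalizer_of_cj_le ?_)
    rintro _ ⟨_, j, rfl⟩
    obtain ⟨b', rfl⟩ := (mem_Z p).1 j
    exact (mem_Z p).2 ⟨l * θ b', (cz b').trans (by rw [f, ei_smul p.qv (pr_smul p _), smul_smul])⟩
  b3 z i := by
    obtain ⟨b, rfl⟩ := (mem_Z p).1 i
    obtain ⟨y, u, w⟩ := k.toOs.ex_tr p b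
    refine ⟨Φ (ei Q v y), fun z j => ?_, ?_⟩
    · obtain ⟨a, rfl⟩ := (mem_Z p).1 j
      rw [← map_mul, ← map_mul, ei_mul p.qv u (pr_smul p a), ei_mul p.qv (pr_smul p a) u, add_comm]
    · rw [k.tt, ← map_inv, ← map_mul, ← map_mul, ← map_mul, conj_oRefl, w, ← ei_smul p.qv p.vr,
        ei_refl (by rw [quad_smul, p.qv, mul_zero]) (by rw [polar_smul_left, p.vr, smul_zero]) k.r0, ← mul_assoc,
        oRefl_mul_self, one_mul, k.qr, one_smul]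
  b4 e z i z1 a c c' f := k.vi p i z1 (k.dc e a (mem_c1.2 c)) c' f

end OD

end CF.Dq
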