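import Cfsg.Agent.Dq.M1

/-! An orthogonal group containing all conjugates of a reflection commuting with it: basic facts. -/

set_option autoImplicit false
set_option linter.unusedSectionVars false

namespace CF.Dq

open Cfsg Subgroup Equiv CF.Loc CF.LX CF.Geom QuadraticMap Module
open CF.Ud (E2)
open CF.Dbl (El)
open scoped commutatorElement

variable {F V : Type*} [Field F] [Finite F] [CharP F 2] [AddCommGroup V] [Module F V] [FiniteDimensional F V]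
  {Q : QuadraticForm F V} {θ θ' : F ≃+* F} {ξ ξ' : Perm V} {r v x y : V} {c : F} {g : OG Q}
  {G : Type*} [Group G] [Finite G] {Φ : OG Q →* G} {t d e e' h h' z : G} {P X : Subgroup G}

theorem act_one : Act Φ 1 1 := fun g g' e => by rw [og_ext (g := g') (s := g) e]; simp

theorem Act.mul (a : Act Φ h ξ) (k : So Q θ' ξ') (a' : Act Φ h' ξ') : Act Φ (h * h') (ξ * ξ') := fun g g' e => by
  obtain ⟨g₁, e₁⟩ := k.ex g
  have := a g₁ g' fun y => by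
    obtain ⟨x, rfl⟩ := ξ'.surjective y
    rw [e₁]; exact e x
  rw [← this, ← a' g g₁ e₁]; group

theorem Act.inv (a : Act Φ h ξ) : Act Φ h⁻¹ ξ⁻¹ := fun g g' e => by
  have := a g' g fun y => by
    have := congrArg ξ (e (ξ y))
    simpa using this.symm
  rw [← this]; group

theorem act_of (g : OG Q) : Act Φ (Φ g) g.1.toEquiv := fun a a' e => by
  rw [← map_inv, ← map_mul, ← map_mul]
  refine congrArg Φ (mul_inv_eq_iff_eq_mul.2 (og_ext fun x => (e x).symm))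

theorem Act.refl (a : Act Φ h ξ) (k : So Q θ ξ) (x : V) : h * Φ (oRefl Q x) * h⁻¹ = Φ (oRefl Q (ξ x)) := a _ _ (k.refl x)

theorem Act.ei (a : Act Φ h ξ) (k : So Q θ ξ) (u w : V) : h * Φ (ei Q u w) * h⁻¹ = Φ (ei Q (ξ u) (ξ w)) := a _ _ (k.ei u w)

theorem act_cen (i : h ∈ 𝐂(Φ.range)) : Act Φ h 1 := fun g g' e => by
  rw [og_ext (g := g') (s := g) e, ← mem_centralizer_iff'.1 i (Φ g) ⟨g, rfl⟩, mul_inv_cancel_right]

theorem D0.sq (e : D0 Φ d) : d * d = 1 := by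
  obtain ⟨x, -, rfl⟩ := e
  rw [← map_mul, oRefl_mul_self, map_one]

theorem So.ne (k : So Q θ ξ) (n : Q x ≠ 0) : Q (ξ x) ≠ 0 := by rw [k.q]; exact (map_ne_zero θ).2 n

theorem cj_sq (i : IsConj t d) (e : t * t = 1) : d * d = 1 := by
  obtain ⟨m, rfl⟩ := isConj_iff.1 i
  rw [← conj_mul_conj, e]; simp

theorem E2_of_mem (two : IsPGroup 2 P) (i : h ∈ P) : E2 h := by
  obtain ⟨j, e⟩ := two ⟨h, i⟩
  exact ⟨j, congrArg Subtype.val e⟩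

theorem two_zp (e : h * h = 1) : IsPGroup 2 (zpowers h) := isPGroup_zpowers (k := 1) (by rw [pow_one, pow_two, e])

namespace OD
variable (k : OD Φ r t)
include k

theorem r0 : Q r ≠ 0 := k.qr ▸ one_ne_zero

theorem d0_t : D0 Φ t := ⟨r, k.r0, k.tt⟩

theorem t2 : t * t = 1 ∧ t ≠ 1 := ⟨k.d0_t.sq, fun e => k.toOs.refl_nm k.r0 (by
  rw [k.inj (a₁ := oRefl Q r) (a₂ := 1) (by rw [← k.tt, e, map_one])]; exact one_mem _)⟩

theorem d0_cj (e : D0 Φ d) : ∃ g : OG Q, d = Φ g * t * (Φ g)⁻¹ := by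
  obtain ⟨x, n, rfl⟩ := e
  obtain ⟨g, e⟩ := k.toOs.refl_cj k.r0 n
  exact ⟨g, by rw [← e, k.tt, map_mul, map_mul, map_inv]⟩

theorem d0_conj (e : D0 Φ d) : IsConj t d := by
  obtain ⟨g, rfl⟩ := k.d0_cj e
  exact isConj_iff.2 ⟨_, rfl⟩

omit k in
theorem phi_N0 (g : OG Q) : Φ g ∈ N0 Φ t := (le_sup_left : Φ.range ≤ _) ⟨g, rfl⟩

omit k in
theorem c_N0 (i : h ∈ 𝐂₁(t)) : h ∈ N0 Φ t := (le_sup_right : 𝐂₁(t) ≤ _) i

theorem ex_act (i : h ∈ N0 Φ t) : ∃ θ ξ, So Q θ ξ ∧ Act Φ h ξ := by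
  let S : Subgroup G :=
    { carrier := {h | ∃ θ ξ, So Q θ ξ ∧ Act Φ h ξ}
      one_mem' := ⟨1, 1, so_one, act_one⟩
      mul_mem' := fun ⟨_, _, a, b⟩ ⟨_, _, a', b'⟩ => ⟨_, _, a.mul a', b.mul a' b'⟩
      inv_mem' := fun ⟨_, _, a, b⟩ => ⟨_, _, a.inv, b.inv⟩ }
  have : N0 Φ t ≤ S := sup_le (by rintro _ ⟨g, rfl⟩; exact ⟨_, _, so_of g, act_of g⟩) k.act
  exact this i

theorem act_eq (s : So Q θ ξ) (s' : So Q θ' ξ') (a : Act Φ h ξ) (a' : Act Φ h ξ') : ξ = ξ' := by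
  have b := a'.inv.mul s a
  rw [inv_mul_cancel] at b
  have := k.toOs.so_eq (s'.inv.mul s) fun x _ => k.inj (by rw [← b.refl (s'.inv.mul s)]; simp)
  exact (inv_mul_eq_one.1 this).symm

theorem psi : ∃ ψ : N0 Φ t →* Perm V, (∀ h, ∃ θ, So Q θ (ψ h) ∧ Act Φ h (ψ h)) ∧ (∀ h, ψ h = 1 ↔ h.1 ∈ 𝐂(Φ.range)) ∧
    ∀ g : OG Q, ∀ m, ψ ⟨Φ g, m⟩ = g.1.toEquiv := by
  choose θ ξ s a using fun h : N0 Φ t => k.ex_act h.2
  refine ⟨MonoidHom.mk' ξ fun h h' => k.act_eq (s _) ((s h).mul (s h')) (a _) ((a h).mul (s h') (a h')),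
    fun h => ⟨θ h, s h, a h⟩, fun h => ⟨fun e => ?_, fun i => k.act_eq (s h) so_one (a h) (act_cen i)⟩,
    fun g m => k.act_eq (s _) (so_of g) (a _) (act_of g)⟩
  rintro _ ⟨g, rfl⟩
  have e' : ξ h = 1 := e
  exact (mul_inv_eq_iff_eq_mul.1 (a h g g fun x => by rw [e']; rfl)).symm

theorem d0_N0 (i : h ∈ N0 Φ t) (e : D0 Φ d) : D0 Φ (h * d * h⁻¹) := by
  obtain ⟨θ, ξ, s, a⟩ := k.ex_act i
  obtain ⟨x, n, rfl⟩ := e
  exact ⟨ξ x, s.ne n, a.refl s x⟩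

theorem mem_N0 : h ∈ N0 Φ t ↔ D0 Φ (h * t * h⁻¹) := ⟨fun i => k.d0_N0 i k.d0_t, fun e => by
  obtain ⟨g, e⟩ := k.d0_cj e
  have : (Φ g)⁻¹ * h ∈ N0 Φ t := c_N0 (mem_c1.2 (conj_eq_iff.1 (by
    calc _ = (Φ g)⁻¹ * (h * t * h⁻¹) * Φ g := by group
      _ = t := by rw [e]; group)))
  simpa using mul_mem (phi_N0 g) this⟩

omit k in
theorem G0_eq : G0 Φ = ⁅Φ.range, Φ.range⁆ := by
  rw [G0, _root_.commutator_def, map_commutator, ← MonoidHom.range_eq_map]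

theorem N0_le : N0 Φ t ≤ 𝐍(G0 Φ) ∧ N0 Φ t ≤ 𝐍(Φ.range) ∧ H0 Φ t ≤ 𝐍(G0 Φ) := by
  have a : N0 Φ t ≤ 𝐍(Φ.range) := le_normalizer_iff_cj.2 fun h i => by
    obtain ⟨θ, ξ, s, a⟩ := k.ex_act i
    rintro _ ⟨_, ⟨g, rfl⟩, rfl⟩
    obtain ⟨g', e⟩ := s.ex g
    exact ⟨g', (a g g' e).symm⟩
  have b : N0 Φ t ≤ 𝐍(G0 Φ) := G0_eq (Φ := Φ) ▸ le_normalizer_commutator a a
  exact ⟨b, a, sup_le (centralizer_le_normalizer _) b⟩

theorem mem_H0 : h ∈ H0 Φ t ↔ ∃ c ∈ 𝐂(G0 Φ), ∃ n ∈ N0 Φ t, h = c * n := by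
  rw [H0, mem_sup_of_le_normalizer (le_normalizer_centralizer k.N0_le.1)]
  simp only [eq_comm]

theorem dc0 (e : D0 Φ d) (i : IsConj t e') (c : d * e' = e' * d) : D0 Φ e' := by
  obtain ⟨g, rfl⟩ := k.d0_cj e
  have := k.d0_N0 (phi_N0 g) (k.dc ((Φ g)⁻¹ * e' * Φ g) (i.trans (isConj_iff.2 ⟨(Φ g)⁻¹, by simp⟩)) (mem_c1.2 (by
    calc _ = (Φ g)⁻¹ * (e' * (Φ g * t * (Φ g)⁻¹)) * Φ g := by group
      _ = _ := by rw [← c]; group)))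
  simpa [mul_assoc] using this

theorem cen_range (i : h ∈ 𝐂(G0 Φ)) (c : t * h = h * t) : h ∈ 𝐂(Φ.range) := by
  rintro _ ⟨g, rfl⟩
  rcases k.toOs.refl_om k.r0 g with m | m
  · exact i _ ⟨g, m, rfl⟩
  · have := i _ ⟨_, m, rfl⟩
    rw [map_mul, ← k.tt, mul_assoc, c, ← mul_assoc, ← mul_assoc] at this
    exact mul_right_cancel this

theorem kodd : Odd (Nat.card 𝐂(G0 Φ)) := by
  rw [← Nat.not_even_iff_odd, even_iff_two_dvd]
  intro ev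
  have n : zpowers t ≤ 𝐍(𝐂(G0 Φ)) := zpowers_le.2 (le_normalizer_centralizer k.N0_le.1 (k.tt ▸ phi_N0 _))
  obtain ⟨T, hT, l⟩ := exists_isSyl_ge (two_zp k.t2.1) (le_sup_right : zpowers t ≤ 𝐂(G0 Φ) ⊔ zpowers t)
  have s := hT.inf_of_le_normalizer le_sup_left (sup_le le_normalizer n)
  have := inf_centralizer_ne_bot s.isPGroup (two_zp k.t2.1)
    (le_normalizer_inf (l.trans le_normalizer) n) (s.ne_bot_iff.2 ev)
  obtain ⟨⟨c, ⟨i, j⟩, m⟩, c1⟩ := (Subgroup.ne_bot_iff_exists_ne_one).1 this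
  exact c1 (Subtype.ext (k.c2 c (k.cen_range j (m t (mem_zpowers t))) (E2_of_mem hT.isPGroup i)))

end OD

end CF.Dq
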