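import Cfsg.Agent.Dq.K1

/-! Blocks of commuting conjugates: intersecting blocks, and the normaliser of a block. -/

set_option autoImplicit false
set_option linter.unusedSectionVars false

namespace CF.Dq

open Subgroup CF.Loc CF.LX K1
open CF.Ud (E2)
open CF.Dbl (El)
open scoped commutatorElement

variable {G : Type*} [Group G] [Finite G] {t d e z : G} {Y Y' Z Z₁ : Subgroup G}

theorem Blk.cj (h : Blk t Z d Y) (g : G) : Blk t Z (g * d * g⁻¹) (cj[g] Y) := by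
  obtain ⟨a, rfl, rfl⟩ := h
  exact ⟨g * a, by group, (cj_mul _ _ _).symm⟩

theorem Blk.ic (h : Blk t Z d Y) : IsConj t d := by
  obtain ⟨a, rfl, -⟩ := h
  exact isConj_iff.2 ⟨a, rfl⟩

namespace BK
variable (k : BK t Z)
include k

theorem sq' (h : IsConj t d) : d * d = 1 := by
  obtain ⟨a, rfl⟩ := isConj_iff.1 h
  rw [conj_mul, k.t2, mul_one, mul_inv_cancel]

theorem elc (g : G) : El (cj[g] Z) := fun x h => by
  have := k.el _ (mem_cj.1 h)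
  rwa [show g⁻¹ * x * g * (g⁻¹ * x * g) = g⁻¹ * (x * x) * g by group, mul_assoc, inv_mul_eq_one, eq_comm, mul_eq_right] at this

theorem cen (h : Blk t Z d Y) : d ∈ 𝐂(Y) := by
  obtain ⟨a, rfl, rfl⟩ := h
  rw [← cj_centralizer]; exact conj_mem_cj a k.cz

theorem mul' (h : Blk t Z d Y) (m : z ∈ Y) : Blk t Z (d * z) Y := by
  obtain ⟨a, rfl, rfl⟩ := h
  obtain ⟨n, c, f⟩ := k.b3 _ (mem_cj.1 m)
  refine ⟨a * n, ?_, by rw [cj_mul, cj_eq_self (centralizer_le_normalizer _ c)]⟩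
  rw [show a * n * t * (a * n)⁻¹ = a * (n * t * n⁻¹) * a⁻¹ by group, f]; group

theorem b1' (h : Blk t Z d Y) (h' : Blk t Z d Y') (n : Y ⊓ Y' ≠ ⊥) : Y' = Y := by
  obtain ⟨a, rfl, rfl⟩ := h
  have := k.b1 (cj[a⁻¹] Y') (by simpa [mul_assoc] using h'.cj a⁻¹) (by
    rw [← cj_inv_cj a Z, ← cj_inf]; exact fun f => n (cj_eq_bot_iff.1 f))
  rw [← this, cj_cj_inv]

theorem b4' (h : Blk t Z d Y) (m : z ∈ Y) (z1 : z ≠ 1) (i : IsConj t e) (c : e * d = d * e) (c' : e * z = z * e)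
    (i' : IsConj t (e * z)) : d * e ∈ Y := by
  obtain ⟨a, rfl, rfl⟩ := h
  have := k.b4 (a⁻¹ * e * a) _ (mem_cj.1 m) (fun f => z1 (by rwa [mul_assoc, inv_mul_eq_one, eq_comm, mul_eq_right] at f))
    (i.trans (isConj_iff.2 ⟨a⁻¹, by simp⟩))
    (by rw [show a⁻¹ * e * a * t = a⁻¹ * (e * (a * t * a⁻¹)) * a by group, c]; group)
    (by rw [show a⁻¹ * e * a * (a⁻¹ * z * a) = a⁻¹ * (e * z) * a by group, c']; group)
    (i'.trans (isConj_iff.2 ⟨a⁻¹, by group⟩))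
  rw [mem_cj]; convert this using 1; group

theorem nrm (n : Z₁ ≠ ⊥) (el : El Z₁) (ti : ∀ a b : G, Z₁ ≤ cj[a] Z → Z₁ ≤ cj[b] Z → cj[a] Z ≠ cj[b] Z → cj[a] Z ⊓ cj[b] Z ≤ Z₁)
    {a b : G} (la : Z₁ ≤ cj[a] Z) (lb : Z₁ ≤ cj[b] Z) : cj[b] Z ≤ 𝐍(cj[a] Z) := by
  have nn : (Z₁.subgroupOf 𝐂(Z₁)).Normal := normal_subgroupOf_of_le_normalizer (centralizer_le_normalizer _)
  let π := QuotientGroup.mk' (Z₁.subgroupOf 𝐂(Z₁))
  let B : Subgroup G → Subgroup _ := fun Y => (Y.subgroupOf 𝐂(Z₁)).map π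
  have π1 : ∀ x y, π x = π y → (x⁻¹ * y).1 ∈ Z₁ := fun x y h => mem_subgroupOf.1 (QuotientGroup.eq.1 h)
  have mB : ∀ Y, Z₁ ≤ Y → ∀ x, π x ∈ B Y ↔ x.1 ∈ Y := fun Y l x =>
    ⟨fun ⟨y, m, h⟩ => by simpa using mul_mem (mem_subgroupOf.1 m) (l (π1 _ _ h)), fun m => ⟨x, m, rfl⟩⟩
  let P : 𝐂(Z₁) → Subgroup G → Prop := fun d Y => Blk t Z d.1 Y ∧ Z₁ ≤ Y
  let D : Set (𝐂(Z₁) ⧸ Z₁.subgroupOf 𝐂(Z₁)) := {x | ∃ d Y, P d Y ∧ π d = x}
  let Zf := fun x => ⨆ (d) (Y) (_ : P d Y ∧ π d = x), B Y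
  have zf : ∀ d Y, P d Y → Zf (π d) = B Y := fun d Y p => by
    refine le_antisymm (iSup_le fun d' => iSup_le fun Y' => iSup_le fun ⟨p', h⟩ => ?_)
      (le_iSup_of_le d (le_iSup_of_le Y (le_iSup_of_le ⟨p, rfl⟩ le_rfl)))
    have := k.mul' p'.1 (p'.2 (π1 _ _ h))
    rw [k.b1' p.1 (by simpa using this) fun f => n (le_bot_iff.1 (f ▸ le_inf p.2 p'.2))]
  have cY : ∀ d Y, Blk t Z d Y → Z₁ ≤ Y → Y ≤ 𝐂(Z₁) := fun d Y ⟨g, _, h⟩ l y m =>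
    mem_centralizer_iff'.2 fun x hx => comm (h ▸ k.elc g) (l hx) m
  have bb : B0 D Zf := by
    refine ⟨?_, ?_, ?_, ?_, ?_, ?_⟩
    · rintro _ ⟨d, Y, p, rfl⟩
      rw [← map_mul, show d * d = 1 from Subtype.ext (k.sq' p.1.ic), map_one]
    · rintro _ ⟨d, Y, p, rfl⟩ g
      obtain ⟨g, rfl⟩ := QuotientGroup.mk'_surjective _ g
      have p' : P (g * d * g⁻¹) (cj[g.1] Y) := ⟨p.1.cj g.1, (cj_eq_self (centralizer_le_normalizer _ g.2)).symm.le.trans (cj_mono _ p.2)⟩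
      have e : π g * π d * (π g)⁻¹ = π (g * d * g⁻¹) := by simp only [map_mul, map_inv]
      erw [e]
      exact ⟨⟨_, _, p', rfl⟩, by rw [zf _ _ p', zf _ _ p]; simp only [B]; rw [subgroupOf_cj, map_cj]⟩
    · rintro _ ⟨d, Y, p, rfl⟩
      rw [zf _ _ p]
      rintro _ ⟨y, m, rfl⟩
      obtain ⟨g, -, h⟩ := p.1
      rw [← map_mul, show y * y = 1 from Subtype.ext ((h ▸ k.elc g : El Y) _ m), map_one]
    · rintro _ ⟨d, Y, p, rfl⟩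
      rw [zf _ _ p]
      rintro _ ⟨y, m, rfl⟩
      have p' : P (d * y) Y := ⟨k.mul' p.1 m, p.2⟩
      rw [← map_mul]
      exact ⟨⟨_, _, p', rfl⟩, zf _ _ p'⟩
    · rintro _ ⟨d, Y, p, rfl⟩ _ ⟨e, Y', p', rfl⟩ ⟨j, h⟩
      rw [zf _ _ p, ← map_mul, mB _ p.2]
      rw [← map_mul, ← map_pow] at h
      have h : ((d * e) ^ 2 ^ j).1 ∈ Z₁ := mem_subgroupOf.1 ((QuotientGroup.eq_one_iff _).1 h)
      have c := k.cl _ _ p.1.ic p'.1.ic ⟨j + 1, by rw [pow_succ, pow_mul, pow_two]; exact el _ h⟩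
      obtain ⟨⟨z, m⟩, z1⟩ := ne_bot_iff_exists_ne_one.1 n
      exact k.b4' p.1 (p.2 m) (fun f => z1 (Subtype.ext f)) p'.1.ic c.symm (mem_centralizer_iff'.1 e.2 z m).symm (k.mul' p'.1 (p'.2 m)).ic
    · rintro _ ⟨d, Y, p, rfl⟩ _ ⟨e, Y', p', rfl⟩ h
      rw [zf _ _ p, zf _ _ p'] at h ⊢
      refine eq_bot_iff.2 fun x m => ?_
      obtain ⟨x, rfl⟩ := QuotientGroup.mk'_surjective _ x
      have m1 := (mB _ p.2 x).1 m.1
      have m2 := (mB _ p'.2 x).1 m.2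
      obtain ⟨⟨g, -, rfl⟩, l⟩ := p
      obtain ⟨⟨g', -, rfl⟩, l'⟩ := p'
      exact (QuotientGroup.eq_one_iff _).2 (ti g g' l l' (fun f => h (by rw [f])) ⟨m1, m2⟩)
  have q : ∀ a : G, Z₁ ≤ cj[a] Z → ∃ d, P d (cj[a] Z) := fun a l =>
    ⟨⟨a * t * a⁻¹, centralizer_anti l (k.cen ⟨a, rfl, rfl⟩)⟩, ⟨a, rfl, rfl⟩, l⟩
  obtain ⟨d, p⟩ := q a la
  obtain ⟨e, p'⟩ := q b lb
  have := bb.nrm ⟨d, _, p, rfl⟩ ⟨e, _, p', rfl⟩
  rw [zf _ _ p, zf _ _ p'] at this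
  refine fun y m => mem_normalizer_of_conj_mem fun x hx => ?_
  have := conj_mem_of_mem_normalizer (this ((mB _ lb ⟨y, cY _ _ p'.1 lb m⟩).2 m)) ((mB _ la ⟨x, cY _ _ p.1 la hx⟩).2 hx)
  rw [← map_inv, ← map_mul, ← map_mul, mB _ la] at this
  exact this

theorem main (g : G) (e : Z ⊓ cj[g] Z ≠ ⊥) (f : cj[g] Z ≠ Z) : ∃ (Z₁ R : Subgroup G) (g z : G), Z₁ ≠ ⊥ ∧ Z₁ < Z ∧
    IsPGroup 2 R ∧ 𝐂(Z₁) ≤ 𝐍(R) ∧ Z ≤ R ∧ R ≤ 𝐂(Z₁) ∧ ⁅R, R⁆ ≤ Z₁ ∧ Z₁ ≤ cj[g] Z ∧ cj[g] Z ≠ Z ∧ z ∈ R ∧ 𝐂(Z₁) ⊓ 𝐂₁(z) ≤ 𝐍(cj[g] Z) := by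
  obtain ⟨g, f, mx⟩ := Set.exists_max_image {g : G | cj[g] Z ≠ Z} (fun g => Nat.card ↥(Z ⊓ cj[g] Z)) (Set.toFinite _) ⟨g, f⟩
  replace e : Z ⊓ cj[g] Z ≠ ⊥ := one_lt_card_iff_ne_bot _ |>.1 (lt_of_lt_of_le ((one_lt_card_iff_ne_bot _).2 e) (mx _ ‹_›))
  set Z₁ := Z ⊓ cj[g] Z with hZ
  have ti : ∀ a b : G, Z₁ ≤ cj[a] Z → Z₁ ≤ cj[b] Z → cj[a] Z ≠ cj[b] Z → cj[a] Z ⊓ cj[b] Z ≤ Z₁ := fun a b la lb n => by
    refine (eq_of_le_of_card_ge (le_inf la lb) ?_).ge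
    rw [← card_cj a⁻¹, cj_inf, cj_inv_cj, ← cj_mul]
    exact mx _ fun h => n (by rw [cj_mul, cj_eq_iff, inv_inv] at h; exact h.symm)
  have ne : ∀ a b : G, cj[a] Z ≤ cj[b] Z → cj[a] Z = cj[b] Z := fun a b l => eq_of_le_of_card_ge l (by rw [card_cj, card_cj])
  have el : El Z₁ := fun x m => k.el x m.1
  have cY : ∀ a : G, Z₁ ≤ cj[a] Z → cj[a] Z ≤ 𝐂(Z₁) := fun a l y m => mem_centralizer_iff'.2 fun x hx => comm (k.elc a) (l hx) m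
  let R := ⨆ a : {a : G // Z₁ ≤ cj[a] Z}, cj[a.1] Z
  have cR : R ≤ 𝐂(Z₁) := iSup_le fun a => cY a.1 a.2
  have nR := cR.trans (centralizer_le_normalizer _)
  have RR : ⁅R, R⁆ ≤ Z₁ := by
    have nY := fun a : {a : G // Z₁ ≤ cj[a] Z} => (cY a.1 a.2).trans (centralizer_le_normalizer _)
    refine commutator_iSup_right_le nY fun a => ?_
    rw [commutator_comm]
    refine commutator_iSup_right_le nY fun b => ?_
    by_cases h : cj[a.1] Z = cj[b.1] Z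
    · refine commutator_le.2 fun x m y m' => ?_
      rw [commutatorElement_eq_one_iff_mul_comm.2 (comm (k.elc a.1) m (h ▸ m'))]
      exact one_mem _
    · exact (le_inf (commutator_le_left_of_le_normalizer (k.nrm e el ti a.2 b.2))
        (commutator_le_right_of_le_normalizer (k.nrm e el ti b.2 a.2))).trans (ti _ _ a.2 b.2 h)
  obtain ⟨z, m, z1⟩ : ∃ z ∈ cj[g] Z, z ∉ Z₁ := by
    by_contra! h
    exact f ((ne g 1 (by rw [cj_one]; exact fun x m => (h x m).1)).trans (cj_one Z))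
  have lR : ∀ a : G, Z₁ ≤ cj[a] Z → cj[a] Z ≤ R := fun a l => le_iSup (fun a : {a : G // Z₁ ≤ cj[a] Z} => cj[a.1] Z) ⟨a, l⟩
  have lc : ∀ h ∈ 𝐂(Z₁), ∀ a : G, Z₁ ≤ cj[a] Z → Z₁ ≤ cj[h * a] Z := fun h c a l => by
    rw [cj_mul]; exact (cj_eq_self (centralizer_le_normalizer _ c)).symm.le.trans (cj_mono _ l)
  refine ⟨Z₁, R, g, z, e, lt_of_le_of_ne inf_le_left fun h => f ?_, fun x => ⟨2, Subtype.ext ?_⟩, le_normalizer_iff_cj.2 fun h c => ?_,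
    by simpa only [cj_one] using lR 1 (by rw [cj_one]; exact inf_le_left), cR, RR, inf_le_right, f, lR g inf_le_right m, fun h c => ?_⟩
  · exact ((cj_one Z).symm.trans (ne 1 g (by rw [cj_one]; exact h.ge.trans inf_le_right))).symm
  · have : x.1 ∈ R ∧ x.1 * x.1 ∈ Z₁ := by
      refine iSup_induction _ (C := fun x => x ∈ R ∧ x * x ∈ Z₁) x.2 (fun a y m => ⟨lR _ a.2 m, ?_⟩) (by simp) fun x y p q => ⟨mul_mem p.1 q.1, ?_⟩
      · rw [k.elc _ _ m]; exact one_mem _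
      · rw [show x * y * (x * y) = x * x * ⁅x⁻¹, y⁆ * (y * y) by simp [commutatorElement_def, mul_assoc]]
        exact mul_mem (mul_mem p.2 (RR (commutator_mem_commutator (inv_mem p.1) q.1))) q.2
    rw [SubgroupClass.coe_pow, show 2 ^ 2 = 2 * 2 from rfl, pow_mul, pow_two, pow_two]
    exact el _ this.2
  · rw [cj_iSup]
    exact iSup_le fun a => by rw [← cj_mul]; exact lR _ (lc h c _ a.2)
  · by_contra n
    refine z1 (ti (h * g) g (lc h c.1 g inf_le_right) inf_le_right (fun f => n (cj_eq_self_iff.1 (by rw [← cj_mul, f]))) ⟨?_, m⟩)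
    have := conj_mem_cj h m
    rwa [conj_eq_iff.2 (mem_c1.1 c.2), ← cj_mul] at this

theorem zs : ∃ O : Subgroup G, Odd (Nat.card O) ∧ O ≤ 𝐂(Z) ∧ 𝐍(Z) ≤ 𝐍(O) ∧
    (∀ K ≤ 𝐂(Z), Odd (Nat.card K) → 𝐂(Z) ≤ 𝐍(K ⊔ O) → K ≤ O) ∧
    ∀ h ∈ 𝐍(Z), ∃ o ∈ O, ∃ m ∈ 𝐍(Z), h = o * m ∧ t * (m * t * m⁻¹) ∈ Z := by
  set O := Cfsg.piCoreOf {2}ᶜ 𝐂(Z)
  have oO : Odd (Nat.card O) := CF.Bender.odd_of_pi (CF.BG.O_pi _ _)
  have lO : O ≤ 𝐂(Z) := CF.BG.O_le _ _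
  have nO : 𝐍(Z) ≤ 𝐍(O) := (normalizer_le_normalizer_centralizer Z).trans (CF.BG.norm_O _ _)
  have mO : ∀ K ≤ 𝐂(Z), Odd (Nat.card K) → 𝐂(Z) ≤ 𝐍(K) → K ≤ O := fun K l o n => CF.BG.le_O ⟨l, n⟩ (CF.Bender.pi_of_odd o)
  have cN : 𝐂(Z) ≤ 𝐍(Z) := centralizer_le_normalizer _
  have ZC : Z ≤ 𝐂(Z) := fun y m => mem_centralizer_iff'.2 fun x hx => comm k.el hx m
  obtain ⟨⟨z, zZ⟩, z1⟩ := ne_bot_iff_exists_ne_one.1 k.ne
  -- conjugates under `N(Z)` generating a `2`-group with `t`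
  have A : ∀ m ∈ 𝐍(Z), E2 (t * (m * t * m⁻¹)) → t * (m * t * m⁻¹) ∈ Z := fun m n f => by
    have p : Blk t Z (m * t * m⁻¹) Z := ⟨m, rfl, (cj_eq_self n).symm⟩
    exact k.b4 _ z zZ (fun f => z1 (Subtype.ext f)) p.ic (k.cl _ _ (IsConj.refl t) p.ic f).symm
      (mem_centralizer_iff'.1 (k.cen p) z zZ).symm (k.mul' p zZ).ic
  have nn : (Z.subgroupOf 𝐂(Z)).Normal := normal_subgroupOf_of_le_normalizer cN
  let π := QuotientGroup.mk' (Z.subgroupOf 𝐂(Z))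
  have π1 : ∀ x, π x = 1 ↔ x.1 ∈ Z := fun x => (QuotientGroup.eq_one_iff _).trans mem_subgroupOf
  let t' : 𝐂(Z) := ⟨t, k.cz⟩
  have tt : π t' * π t' = 1 := by rw [← map_mul, show t' * t' = 1 from Subtype.ext k.t2, map_one]
  have : Fact (Nat.Prime 2) := ⟨Nat.prime_two⟩
  obtain ⟨N, nN, oN, cN'⟩ := CF.Hyp.zstar (u := π t') (orderOf_eq_prime (by rw [pow_two, tt]) fun f => by
    obtain ⟨n, -, e⟩ := k.b3 t ((π1 _).1 f)
    rw [k.t2, conj_eq_one_iff] at e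
    exact k.t1 e) fun g c => by
    obtain ⟨g, rfl⟩ := QuotientGroup.mk'_surjective _ g
    have e : π t' * (π g * π t' * (π g)⁻¹) = π (t' * (g * t' * g⁻¹)) := by simp only [map_mul, map_inv]
    have : π ((t' * (g * t' * g⁻¹)) ^ 2) = 1 := by
      erw [map_pow, ← e, pow_two, mul_assoc, ← mul_assoc (_ * _ * _), ← c, mul_assoc, conj_mul, tt, mul_one, mul_inv_cancel, mul_one, tt]
    have := (π1 (t' * (g * t' * g⁻¹))).2 (A g.1 (cN g.2) ⟨2, by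
      rw [show 2 ^ 2 = 2 * 2 from rfl, pow_mul, pow_two]; exact k.el _ ((π1 _).1 this)⟩)
    rw [← e] at this
    exact (eq_inv_of_mul_eq_one_right this).trans (inv_eq_of_mul_eq_one_right tt)
  -- the preimage of the core
  have B : ∀ x : 𝐂(Z), π x ∈ N → ∃ y ∈ Z, ∃ o ∈ O, x.1 = y * o := by
    let M := N.comap π
    let W := (Z.subgroupOf 𝐂(Z)).subgroupOf M
    have lM : Z.subgroupOf 𝐂(Z) ≤ M := fun x m => by rw [mem_comap, (π1 x).2 m]; exact one_mem _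
    have iW : W.index = Nat.card N := by
      have := relIndex_ker M π
      rwa [QuotientGroup.ker_mk', map_comap_eq_self_of_surjective (QuotientGroup.mk'_surjective _)] at this
    have eW : El W := fun x m => Subtype.ext (Subtype.ext (k.el _ m))
    obtain ⟨j, hj⟩ := (two eW).exists_card_eq
    obtain ⟨H, c⟩ := exists_right_complement'_of_coprime (N := W) (by rw [iW, hj]; exact (Nat.coprime_two_left.2 oN).pow_left j)
    have oH : Odd (Nat.card H) := by rwa [← c.symm.index_eq_card, iW]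
    have mH : ∀ x : M, Odd (orderOf x) → x ∈ H := fun x o => by
      obtain ⟨⟨y, w⟩, rfl⟩ := c.2 x
      have cm : Commute y.1 w.1 := Subtype.ext (Subtype.ext (mem_centralizer_iff'.1 w.1.1.2 _ y.2))
      have e := pow_orderOf_eq_one (y.1 * w.1)
      obtain ⟨i, hi⟩ := o
      rw [cm.mul_pow, hi, pow_succ y.1, pow_mul, pow_two, eW _ y.2, one_pow, one_mul] at e
      have : y.1 = 1 := disjoint_def.1 c.disjoint y.2 (eq_inv_of_mul_eq_one_left e ▸ inv_mem (pow_mem w.2 _))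
      simp [this]
    let H' := H.map (𝐂(Z).subtype.comp M.subtype)
    have : H' ≤ O := by
      refine mO _ (by rintro _ ⟨x, -, rfl⟩; exact x.1.2) (by
        rwa [card_map_of_injective fun a b h => Subtype.ext (Subtype.ext h)]) fun g hg => mem_normalizer_of_conj_mem ?_
      rintro _ ⟨x, m, rfl⟩
      refine ⟨⟨⟨g, hg⟩ * x.1 * ⟨g, hg⟩⁻¹, (nN.comap π).conj_mem _ x.2 _⟩, mH _ ?_, rfl⟩
      rw [← orderOf_coe, Subtype.coe_mk, ← MulAut.conj_apply, MulEquiv.orderOf_eq, orderOf_coe]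
      exact oH.of_dvd_nat (orderOf_dvd_natCard H m)
    intro x m
    obtain ⟨⟨y, w⟩, e⟩ := c.2 ⟨x, m⟩
    exact ⟨y.1.1.1, y.2, w.1.1.1, this ⟨w.1, w.2, rfl⟩, (congrArg (fun x : M => x.1.1) e).symm⟩
  refine ⟨O, oO, lO, nO, fun K l o n => le_sup_left.trans (mO _ (sup_le l lO) ?_ n), fun h n => ?_⟩
  · exact (o.mul oO).of_dvd_nat (CF.BG.card_sup_dvd (.inl (l.trans (cN.trans nO))))
  have p : Blk t Z (h * t * h⁻¹) Z := ⟨h, rfl, (cj_eq_self n).symm⟩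
  have ee := k.sq' p.ic
  set e := h * t * h⁻¹ with he
  -- first conjugate into a `2`-group
  obtain ⟨j, m, o, f⟩ := Nat.exists_eq_two_pow_mul_odd (orderOf_pos (t * e)).ne'
  obtain ⟨i, rfl⟩ := o
  have wC : (t * e) ^ i ∈ 𝐂(Z) := pow_mem (mul_mem k.cz (k.cen p)) i
  set w := (t * e) ^ i with hw
  have a := A (w⁻¹ * h) (mul_mem (inv_mem (cN wC)) n) ⟨j, by
    rw [show w⁻¹ * h * t * (w⁻¹ * h)⁻¹ = w⁻¹ * e * w by rw [he]; group, hw, dh1 k.t2 ee, ← mul_assoc, k.t2, one_mul, ← pow_mul, mul_comm, ← f,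
      pow_orderOf_eq_one]⟩
  obtain ⟨y, yZ, u, uO, b⟩ := B (t' * ⟨w, wC⟩ * t'⁻¹ * ⟨w, wC⟩⁻¹) (by simpa only [map_mul, map_inv] using cN' (π ⟨w, wC⟩))
  set z' := t * (w⁻¹ * h * t * (w⁻¹ * h)⁻¹) with hz
  have c1 : t * e = y * z' * u := by
    have : w * z' * w⁻¹ = z' := conj_eq_of_mem_centralizer wC a
    have b : t * w * t⁻¹ * w⁻¹ = y * u := b
    rw [mul_assoc y, mem_centralizer_iff'.1 (lO uO) _ a, ← mul_assoc y, ← b, ← this, hz, he]; group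
  have yz := mul_mem yZ a
  set v := y * z'
  have c2 : t * v * e = u := by
    rw [← mem_centralizer_iff'.1 k.cz _ yz, mul_assoc, c1, ← mul_assoc, k.el _ yz, one_mul]
  have dd : t * v * (t * v) = 1 := k.sq' (k.mul' ⟨1, by simp, (cj_one Z).symm⟩ yz).ic
  obtain ⟨l, hl⟩ := half (oO.of_dvd_nat (orderOf_dvd_natCard O uO))
  have c3 := dh0 dd ee l
  rw [c2, hl, show t * v * u = e by rw [← c2, ← mul_assoc, dd, one_mul]] at c3
  refine ⟨(u ^ l)⁻¹, inv_mem (pow_mem uO l), u ^ l * h, mul_mem (cN (lO (pow_mem uO l))) n, by group, ?_⟩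
  rw [show u ^ l * h * t * (u ^ l * h)⁻¹ = u ^ l * e * (u ^ l)⁻¹ by rw [he]; group, ← c3, show u ^ l * ((u ^ l)⁻¹ * (t * v) * u ^ l) * (u ^ l)⁻¹ = t * v by group,
    ← mul_assoc, k.t2, one_mul]
  exact yz

end BK

end CF.Dq
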