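import Cfsg.Agent.Dq.G1
import Cfsg.Agent.Dq.K2

/-! A standard symplectic subgroup centralised by a reflection: the normaliser of a block. -/

set_option autoImplicit false
set_option linter.unusedSectionVars false

namespace CF.Dq

open Cfsg Subgroup Equiv CF.Loc CF.LX CF.Geom QuadraticMap Module
open CF.Ud (E2)
open CF.Dbl (El)
open scoped commutatorElement

variable {F V : Type*} [Field F] [Finite F] [CharP F 2] [AddCommGroup V] [Module F V] [FiniteDimensional F V]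
  {Q : QuadraticForm F V} {θ : F ≃+* F} {ξ : Perm V} {a r u v w x y v' : V} {c : F} {g : OG Q}
  {G : Type*} [Group G] [Finite G] {Φ : OG Q →* G} {t d e h m o z : G} {O O' X Z : Subgroup G}

namespace G2

theorem odd_mem (k : Odd (Nat.card O)) (i : o ∈ O) (s : o * o ∈ X) : o ∈ X :=
  zpowers_le.2 ((sq o).symm ▸ s) (mem_zpowers_pow_iff.2
    (Nat.coprime_two_left.2 (k.of_dvd_nat (O.orderOf_dvd_natCard i))))

theorem four (k : Odd (Nat.card O)) (dd : d * d = 1) (ee : e * e = 1) (c : d * e = e * d) (nd : d ∈ 𝐍(O)) (ne : e ∈ 𝐍(O))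
    (h1 : O ⊓ 𝐂₁(d) ≤ 𝐂₁(d * e)) (h2 : O ⊓ 𝐂₁(e) ≤ 𝐂₁(d * e)) : O ≤ 𝐂₁(d * e) := by
  by_cases d1 : d = 1
  · exact fun o i => h1 ⟨i, mem_c1.2 (by simp [d1])⟩
  by_cases e1 : e = 1
  · exact fun o i => h2 ⟨i, mem_c1.2 (by simp [e1])⟩
  by_cases n : d = e
  · exact fun o i => mem_c1.2 (by simp [← n, dd])
  refine CF.Bender.four_gen (CF.Invol.isKleinFour_closure (orderOf_eq_prime ((sq d).trans dd) d1)
    (orderOf_eq_prime ((sq e).trans ee) e1) c n) ((closure_le _).2 (by rintro _ (rfl | rfl); exacts [nd, ne])) k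
    fun y i j => ?_
  obtain rfl | rfl | rfl | rfl := (CF.Invol.mem_closure_four dd ee c).1 i
  exacts [(j.1 rfl).elim, h1, h2, inf_le_right]

/-- the core of the centraliser of a block -/
structure Zs (t : G) (Z O : Subgroup G) : Prop where
  od : Odd (Nat.card O)
  c : O ≤ 𝐂(Z)
  n : 𝐍(Z) ≤ 𝐍(O)
  mx : ∀ K ≤ 𝐂(Z), Odd (Nat.card K) → 𝐂(Z) ≤ 𝐍(K ⊔ O) → K ≤ O
  dec : ∀ h ∈ 𝐍(Z), ∃ o ∈ O, ∃ m ∈ 𝐍(Z), h = o * m ∧ t * (m * t * m⁻¹) ∈ Z

theorem pp (x : V) : polar Q x x = 0 := by rw [polar_self, two_smul, CharTwo.add_self_eq_zero]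

theorem mZ (p : Pr Q v r) : z ∈ (Zr Q v r).map Φ ↔ ∃ c : F, z = Φ (ei Q v (c • r)) :=
  ⟨fun ⟨_, i, e⟩ => let ⟨c, i⟩ := (mem_Zr p).1 i; ⟨c, i ▸ e.symm⟩, fun ⟨c, e⟩ => ⟨_, (mem_Zr p).2 ⟨c, rfl⟩, e.symm⟩⟩

theorem vr (p : Pr Q v r) (c : F) : polar Q v (c • r) = 0 := by rw [polar_smul_right, p.vr, smul_zero]

theorem zc (p : Pr Q v r) (a : g.1 v = v) (b : g.1 r = r) : Φ g ∈ 𝐂((Zr Q v r).map Φ) :=
  mem_centralizer_of_conj_eq fun _ i => by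
    obtain ⟨c, rfl⟩ := (mZ p).1 i
    rw [← map_inv, ← map_mul, ← map_mul, ei_cj, map_smul, a, b]

theorem qc (p : Pr Q v r) (a : polar Q v y = 0) : Φ (ei Q v y) ∈ 𝐂((Zr Q v r).map Φ) :=
  mem_centralizer_iff.2 fun _ i => by
    obtain ⟨c, rfl⟩ := (mZ p).1 i
    rw [← map_mul, ← map_mul, ei_mul p.qv a (vr p c), ei_mul p.qv (vr p c) a, add_comm]

theorem rc (p : Pr Q v r) (a : polar Q v y = 0) (b : polar Q r y = 0) : Φ (oRefl Q y) ∈ 𝐂((Zr Q v r).map Φ) :=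
  zc p (by rw [refl_ap, polar_comm, a, mul_zero, zero_smul, add_zero])
    (by rw [refl_ap, polar_comm, b, mul_zero, zero_smul, add_zero])

theorem ae (s : So Q θ ξ) (a : Act Φ h ξ) (u w : V) : h * Φ (ei Q u w) * h⁻¹ = Φ (ei Q (ξ u) (ξ w)) := a _ _ (s.ei u w)

theorem xv (o : Os Q) (s : So Q θ ξ) (p : Pr Q v r) (c0 : c ≠ 0) (e : ei Q (ξ v) (ξ (c • r)) = ei Q v (c • r)) :
    ∃ l : F, ∀ y, polar Q v y = 0 → polar Q v (l • ξ y) = 0 ∧ ei Q (ξ v) (ξ y) = ei Q v (l • ξ y) := by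
  obtain ⟨-, -, l, -, l0, i, -⟩ := o.ei_eq p.v0 p.qv (vr p c) (by simpa [QuadraticMap.map_smul, p.qr] using c0) e
  refine ⟨l, fun y a => ?_⟩
  have b := s.pol v y
  rw [a, map_zero, i, polar_smul_left] at b
  exact ⟨by rwa [polar_smul_right], by rw [i, ei_smul p.qv ((smul_eq_zero.1 b).resolve_left l0)]⟩

theorem ZG (o : Os Q) : (Zr Q v r).map Φ ≤ G0 Φ := map_mono ((closure_le _).2 fun _ ⟨_, e⟩ => e ▸ o.ei_om _ _)

variable (k : OD Φ r t)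
include k

theorem ps (i : h ∈ N0 Φ t) : ∃ θ ξ, So Q θ ξ ∧ Act Φ h ξ ∧ (ξ * ξ = 1 → h * h ∈ 𝐂(Φ.range)) := by
  obtain ⟨ψ, a, b, -⟩ := k.psi
  obtain ⟨θ, s, c⟩ := a ⟨h, i⟩
  exact ⟨θ, _, s, c, fun e => (b (⟨h, i⟩ * ⟨h, i⟩)).1 ((map_mul ψ _ _).trans e)⟩

theorem n0 (p : Pr Q v r) (i : t * (m * t * m⁻¹) ∈ (Zr Q v r).map Φ) : m ∈ N0 Φ t :=
  k.mem_N0.2 (k.dc _ (isConj_iff.2 ⟨m, rfl⟩) (mem_c1.2 (by
    have := mem_centralizer_iff.1 (k.bk p).cz _ i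
    rwa [← mul_assoc t t, k.t2.1, one_mul, mul_assoc t, ← mul_right_inj t, ← mul_assoc t t, k.t2.1, one_mul] at this)))

theorem c0 (e : D0 Φ d) : 𝐂₁(d) ≤ N0 Φ t := fun h i => k.uq0 le_rfl e (by
  obtain ⟨x, -, rfl⟩ := e
  rw [mem_c1.1 i, mul_inv_cancel_right]
  exact mem_sup_left ⟨_, rfl⟩)

theorem s1 (p : Pr Q v r) (b : Zs t ((Zr Q v r).map Φ) O) (i : o ∈ O) (j : o ∈ N0 Φ t) : o ∈ 𝐂(Φ.range) := by
  obtain ⟨θ, ξ, s, a, f⟩ := ps k j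
  obtain ⟨l, e⟩ := xv k.toOs s p one_ne_zero (k.inj ((ae s a _ _).symm.trans
    (conj_eq_of_mem_centralizer (b.c i) ((mZ p).2 ⟨1, rfl⟩))))
  refine odd_mem b.od i (f (k.toOs.cq s p.v0 p.qv fun y n => ?_))
  have q : ∀ y, Φ (ei Q v y) * Φ (ei Q v y) = 1 := fun y => by rw [← map_mul, ei_sq, map_one]
  have m := mul_mem i (conj_mem_of_mem_normalizer (b.n (centralizer_le_normalizer _ (qc p n))) (inv_mem i))
  rw [← mul_assoc, ← mul_assoc, ae s a, inv_eq_of_mul_eq_one_right (q y), (e y n).2, ← map_mul, ei_mul p.qv (e y n).1 n] at m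
  have z := mem_bot.1 (odd_mem b.od m (mem_bot.2 (q _)))
  rw [← ei_mul p.qv (e y n).1 n, map_mul, mul_eq_one_iff_eq_inv, inv_eq_of_mul_eq_one_right (q y)] at z
  exact (e y n).2.trans (k.inj z)

theorem s2 (p : Pr Q v r) (b : Zs t ((Zr Q v r).map Φ) O) (qa : Q a = 0) (va : polar Q v a = 0) (ra : polar Q r a = 0)
    (vy : polar Q v y = 0) (ry : polar Q r y = 0) (ay : polar Q a y = 0) (qy : Q y ≠ 0) : O ≤ 𝐂₁(Φ (ei Q a y)) := by
  have q' : Q (y + Q y • a) ≠ 0 := by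
    rwa [QuadraticMap.map_add Q, QuadraticMap.map_smul, qa, smul_zero, add_zero, polar_smul_right, polar_comm, ay, smul_zero,
      add_zero]
  have sq : ∀ x, Q x ≠ 0 → Φ (oRefl Q x) * Φ (oRefl Q x) = 1 := fun x n => by
    obtain ⟨g, e⟩ := k.d0_cj ⟨x, n, rfl⟩
    rw [e, conj_mul, k.t2.1, mul_one, mul_inv_cancel]
  have c : ∀ x, Q x ≠ 0 → O ⊓ 𝐂₁(Φ (oRefl Q x)) ≤ 𝐂₁(Φ (oRefl Q y) * Φ (oRefl Q (y + Q y • a))) := fun x n o i =>
    mem_c1.2 (mem_centralizer_iff.1 (s1 k p b i.1 (c0 k ⟨x, n, rfl⟩ i.2)) _ ⟨_, map_mul Φ _ _⟩).symm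
  rw [ei_refl qa ay qy, map_mul]
  exact four b.od (sq _ qy) (sq _ q') (by
      rw [← map_mul, ← map_mul, (k.toOs.refl_comm qy q').2 (by
        rw [polar_add_right, pp, polar_smul_right, polar_comm, ay, smul_zero, add_zero])])
    (b.n (centralizer_le_normalizer _ (rc p vy ry)))
    (b.n (centralizer_le_normalizer _ (rc p (by rw [polar_add_right, vy, polar_smul_right, va, smul_zero, add_zero])
      (by rw [polar_add_right, ry, polar_smul_right, ra, smul_zero, add_zero])))) (c _ qy) (c _ q')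

theorem s3 (p : Pr Q v r) (p' : Pr Q x r) (b : Zs t ((Zr Q v r).map Φ) O) (b' : Zs t ((Zr Q x r).map Φ) O')
    (vx : polar Q v x = 0) (n : ∀ c : F, x ≠ c • v) : O ≤ O' := fun o i => by
  have xv := (polar_comm _ _ _).trans vx
  have rv := (polar_comm _ _ _).trans p.vr
  have rx := (polar_comm _ _ _).trans p'.vr
  have oc : o ∈ 𝐂((Zr Q x r).map Φ) := mem_centralizer_iff.2 fun z j => by
    obtain ⟨c, rfl⟩ := (mZ p').1 j
    by_cases c0 : c = 0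
    · rw [c0, zero_smul, ei_zero, map_one, one_mul, mul_one]
    exact (mem_c1.1 (s2 k p b p'.qv vx rx (vr p c) (by rw [polar_smul_right, pp, smul_zero]) (vr p' c)
      (by simpa [QuadraticMap.map_smul, p.qr] using c0) i)).symm
  obtain ⟨o', i', m, j, rfl, e⟩ := b'.dec o (centralizer_le_normalizer _ oc)
  obtain ⟨θ, ξ, s, a, f⟩ := ps k (n0 k p' e)
  have u : ∀ {u y}, O ≤ 𝐂₁(Φ (ei Q u y)) → O' ≤ 𝐂₁(Φ (ei Q u y)) → ei Q (ξ u) (ξ y) = ei Q u y := fun l l' =>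
    k.inj (by rw [← ae s a, mem_c1.1 ((mul_mem_cancel_left (l' i')).1 (l i)), mul_inv_cancel_right])
  have KO : 𝐂(G0 Φ) ≤ O' := b'.mx _ (centralizer_anti (ZG k.toOs)) k.kodd fun h l => by
    obtain ⟨o, i, m, j, rfl, e⟩ := b'.dec h (centralizer_le_normalizer _ l)
    exact mul_mem (le_normalizer (mem_sup_right i)) (le_normalizer_sup (zpowers_le.2
      (normalizer_le_normalizer_centralizer _ (k.N0_le.1 (n0 k p' e)))) (zpowers_le.2 (b'.n j)) (mem_zpowers m))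
  have m2 := KO (centralizer_anti (map_le_range _ _) (f (k.toOs.cw s p p' vx n fun y qy vy xy ry =>
    ⟨u (s2 k p b p.qv (pp v) rv vy ry vy qy) (s2 k p' b' p.qv xv rv xy ry vy qy),
      u (s2 k p b p'.qv vx rx vy ry xy qy) (s2 k p' b' p'.qv (pp x) rx xy ry xy qy)⟩)))
  refine odd_mem b.od i ?_
  convert mul_mem (mul_mem i' (conj_mem_of_mem_normalizer (b'.n j) i')) m2 using 1
  group

theorem zs (p : Pr Q v r) : ∃ O, Zs t ((Zr Q v r).map Φ) O :=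
  let ⟨O, a, b, c, d, e⟩ := (k.bk p).zs; ⟨O, a, b, c, d, e⟩

theorem s4 (p : Pr Q v r) (b : Zs t ((Zr Q v r).map Φ) O) : O ≤ 𝐂(G0 Φ) := by
  obtain ⟨x, w, p₁, p₂, vx, wx, vw, n, n'⟩ := k.toOs.ex_opp p
  have sy : ∀ {u}, (∀ c : F, x ≠ c • u) → u ≠ 0 → ∀ c : F, u ≠ c • x := fun n u0 c e => by
    by_cases c0 : c = 0
    · exact u0 (by rw [e, c0, zero_smul])
    · exact n c⁻¹ (by rw [e, smul_smul, inv_mul_cancel₀ c0, one_smul])
  obtain ⟨O₁, b₁⟩ := zs k p₁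
  obtain ⟨O₂, b₂⟩ := zs k p₂
  obtain rfl := le_antisymm (s3 k p p₁ b b₁ vx n) (s3 k p₁ p b₁ b ((polar_comm _ _ _).trans vx) (sy n p.v0))
  obtain rfl := le_antisymm (s3 k p₂ p₁ b₂ b₁ wx n') (s3 k p₁ p₂ b₁ b₂ ((polar_comm _ _ _).trans wx) (sy n' p₂.v0))
  have q : ∀ {u}, Pr Q u r → Zs t ((Zr Q u r).map Φ) O₂ → Qe Q u ≤ (𝐍(O₂)).comap Φ := fun p b g i => by
    obtain ⟨y, a, rfl⟩ := (mem_Qe p.qv).1 i
    exact b.n (centralizer_le_normalizer _ (qc p a))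
  have l := k.toOs.gen p.qv p₂.qv vw (q p b) (q p₂ b₂)
  have : (((𝐂(O₂)).comap Φ).subgroupOf (_root_.commutator (OG Q))).Normal := ⟨fun a i g => by
    simpa [mem_subgroupOf] using conj_mem_of_mem_normalizer (normalizer_le_normalizer_centralizer _ (l g.2)) i⟩
  obtain e | e := k.toOs.simple.eq_bot_or_eq_top_of_normal _ this
  · refine ((k.bk p).ne (eq_bot_iff.2 fun z i => ?_)).elim
    obtain ⟨c, rfl⟩ := (mZ p).1 i
    exact mem_bot.2 ((congrArg (fun x : _root_.commutator (OG Q) => Φ x) (mem_bot.1 (e.le (x := ⟨_, k.toOs.ei_om _ _⟩)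
      (le_centralizer_iff.1 b.c i)))).trans (map_one Φ))
  · exact le_centralizer_iff.1 (map_le_iff_le_comap.2 (subgroupOf_eq_top.1 e))

end G2

theorem OD.nZ (k : OD Φ r t) (p : Pr Q v r) : 𝐍((Zr Q v r).map Φ) ≤ H0 Φ t := fun h i => by
  obtain ⟨O, b⟩ := G2.zs k p
  obtain ⟨o, j, m, -, rfl, e⟩ := b.dec h i
  exact mul_mem (mem_sup_left (G2.s4 k p b j)) (mem_sup_right (G2.n0 k p e))

end CF.Dq
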