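import Cfsg.Agent.Dq.G2

/-! A standard symplectic subgroup centralised by a reflection: the centraliser of a product of two reflections. -/

set_option autoImplicit false
set_option linter.unusedSectionVars false

namespace CF.Dq

open Cfsg Subgroup Equiv CF.Loc CF.LX CF.Geom QuadraticMap Module
open CF.Ud (E2)
open CF.Dbl (El)
open scoped commutatorElement

variable {F V : Type*} [Field F] [Finite F] [CharP F 2] [AddCommGroup V] [Module F V] [FiniteDimensional F V]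
  {Q : QuadraticForm F V} {r v y : V} {G : Type*} [Group G] [Finite G] {Φ : OG Q →* G} {t : G}

open G2

theorem OD.cu (k : OD Φ r t) (p : Pr Q v r) : 𝐂₁(Φ (ei Q v r)) ≤ H0 Φ t := fun h i => by
  have bk := k.bk p
  by_cases n : cj[h] ((Zr Q v r).map Φ) = (Zr Q v r).map Φ
  · exact k.nZ p (cj_eq_self_iff.1 n)
  exfalso
  have u : Φ (ei Q v r) ∈ (Zr Q v r).map Φ := (mZ p).2 ⟨1, by rw [one_smul]⟩
  have q : ∀ y, Φ (ei Q v y) * Φ (ei Q v y) = 1 := fun y => by rw [← map_mul, ei_sq, map_one]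
  have qi := fun y => inv_eq_of_mul_eq_one_right (q y)
  obtain ⟨Z₁, R, g, z, z0, lt, two, nR, ZR, RC, RR, l, ne, zR, cz⟩ := bk.main h (fun e => by
    have := mem_bot.1 (e.le ⟨u, mem_cj.2 (by rwa [mul_assoc, ← mem_c1.1 i, inv_mul_cancel_left])⟩)
    obtain ⟨c, f⟩ := k.toOs.ei_inj p.v0 p.qv (by simp) p.vr (k.inj ((congrArg Φ (ei_zero v)).trans ((map_one Φ).trans this.symm)))
    simpa [f, QuadraticMap.map_smul, p.qv] using p.qr) n
  have cR := (centralizer_anti lt.le).trans nR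
  have zN : z ∈ N0 Φ t := k.mem_N0.2 (k.dc _ (isConj_iff.2 ⟨z, rfl⟩) (mem_c1.2 (bk.cl _ _ (isConj_iff.2 ⟨z, rfl⟩) (IsConj.refl t) (by
    obtain ⟨j, e⟩ := two ⟨_, mul_mem zR (conj_mem_of_mem_normalizer (cR bk.cz) (inv_mem zR))⟩
    refine ⟨j, ?_⟩
    have := congrArg Subtype.val e
    simpa only [inv_eq_of_mul_eq_one_right bk.t2, mul_assoc, coe_pow, coe_one] using this))))
  obtain ⟨θ, ξ, s, a, -⟩ := ps k zN
  obtain ⟨⟨z₁, m₁⟩, n₁⟩ := ne_bot_iff_exists_ne_one.1 z0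
  replace n₁ : z₁ ≠ 1 := fun e => n₁ (Subtype.ext e)
  obtain ⟨c, e₁⟩ := (mZ p).1 (lt.le m₁)
  have c0 : c ≠ 0 := fun e => n₁ (by rw [e₁, e, zero_smul, ei_zero, map_one])
  have e₂ := k.inj ((ae s a _ _).symm.trans (conj_eq_of_mem_centralizer (RC zR) (e₁ ▸ m₁)))
  obtain ⟨w, e₃⟩ := xv k.toOs s p c0 e₂
  have vv : ∀ x : V, x + x = 0 := fun x => by rw [← two_smul F, CharTwo.two_eq_zero, zero_smul]
  obtain ⟨x, qx, vx, rx, ex⟩ := k.toOs.rk1 s p
    (R := { carrier := {y | polar Q v y = 0 ∧ Φ (ei Q v y) ∈ R}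
            zero_mem' := ⟨by simp, by rw [ei_zero, map_one]; exact one_mem R⟩
            add_mem' := fun a b => ⟨by rw [polar_add_right, a.1, b.1, add_zero],
              by rw [← ei_mul p.qv a.1 b.1, map_mul]; exact mul_mem a.2 b.2⟩
            neg_mem' := fun a => by rwa [neg_eq_of_add_eq_zero_right (vv _)] })
    (S := { carrier := {b | Φ (ei Q v (b • r)) ∈ Z₁}
            zero_mem' := by rw [Set.mem_ofPred_eq, zero_smul, ei_zero, map_one]; exact one_mem Z₁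
            add_mem' := fun a b => by
              rw [Set.mem_ofPred_eq, add_smul, ← ei_mul p.qv (vr p _) (vr p _), map_mul]; exact mul_mem a b
            neg_mem' := fun a => by rwa [CharTwo.neg_eq] })
    (fun e => lt.not_ge fun y j => by
      obtain ⟨b, rfl⟩ := (mZ p).1 j
      exact e.ge (AddSubgroup.mem_top b))
    c0 e₂ (fun y j => j.1)
    (fun a b => ⟨by rw [polar_add_right, vr p, polar_smul_right, pp, smul_zero, add_zero],
      by rw [add_comm, ei_shift]; exact ZR ((mZ p).2 ⟨b, rfl⟩)⟩)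
    (fun g a b y j => ⟨by simpa [a, j.1] using (so_of g).pol v y, by
      have := conj_mem_of_mem_normalizer (cR (zc p a b)) j.2
      rwa [← map_inv, ← map_mul, ← map_mul, ei_cj, a] at this⟩)
    (fun y j => ⟨w • ξ y + y, ⟨by rw [polar_add_right, (e₃ y j).1, j, add_zero], by
      have := mul_mem zR (conj_mem_of_mem_normalizer (cR (qc p j)) (inv_mem zR))
      rwa [← mul_assoc, ← mul_assoc, ae s a, qi, (e₃ y j).2, ← map_mul, ei_mul p.qv (e₃ y j).1 j] at this⟩,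
      by rw [add_comm _ y, ← add_assoc, vv, zero_add, (e₃ y j).2]⟩)
    (fun y j => by
      have m := RR (commutator_mem_commutator zR j.2)
      obtain ⟨b, e⟩ := (mZ p).1 (lt.le m)
      refine ⟨b, show _ ∈ Z₁ from e ▸ m, k.inj ?_⟩
      rw [add_comm, ← ei_mul p.qv (vr p b) j.1, map_mul, ← e, ← ae s a, commutatorElement_def, inv_mul_cancel_right])
  have dz : z * Φ (oRefl Q x) * z⁻¹ = Φ (oRefl Q x) := a _ _ fun y => by rw [← s.refl, ex]
  have m := cz ⟨centralizer_anti lt.le (rc p vx rx), mem_c1.2 (mul_inv_eq_iff_eq_mul.1 dz).symm⟩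
  rw [← cj_normalizer, mem_cj] at m
  obtain ⟨a, b, n, j, rfl⟩ := k.mem_H0.1 (inv_mem_iff.1 (k.uq0 (h := g⁻¹) le_sup_right ⟨x, qx, rfl⟩ (k.nZ p (by rwa [inv_inv]))))
  have e : cj[a * n] ((Zr Q v r).map Φ) = cj[n] ((Zr Q v r).map Φ) := by
    rw [cj_mul, cj_eq_self (centralizer_le_normalizer_of_le (cj_le_of_mem_normalizer (k.N0_le.1 j) (ZG k.toOs)) b)]
  rw [e] at l ne
  have l₁ := mem_cj.1 (l m₁)
  obtain ⟨b, i, f⟩ := bk.b3 _ l₁
  obtain ⟨y, i', f'⟩ := bk.b3 _ (k.vi p (lt.le m₁) n₁ (k.mem_N0.1 j)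
    (by
      calc _ = n * (t * (n⁻¹ * z₁ * n)) * n⁻¹ := by group
        _ = _ := by rw [← mem_centralizer_iff.1 bk.cz _ l₁]; group)
    (isConj_iff.2 ⟨n * b, by
      calc _ = n * (b * t * b⁻¹) * n⁻¹ := by group
        _ = _ := by rw [f]; group⟩))
  rw [← mul_assoc, bk.t2, one_mul] at f'
  refine ne (cj_inj.1 ((cj_mul y⁻¹ n _).symm.trans ((bk.b1 _ ⟨y⁻¹ * n, ?_, rfl⟩ fun e => n₁ (mem_bot.1 (e.le ⟨lt.le m₁, ?_⟩))).trans
    (cj_eq_self (inv_mem (centralizer_le_normalizer _ i'))).symm)))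
  · calc _ = y⁻¹ * (y * t * y⁻¹) * y := by group
      _ = _ := by rw [f']; group
  · rw [cj_mul, ← conj_eq_of_mem_centralizer (inv_mem i') (lt.le m₁)]
    exact conj_mem_cj _ (l m₁)

end CF.Dq
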