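import Cfsg.Agent.Dq.G3

/-! The product of two commuting reflections fixes only one coset of the normaliser of `Ω`. -/

set_option autoImplicit false
set_option linter.unusedSectionVars false
set_option linter.unusedVariables false

namespace CF.Dq

open Cfsg Subgroup Equiv CF.Loc CF.LX CF.Geom QuadraticMap Module
open CF.Ud (E2)
open CF.Dbl (El)
open scoped commutatorElement

variable {F V : Type*} [Field F] [Finite F] [CharP F 2] [AddCommGroup V] [Module F V] [FiniteDimensional F V]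
  {Q : QuadraticForm F V} {θ θ' : F ≃+* F} {ξ ξ' : Perm V} {a b n r u v w x y v' r' : V} {c : F} {g s s' : OG Q} {H B : Subgroup (OG Q)}
  {G : Type*} [Group G] [Finite G] {Φ : OG Q →* G} {t d e e' h z m : G} {P X Y Z E T : Subgroup G}

/-- a conjugate `z` of a product of two reflections lying in `N(G0)` whose home is the coset of `h` -/
structure G4Bad (Φ : OG Q →* G) (z h : G) : Prop where
  nh : h ∉ 𝐍(G0 Φ)
  mz : z ∈ 𝐍(G0 Φ)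
  ex : ∃ v r, Pr Q v r ∧ z = h * Φ (ei Q v r) * h⁻¹

theorem G4Bad.cj (b : G4Bad Φ z h) (i : m ∈ 𝐍(G0 Φ)) : G4Bad Φ (m * z * m⁻¹) (m * h) := by
  obtain ⟨v, r, p, e⟩ := b.ex
  exact ⟨fun k => b.nh ((mul_mem_cancel_left i).1 k), mul_mem (mul_mem i b.mz) (inv_mem i), v, r, p, by rw [e]; group⟩

theorem G4Bad.sq (b : G4Bad Φ z h) : z * z = 1 := by
  obtain ⟨v, r, p, rfl⟩ := b.ex
  rw [← conj_mul_conj, ← map_mul, ei_sq, map_one]; group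

theorem Os.g4_ne (o : Os Q) (p : Pr Q v r) : ei Q v r ≠ 1 := fun e => by
  obtain ⟨c, hc⟩ := o.ei_inj p.v0 p.qv (w := 0) (y := r) (by simp) p.vr (by rw [ei_zero, e])
  have := p.qr
  rw [hc, zero_add, QuadraticMap.map_smul, p.qv, smul_zero] at this
  exact zero_ne_one this

theorem So.g4_pr (k : So Q θ ξ) (p : Pr Q v r) : Pr Q (ξ v) (ξ r) :=
  ⟨fun e => p.v0 (ξ.injective (e.trans k.zero.symm)), by rw [k.q, p.qv, map_zero], by rw [k.q, p.qr, map_one],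
    by rw [k.pol, p.vr, map_zero]⟩

theorem g4_two (e : z * z = 1) : IsPGroup 2 (zpowers z) := by
  rintro ⟨_, j, rfl⟩
  refine ⟨1, Subtype.ext ?_⟩
  have : z ^ (2 : ℤ) = 1 := by rw [zpow_two, e]
  simp only [pow_one, SubmonoidClass.coe_pow, OneMemClass.coe_one]
  rw [← zpow_natCast, ← zpow_mul, mul_comm, zpow_mul]; simp [this]

namespace OD
variable (k : OD Φ r t)
include k

theorem g4_rN (g : OG Q) : Φ g ∈ N0 Φ t := mem_sup_left ⟨g, rfl⟩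

theorem g4_HM : H0 Φ t ≤ 𝐍(G0 Φ) := k.N0_le.2.2

theorem g4_cu (p : Pr Q v' r') : 𝐂₁(Φ (ei Q v' r')) ≤ H0 Φ t := by
  obtain ⟨v, p0⟩ := k.ex_pr k.qr
  obtain ⟨g, e1, e2⟩ := k.witt_pr p0 p
  rw [← e1, ← e2, ← ei_cj, map_mul, map_mul, map_inv, ← cj_centralizer_singleton]
  exact cj_le_of_mem (mem_sup_right (k.g4_rN g)) (k.cu p0)

theorem g4_cen (b : G4Bad Φ z h) (c : d * z = z * d) : h⁻¹ * d * h ∈ H0 Φ t := by
  obtain ⟨v, r, p, rfl⟩ := b.ex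
  refine k.g4_cu p (mem_c1.2 ?_)
  calc _ = h⁻¹ * (d * (h * Φ (ei Q v r) * h⁻¹)) * h := by group
    _ = _ := by rw [c]; group

theorem g4_at0 (b : G4Bad Φ z h) (i : z ∈ N0 Φ t) : ∃ s, AT s ∧ z = Φ s :=
  k.fp i b.sq fun d hd c => b.nh (inv_mem_iff.1 (k.uq0 k.N0_le.1 hd (by simpa using k.g4_HM (k.g4_cen b c))))

theorem g4_at (b : G4Bad Φ z h) : ∃ s, AT s ∧ z = Φ s := by
  obtain ⟨m, hm, l⟩ := k.two_N0 k.N0_le.1 (g4_two b.sq) (zpowers_le.2 b.mz)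
  obtain ⟨s, hs, e⟩ := k.g4_at0 (b.cj hm) (l (conj_mem_cj m (mem_zpowers z)))
  have : z ∈ G0 Φ := (mem_normalizer_iff.1 hm z).2 (e ▸ ⟨s, k.at_om hs, rfl⟩)
  obtain ⟨s', -, rfl⟩ := this
  exact k.g4_at0 b (k.g4_rN s')

/-- the action of an element of `N0` -/
theorem g4_act (i : h ∈ N0 Φ t) : ∃ θ ξ, So Q θ ξ ∧ Act Φ h ξ := by
  obtain ⟨ψ, l, -⟩ := k.psi
  obtain ⟨θ, l1, l2⟩ := l ⟨h, i⟩
  exact ⟨θ, _, l1, l2⟩

theorem g4_comm (l1 : So Q θ ξ) (l2 : Act Φ h ξ) (c : h * Φ s = Φ s * h) (x : V) : ξ (s.1 x) = s.1 (ξ x) := by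
  obtain ⟨s', e⟩ := l1.ex s
  have := l2 s s' e
  rw [c, mul_inv_cancel_right] at this
  rw [k.inj this] at e ⊢
  exact (e x).symm

theorem g4_ei (l1 : So Q θ ξ) (l2 : Act Φ h ξ) (u w : V) : h * Φ (ei Q u w) * h⁻¹ = Φ (ei Q (ξ u) (ξ w)) :=
  l2 _ _ (l1.ei u w)

theorem g4_nW (i : h ∈ N0 Φ t) (c : h * Φ s = Φ s * h) : h ∈ 𝐍((Wt s).map Φ) := by
  obtain ⟨θ, ξ, l1, l2⟩ := k.g4_act i
  refine cj_eq_self_iff.1 (eq_of_le_of_card_ge ?_ (card_cj _ _).ge)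
  rw [cj_le_iff, map_le_iff_le_comap, Wt, closure_le]
  rintro _ ⟨a, b, ha, hb, rfl⟩
  refine mem_comap.2 (mem_cj.2 ?_)
  rw [inv_inv, k.g4_ei l1 l2]
  exact ⟨_, subset_closure ⟨_, _, by rw [← k.g4_comm l1 l2 c, ha], by rw [← k.g4_comm l1 l2 c, hb], rfl⟩, rfl⟩

end OD

/-- a bad involution with a `2`-subgroup of `N(G0)` centralising it -/
structure G4T (Φ : OG Q →* G) (z h : G) (T : Subgroup G) : Prop extends G4Bad Φ z h where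
  two : IsPGroup 2 T
  le : T ≤ 𝐍(G0 Φ)
  cen : T ≤ 𝐂₁(z)

theorem G4T.cj' (b : G4T Φ z h T) (i : m ∈ 𝐍(G0 Φ)) : G4T Φ (m * z * m⁻¹) (m * h) (cj[m] T) :=
  ⟨b.cj i, b.two.map _, cj_le_of_mem i b.le, cj_centralizer_singleton m z ▸ cj_mono m b.cen⟩

namespace OD
variable (k : OD Φ r t)
include k

theorem g4_W (b : G4T Φ (Φ s) h T) (hs : AT s) (l : T ≤ N0 Φ t)
    (mx : ∀ z h T', G4T Φ z h T' → Nat.card T' ≤ Nat.card T) : (Wt s).map Φ ≤ T := by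
  obtain ⟨el, cs⟩ := k.wt_el hs
  have two : IsPGroup 2 (Wt s) := fun g => ⟨1, Subtype.ext (by simpa [pow_two] using el g g.2)⟩
  have := mx _ h (T ⊔ (Wt s).map Φ) ⟨b.toG4Bad, b.two.to_sup_of_normal_right' (two.map _)
    (fun τ hτ => k.g4_nW (l hτ) (mem_c1.1 (b.cen hτ))), sup_le b.le (by
      rintro _ ⟨g, -, rfl⟩; exact k.N0_le.1 (k.g4_rN g)), sup_le b.cen (by
      rintro _ ⟨g, hg, rfl⟩; exact mem_c1.2 (by rw [← map_mul, ← map_mul, mem_c1.1 (cs hg)]))⟩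
  rw [eq_of_le_of_card_ge le_sup_left this]
  exact le_sup_right

/-- a maximal `T` does not centralise a product of two reflections -/
theorem g4_nc (b : G4T Φ z h T) (mx : ∀ z h T', G4T Φ z h T' → Nat.card T' ≤ Nat.card T) (p : Pr Q v' r') :
    ¬ T ≤ 𝐂₁(Φ (ei Q v' r')) := fun l => by
  obtain ⟨m, hm, l1⟩ := k.two_N0 (X := H0 Φ t) le_sup_right b.two (l.trans (k.g4_cu p))
  have b' := b.cj' (k.g4_HM hm)
  obtain ⟨s, hs, e⟩ := k.g4_at b'.toG4Bad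
  rw [e] at b'
  have l2 := k.g4_W b' hs l1 (by simpa only [card_cj] using mx)
  obtain ⟨c, hc, n, hn, rfl⟩ := k.mem_H0.1 hm
  obtain ⟨θ, ξ, l3, l4⟩ := k.g4_act hn
  refine k.at_cw hs (l3.g4_pr p) (mem_centralizer_iff.2 fun g hg => k.inj ?_)
  have l5 := cj_mono (c * n) l (l2 ⟨g, hg, rfl⟩)
  have e1 : c * n * Φ (ei Q v' r') * (c * n)⁻¹ = Φ (ei Q (ξ v') (ξ r')) := by
    have := mem_centralizer_iff.1 hc _ ⟨_, k.ei_om (ξ v') (ξ r'), rfl⟩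
    calc _ = c * (n * Φ (ei Q v' r') * n⁻¹) * c⁻¹ := by group
      _ = _ := by rw [k.g4_ei l3 l4, ← this]; group
  rw [cj_centralizer_singleton, e1] at l5
  simpa only [map_mul] using mem_c1.1 l5

theorem g4_sig (b : G4Bad Φ z h) : ∃ h s a n, G4Bad Φ (Φ s) h ∧ AT s ∧ a ≠ 0 ∧ s.1 a = a ∧ polar Q a n = 0 ∧
    (∀ c : F, s.1 n + n ≠ c • a) ∧ h⁻¹ * Φ (ei Q a n) * h ∈ 𝐍(G0 Φ) := by
  obtain ⟨⟨z, h, T⟩, b, mx⟩ := Set.exists_max_image {p : G × G × Subgroup G | G4T Φ p.1 p.2.1 p.2.2}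
    (fun p => Nat.card p.2.2) (Set.toFinite _) ⟨(z, h, ⊥), b, IsPGroup.of_bot, bot_le, bot_le⟩
  replace mx : ∀ z h T', G4T Φ z h T' → Nat.card T' ≤ Nat.card T := fun z h T' b => mx (z, h, T') b
  replace b : G4T Φ z h T := b
  obtain ⟨m, hm, l⟩ := k.two_N0 k.N0_le.1 b.two b.le
  replace b := b.cj' hm
  rw [← card_cj m T] at mx
  generalize cj[m] T = T, m * h = h at b l mx
  obtain ⟨s, hs, e⟩ := k.g4_at b.toG4Bad
  rw [e] at b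
  obtain ⟨ψ, l1, -⟩ := k.psi
  obtain ⟨a, n, a0, ha, an, i, f⟩ := k.at_fix hs b.two (ψ.comp (inclusion l)) (fun i => (l1 _).imp fun _ => And.left)
    fun i x => (l1 (inclusion l i)).elim fun θ l2 => k.g4_comm l2.1 l2.2 (mem_c1.1 (b.cen i.2)) x
  refine ⟨h, s, a, n, b.toG4Bad, hs, a0, ha, an, i, by_contra fun nm => ?_⟩
  obtain ⟨v, r', p, e1⟩ := b.ex
  have ce : Φ (ei Q a (s.1 n + n)) * Φ s = Φ s * Φ (ei Q a (s.1 n + n)) := by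
    rw [← map_mul, ← map_mul, mem_c1.1 ((k.wt_el hs).2 (subset_closure ⟨a, _, ha, ?_, rfl⟩))]
    have : s.1 (s.1 n) = n := congrArg (fun g : OG Q => g.1 n) hs.sq
    rw [map_add, this, add_comm]
  have e2 : Φ (ei Q a n) * Φ s * (Φ (ei Q a n))⁻¹ = Φ s * Φ (ei Q a (s.1 n + n)) := by
    rw [← map_inv, ← map_mul, ← map_mul, k.at_cj hs ha an, map_mul]
  have l3 : cj[h⁻¹] T ≤ 𝐂₁(Φ (ei Q v r')) := by
    rw [cj_le_iff, inv_inv, cj_centralizer_singleton, ← e1]; exact b.cen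
  refine k.g4_nc (z := h⁻¹ * (Φ s * Φ (ei Q a (s.1 n + n))) * h⁻¹⁻¹) (T := cj[h⁻¹] T) ⟨⟨nm, ?_, v, r', p, ?_⟩, b.two.map _,
    l3.trans ((k.g4_cu p).trans k.g4_HM), cj_centralizer_singleton h⁻¹ _ ▸ cj_mono _ fun τ hτ => mem_c1.2 ?_⟩
    (by simpa only [card_cj] using mx) p l3
  · rw [inv_inv]
    exact k.g4_HM (k.g4_cen b.toG4Bad (by rw [mul_assoc, ce]))
  · rw [← e2, e1]; group
  · obtain ⟨θ, l4, l5⟩ := l1 (inclusion l ⟨τ, hτ⟩)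
    have c1 : τ * Φ (ei Q a (s.1 n + n)) = Φ (ei Q a (s.1 n + n)) * τ :=
      conj_eq_iff.1 ((k.g4_ei l4 l5 a (s.1 n + n)).trans (congrArg Φ (f ⟨τ, hτ⟩)))
    rw [← mul_assoc, mem_c1.1 (b.cen hτ), mul_assoc, c1, mul_assoc]

theorem g4_cH (b : G4Bad Φ (Φ s) h) : 𝐂₁(s) ≤ (cj[h] 𝐍(G0 Φ)).comap Φ := fun g hg =>
  mem_comap.2 (mem_cj.2 (k.g4_HM (k.g4_cen b (by rw [← map_mul, ← map_mul, mem_c1.1 hg]))))

theorem g4_nO (b : G4Bad Φ (Φ s) h) (hs : AT s) : ¬ _root_.commutator (OG Q) ≤ (cj[h] 𝐍(G0 Φ)).comap Φ := fun l => by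
  obtain ⟨v, r', p, e⟩ := b.ex
  have m1 : Φ s ∈ cj[h] (G0 Φ) := e ▸ conj_mem_cj h ⟨_, k.ei_om v r', rfl⟩
  have := k.simple
  have nA : (((cj[h] (G0 Φ)).comap Φ).subgroupOf (_root_.commutator (OG Q))).Normal := ⟨fun x hx g => by
    have := l g.2
    rw [mem_comap, cj_normalizer] at this
    simpa [mem_subgroupOf] using (mem_normalizer_iff.1 this _).1 hx⟩
  rcases nA.eq_bot_or_eq_top with e1 | e1
  · have : (⟨s, k.at_om hs⟩ : _root_.commutator (OG Q)) ∈ (⊥ : Subgroup _) := e1 ▸ m1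
    have s1 : s = 1 := congrArg Subtype.val (mem_bot.1 this)
    rw [s1, map_one, eq_comm, mul_inv_eq_one, mul_eq_left, map_eq_one_iff _ k.inj] at e
    exact k.g4_ne p e
  · exact b.nh (cj_eq_self_iff.1 (eq_of_le_of_card_ge (map_le_iff_le_comap.2 (subgroupOf_eq_top.1 e1)) (card_cj _ _).le).symm)

theorem uqu (p : Pr Q v r) (i : h * Φ (ei Q v r) * h⁻¹ ∈ 𝐍(G0 Φ)) : h ∈ 𝐍(G0 Φ) := by
  by_contra nh
  obtain ⟨h, s, a, n, b, hs, a0, ha, an, j, m⟩ := k.g4_sig ⟨nh, i, v, r, p, rfl⟩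
  rcases k.at_irr hs a0 ha an j (k.g4_cH b) (mem_comap.2 (mem_cj.2 m)) with l | l
  · exact k.g4_nO b hs l
  obtain ⟨v2, r2, -, -, p2, -, c2, -, -⟩ := k.at_c2 hs
  have b2 : G4Bad Φ (h⁻¹ * Φ (ei Q v2 r2) * h⁻¹⁻¹) h⁻¹ :=
    ⟨fun e => b.nh (inv_mem_iff.1 e), by simpa using mem_cj.1 (k.g4_cH b c2), v2, r2, p2, rfl⟩
  obtain ⟨s3, h3, e3⟩ := k.g4_at b2
  obtain ⟨v3, r3, v4, r4, p3, p4, c3, c4, nc⟩ := k.at_c2 h3
  have key : ∀ {v r : V}, Pr Q v r → ei Q v r ∈ 𝐂₁(s3) → ∃ s', AT s' ∧ h * Φ (ei Q v r) * h⁻¹ = Φ s' ∧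
      𝐂₁(s') ≤ (cj[h] 𝐍(G0 Φ)).comap Φ := fun {v r} p c => by
    have b3 : G4Bad Φ (h * Φ (ei Q v r) * h⁻¹) h := by
      refine ⟨b.nh, k.g4_HM (k.g4_cu p2 (mem_c1.2 ?_)), v, r, p, rfl⟩
      have : Φ (ei Q v r) * Φ s3 = Φ s3 * Φ (ei Q v r) := by rw [← map_mul, ← map_mul, mem_c1.1 c]
      rw [← e3] at this
      calc _ = h * (Φ (ei Q v r) * (h⁻¹ * Φ (ei Q v2 r2) * h⁻¹⁻¹)) * h⁻¹ := by group
        _ = _ := by rw [this]; group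
    obtain ⟨s', h', e'⟩ := k.g4_at b3
    exact ⟨s', h', e', k.g4_cH (e' ▸ b3)⟩
  obtain ⟨s4, h4, e4, l4⟩ := key p3 c3
  obtain ⟨s5, h5, e5, l5⟩ := key p4 c4
  have := congrArg Φ (k.at_comm hs h4 h5 fun g hg => l g (sup_le l4 l5 hg))
  rw [map_mul, map_mul, ← e4, ← e5, ← conj_mul_conj, ← conj_mul_conj, ← map_mul, ← map_mul] at this
  exact nc (k.inj (by simpa using this))

end OD

end CF.Dq
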