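import Cfsg.Agent.Dq.G4

/-! The end of the orthogonal endgame. -/

set_option autoImplicit false
set_option linter.unusedSectionVars false
set_option linter.unusedVariables false

namespace CF.Dq

open Cfsg Subgroup Equiv CF.Loc CF.LX CF.Geom QuadraticMap Module
open CF.Ud (E2)
open CF.Dbl (El)
open CF.Bender (pt smul_pt quot_trans mk_ne_pt)
open CF.ZD (WZ Cl LD LM cl_conj cl_self cl_iv)
open scoped commutatorElement

variable {F V : Type*} [Field F] [Finite F] [CharP F 2] [AddCommGroup V] [Module F V] [FiniteDimensional F V]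
  {Q : QuadraticForm F V} {r v x : V}
  {G : Type*} [Group G] [Finite G] {Φ : OG Q →* G} {t d e h z : G} {E M : Subgroup G}

theorem g5_fix (l : ∀ h, h * z * h⁻¹ ∈ M → h ∈ M) {g : G} (hg : g ∈ M) (q : G ⧸ M) (e : (g * z * g⁻¹) • q = q) : q = pt M := by
  obtain ⟨x, rfl⟩ := quot_trans (pt M) q
  have : (x⁻¹ * g * z * (x⁻¹ * g)⁻¹) • pt M = pt M := by
    rw [show x⁻¹ * g * z * (x⁻¹ * g)⁻¹ = x⁻¹ * (g * z * g⁻¹) * x by group, mul_smul, mul_smul, e, inv_smul_smul]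
  exact smul_pt.2 (inv_mem_iff.1 ((M.mul_mem_cancel_right hg).1 (l _ (smul_pt.1 this))))

namespace OD
variable (k : OD Φ r t)
include k

theorem g5_tM : t ∈ 𝐍(G0 Φ) := k.tt ▸ k.N0_le.1 (k.g4_rN _)

theorem g5_cl (hx : Q x ≠ 0) : IsConj t (Φ (oRefl Q x)) := by
  obtain ⟨g, e⟩ := k.refl_cj (x := r) (by rw [k.qr]; exact one_ne_zero) hx
  exact isConj_iff.2 ⟨Φ g, by rw [← e, k.tt, map_mul, map_mul, map_inv]⟩

theorem g5_wz : WZ (G ⧸ 𝐍(G0 Φ)) (Cl t) := by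
  have iv : CF.Bender.Iv t := ⟨k.t2.2, k.t2.1⟩
  refine WZ.of_pt (quot_trans (pt _)) cl_conj (cl_iv iv) (fun hd => ?_) (fun hd h1 q h2 => ?_) fun {d e} hd he h1 _ n c q hq => ?_
  · obtain ⟨g, rfl⟩ := isConj_iff.1 hd
    exact ⟨g • pt _, by rw [mul_smul, inv_smul_smul, mul_smul, smul_pt.2 k.g5_tM]⟩
  · obtain ⟨g, rfl⟩ := isConj_iff.1 hd
    exact g5_fix (fun h => k.uq k.N0_le.1) (k.uq k.N0_le.1 (smul_pt.1 h1)) q h2
  obtain ⟨g, rfl⟩ := isConj_iff.1 hd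
  have hg := k.uq k.N0_le.1 (smul_pt.1 h1)
  have c' : g⁻¹ * e * g * t = t * (g⁻¹ * e * g) := by
    calc _ = g⁻¹ * (e * (g * t * g⁻¹)) * g := by group
      _ = _ := by rw [← c]; group
  obtain ⟨x, hx, e1⟩ := k.dc _ (by simpa using cl_conj he g⁻¹) (mem_c1.2 c')
  have r0 : Q r ≠ 0 := by rw [k.qr]; exact one_ne_zero
  obtain ⟨v, p, e2⟩ := k.refl_pr k.qr hx ((k.refl_comm r0 hx).1 (k.inj (by rw [map_mul, map_mul, ← e1, ← k.tt, c'])))
    fun e3 => n (by rw [e3, ← k.tt] at e1; rw [← e1]; group)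
  refine g5_fix (fun h => k.uqu p) hg q ?_
  rwa [← e2, map_mul, ← e1, ← k.tt, show g * (t * (g⁻¹ * e * g)) * g⁻¹ = g * t * g⁻¹ * e by group]

theorem fin [E.Normal] (sim : IsSimpleGroup E) (cen : 𝐂(E) = ⊥) (l : G0 Φ ≤ E) : G0 Φ = E := by
  obtain ⟨v, p⟩ := k.ex_pr k.qr
  have u1 : Φ (ei Q v r) ≠ 1 := fun e => k.g4_ne p ((map_eq_one_iff _ k.inj).1 e)
  by_cases h1 : E ≤ 𝐍(G0 Φ)
  · have nA : ((G0 Φ).subgroupOf E).Normal := normal_subgroupOf_of_le_normalizer h1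
    rcases nA.eq_bot_or_eq_top with e | e
    · have m : Φ (ei Q v r) ∈ G0 Φ := ⟨_, k.ei_om v r, rfl⟩
      have : (⟨_, l m⟩ : E) ∈ (⊥ : Subgroup E) := e ▸ m
      exact (u1 (congrArg Subtype.val (mem_bot.1 this))).elim
    · exact le_antisymm l (subgroupOf_eq_top.1 e)
  exfalso
  have all : ∀ q : G ⧸ 𝐍(G0 Φ), q ∈ LD (G ⧸ 𝐍(G0 Φ)) (Cl t) ⊤ := fun q => by
    obtain ⟨g, rfl⟩ := quot_trans (pt _) q
    exact ⟨_, trivial, cl_conj cl_self g, by rw [mul_smul, inv_smul_smul, mul_smul, smul_pt.2 k.g5_tM]⟩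
  obtain ⟨g, -, hg⟩ := SetLike.not_le_iff_exists.1 h1
  have ai := k.g5_wz.ai (all _) (all _) (mk_ne_pt.2 hg) fun u _ hi => by_contra fun f => by
    have m : u ∈ normalCore 𝐍(G0 Φ) := fun g => by
      have : u • g⁻¹ • pt 𝐍(G0 Φ) = g⁻¹ • pt _ := by_contra fun f' => f ⟨_, all _, f'⟩
      exact smul_pt.1 (by rw [mul_smul, mul_smul, this, smul_inv_smul])
    rcases (inferInstance : ((normalCore 𝐍(G0 Φ)).subgroupOf E).Normal).eq_bot_or_eq_top with e | e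
    · refine hi.ne (mem_bot.1 (cen ▸ mem_centralizer_iff.2 fun y hy => ?_))
      have m1 : y * u * y⁻¹ * u⁻¹ ∈ E := by
        simpa only [mul_assoc] using mul_mem hy (‹E.Normal›.conj_mem _ (inv_mem hy) u)
      have m2 : (⟨_, m1⟩ : E) ∈ (⊥ : Subgroup E) :=
        e ▸ mul_mem ((normalCore_normal _).conj_mem _ m y) (inv_mem m)
      have := congrArg Subtype.val (mem_bot.1 m2)
      exact conj_eq_iff.1 (mul_inv_eq_one.1 this)
    · exact h1 ((subgroupOf_eq_top.1 e).trans (normalCore_le _))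
  have r0 : Q r ≠ 0 := by rw [k.qr]; exact one_ne_zero
  have e1 := ei_refl p.qv p.vr r0
  have q1 : Q (r + Q r • v) ≠ 0 := by
    rw [k.qr, one_smul, quad_add, polar_comm, p.vr, p.qv, k.qr]; simp
  have sq : Φ (ei Q v r) * Φ (ei Q v r) = 1 := by rw [← map_mul, ei_sq, map_one]
  have e2 : Φ (ei Q v r) = t * Φ (oRefl Q (r + Q r • v)) := by rw [e1, map_mul, ← k.tt]
  have m : Φ (ei Q v r) ∈ LM (Cl t) ⊤ := e2 ▸
    mul_mem (subset_closure ⟨cl_self, trivial⟩) (subset_closure ⟨k.g5_cl q1, trivial⟩)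
  have c : Φ (ei Q v r) * t = t * Φ (ei Q v r) := by
    have := ei_cj (oRefl Q r) v r
    rw [refl_ap r v, refl_ap r r, polar_comm, p.vr, polar_self, two_smul, CharTwo.add_self_eq_zero] at this
    simp only [mul_zero, zero_smul, add_zero] at this
    rw [k.tt, ← map_mul, ← map_mul, conj_eq_iff.1 this]
  obtain ⟨x, hx, e3⟩ := k.dc _ (ai m ⟨u1, sq⟩) (mem_c1.2 c)
  exact k.refl_nm hx (k.inj e3 ▸ k.ei_om v r)

end OD

end CF.Dq
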