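import Cfsg.Agent.Dq.A

/-! Blocks with trivial intersections normalise each other. -/

set_option autoImplicit false
set_option linter.unusedSectionVars false

namespace CF.Dq

open Subgroup CF.Loc CF.LX
open CF.Ud (E2)
open CF.Dbl (El)

namespace K1

section cnt
variable {X : Type*} [Finite X]

theorem cnt0 (S : Setoid X) {s : ℕ} (hs : ∀ x, Nat.card {y // S x y} = s) : Nat.card X = Nat.card (Quotient S) * s := by
  classical
  have := Fintype.ofFinite (Quotient S)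
  rw [← Nat.card_congr (Equiv.sigmaFiberEquiv (Quotient.mk S)), Nat.card_sigma, Finset.sum_congr rfl (g := fun _ => s),
    Finset.sum_const, smul_eq_mul, Finset.card_univ, Nat.card_eq_fintype_card]
  intro c _
  induction c using Quotient.ind with | _ x => ?_
  rw [← hs x]
  exact Nat.card_congr (Equiv.subtypeEquivRight fun y => by rw [eq_comm]; exact Quotient.eq)

theorem cnt1 (S : Setoid X) (σ : X → X) (i : ∀ x, σ (σ x) = x) (p : ∀ x y, S x y → S (σ x) (σ y)) (x₀ : X)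
    (f : ∀ x, S x (σ x) ↔ S x x₀) : Odd (Nat.card (Quotient S)) := by
  classical
  have := Fintype.ofFinite (Quotient S)
  have : Fact (Nat.Prime 2) := ⟨Nat.prime_two⟩
  let τ : Function.End (Quotient S) := Quotient.map' σ p
  have e : τ ^ 2 ^ 1 = 1 := by
    funext c
    induction c using Quotient.ind with | _ x => ?_
    exact congrArg (Quotient.mk S) (i x)
  have k := Equiv.Perm.card_fixedPoints_modEq e
  have u : Fintype.card τ.fixedPoints = 1 := by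
    refine Fintype.card_eq_one_iff.2 ⟨⟨Quotient.mk S x₀, Quotient.sound (S.symm ((f x₀).2 (S.refl _)))⟩, fun c => ?_⟩
    obtain ⟨c, hc⟩ := c
    induction c using Quotient.ind with | _ x => ?_
    exact Subtype.ext (Quotient.sound ((f x).1 (S.symm (Quotient.exact hc))))
  rw [u] at k
  rw [Nat.card_eq_fintype_card, Nat.odd_iff]
  exact k

end cnt

variable {G : Type*} [Group G] {d e x y : G}

theorem dh (hd : d * d = 1) (he : e * e = 1) (n : ℕ) : ((d * e) ^ n)⁻¹ * d = d * (d * e) ^ n := by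
  have : d * (d * e) * d⁻¹ = (d * e)⁻¹ := by
    rw [← mul_assoc, hd, one_mul, mul_inv_rev, inv_eq_of_mul_eq_one_right he]
  rw [← inv_pow, ← this, conj_pow, inv_mul_cancel_right]

theorem dh0 (hd : d * d = 1) (he : e * e = 1) (n : ℕ) : ((d * e) ^ n)⁻¹ * d * (d * e) ^ n = d * (d * e) ^ (2 * n) := by
  rw [dh hd he, mul_assoc, ← pow_add, two_mul]

theorem dh1 (hd : d * d = 1) (he : e * e = 1) (n : ℕ) : ((d * e) ^ n)⁻¹ * e * (d * e) ^ n = d * (d * e) ^ (2 * n + 1) := by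
  have : e = d * (d * e) := by rw [← mul_assoc, hd, one_mul]
  conv_lhs => enter [1, 2]; rw [this]
  rw [← mul_assoc, dh hd he, mul_assoc, mul_assoc, ← pow_succ', ← pow_add]
  congr 2; ring

theorem half (o : Odd (orderOf x)) : ∃ k, x ^ (2 * k) = x := by
  obtain ⟨k, e⟩ := o
  exact ⟨k + 1, by rw [show 2 * (k + 1) = orderOf x + 1 by omega, pow_succ, pow_orderOf_eq_one, one_mul]⟩

theorem sqrt (o : Odd (orderOf x)) (o' : Odd (orderOf y)) (e : x * x = y * y) : x = y := by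
  obtain ⟨k, f⟩ := o.mul o'
  have a : x ^ (2 * k + 1) = 1 := by rw [← f, pow_mul, pow_orderOf_eq_one, one_pow]
  have b : y ^ (2 * k + 1) = 1 := by rw [← f, mul_comm, pow_mul, pow_orderOf_eq_one, one_pow]
  rw [pow_succ, pow_mul, pow_two] at a b
  rw [e] at a
  exact mul_left_cancel (a.trans b.symm)

theorem e2 (h : x * x = 1) : E2 x := ⟨1, by rw [pow_one, pow_two, h]⟩

theorem comm {Z : Subgroup G} (h : El Z) (a : x ∈ Z) (b : y ∈ Z) : x * y = y * x := by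
  have := h _ (mul_mem a b)
  rw [← inv_eq_of_mul_eq_one_right this, mul_inv_rev, inv_eq_of_mul_eq_one_right (h _ a), inv_eq_of_mul_eq_one_right (h _ b)]

theorem two {Z : Subgroup G} (h : El Z) : IsPGroup 2 Z := fun a => ⟨1, Subtype.ext (by simpa [pow_two] using h a a.2)⟩

end K1

open K1

variable {G : Type*} [Group G] [Finite G] {D : Set G} {Zf : G → Subgroup G} {d e f : G}

namespace B0
variable (k : B0 D Zf)
include k

theorem cj' (hd : d ∈ D) (g : G) : g⁻¹ * d * g ∈ D ∧ Zf (g⁻¹ * d * g) = cj[g⁻¹] (Zf d) := by simpa using k.cj d hd g⁻¹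

theorem memD (hd : d ∈ D) (he : e ∈ D) (j : ℕ) : d * (d * e) ^ j ∈ D := by
  obtain ⟨n, rfl | rfl⟩ := Nat.even_or_odd' j
  · rw [← dh0 (k.sq d hd) (k.sq e he)]; exact (k.cj' hd _).1
  · rw [← dh1 (k.sq d hd) (k.sq e he)]; exact (k.cj' he _).1

theorem odd (hd : d ∈ D) (he : e ∈ D) (n : Zf d ≠ Zf e) : Odd (orderOf (d * e)) := by
  by_contra o
  obtain ⟨j, o⟩ := Nat.not_odd_iff_even.1 o
  have p := orderOf_pos (d * e)
  have c : (d * e) ^ j * (d * e) ^ j = 1 := by rw [← pow_add, ← o, pow_orderOf_eq_one]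
  have a := k.two d hd _ (k.memD hd he j)
  have b := k.two e he _ (k.memD hd he (j + 1))
  have e1 : e * (d * (d * e) ^ (j + 1)) = (d * e) ^ j := by
    rw [pow_succ', ← mul_assoc d, ← mul_assoc d, k.sq d hd, one_mul, ← mul_assoc, k.sq e he, one_mul]
  rw [← mul_assoc, k.sq d hd, one_mul] at a
  rw [e1] at b
  have : (d * e) ^ j ∈ Zf d ⊓ Zf e := ⟨a (e2 c), b (e2 c)⟩
  rw [k.ti d hd e he n, mem_bot] at this
  exact absurd (Nat.le_of_dvd (by omega) (orderOf_dvd_of_pow_eq_one this)) (by omega)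

theorem cjE (hd : d ∈ D) (he : e ∈ D) (n : Zf d ≠ Zf e) : ∃ j : ℕ, Zf e = cj[((d * e) ^ j)⁻¹] (Zf d) := by
  obtain ⟨j, h⟩ := half (k.odd hd he n)
  refine ⟨j, ?_⟩
  rw [← (k.cj' hd _).2, dh0 (k.sq d hd) (k.sq e he), h, ← mul_assoc, k.sq d hd, one_mul]

theorem sw (hd : d ∈ D) (he : e ∈ D) (n : Zf d ≠ Zf e) : ∃ f ∈ D, f * d * f⁻¹ = e := by
  obtain ⟨j, h⟩ := half (k.odd hd he n)
  have m := k.memD hd he j
  refine ⟨_, m, ?_⟩
  rw [inv_eq_of_mul_eq_one_right (k.sq _ m), mul_assoc, ← mul_assoc d d, k.sq d hd, one_mul, mul_assoc, ← pow_add, ← two_mul, h,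
    ← mul_assoc, k.sq d hd, one_mul]

theorem self (hd : d ∈ D) : d ∈ 𝐍(Zf d) := cj_eq_self_iff.1 (by rw [← (k.cj d hd d).2, mul_inv_cancel_right])

theorem p2 (hd : d ∈ D) (he : e ∈ D) (n : d ∈ 𝐍(Zf e)) : Zf d = Zf e := by
  by_contra h
  obtain ⟨j, c⟩ := k.cjE hd he h
  exact h (by rw [eq_comm, cj_eq_iff, inv_inv] at c; rw [c, cj_eq_self (pow_mem (mul_mem n (k.self he)) j)])

theorem rel (hd : d ∈ D) (he : e ∈ D) (h : E2 (d * e)) : Zf e = Zf d := by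
  have := (k.mul d hd _ (k.two d hd e he h)).2
  rwa [← mul_assoc, k.sq d hd, one_mul] at this

theorem nrm (hd : d ∈ D) (he : e ∈ D) : Zf e ≤ 𝐍(Zf d) := by
  by_cases n : Zf d = Zf e
  · rw [n]; exact le_normalizer
  have ee := k.sq e he
  have n' : cj[e] (Zf d) ≠ Zf d := fun h => n (k.p2 he hd (cj_eq_self_iff.1 h)).symm
  have iv : ∀ f ∈ D, f⁻¹ = f := fun f hf => inv_eq_of_mul_eq_one_right (k.sq f hf)
  let J := {f // f ∈ D ∧ cj[f] (Zf d) = cj[e] (Zf d)}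
  let A := {x // x ∈ D ∧ Zf x = cj[e] (Zf d)}
  have nJ : ∀ f : J, Zf d ≠ Zf f.1 := fun ⟨f, a, b⟩ h => n' (by rw [← b, h, cj_eq_self (k.self a)])
  have pJ : ∀ f g : J, f.1 * g.1 ∈ 𝐍(Zf d) := fun ⟨f, a, b⟩ ⟨g, _, c⟩ => cj_eq_self_iff.1 (by
    change cj[f * g] _ = _
    rw [cj_mul, c, ← b, ← cj_mul, k.sq _ a, cj_one])
  -- `J` and `A` have the same size
  have b : Nat.card J = Nat.card A := by
    refine Nat.card_eq_of_bijective (fun f => ⟨f.1 * d * f.1⁻¹, (k.cj d hd _).1, (k.cj d hd _).2.trans f.2.2⟩) ⟨fun f g h => ?_, fun x => ?_⟩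
    · have h : f.1 * d * f.1⁻¹ = g.1 * d * g.1⁻¹ := congrArg Subtype.val h
      rw [iv _ f.2.1, iv _ g.2.1] at h
      refine Subtype.ext (mul_left_cancel (sqrt (k.odd hd f.2.1 (nJ f)) (k.odd hd g.2.1 (nJ g)) ?_))
      rw [mul_assoc, mul_assoc, ← mul_assoc f.1, ← mul_assoc g.1, h]
    · obtain ⟨f, hf, h⟩ := k.sw hd x.2.1 (by rw [x.2.2]; exact n'.symm)
      exact ⟨⟨f, hf, by rw [← (k.cj d hd f).2, h, x.2.2]⟩, Subtype.ext h⟩
  -- the block acts freely on `A`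
  have a : Nat.card (Zf d) ∣ Nat.card A := by
    let S : Setoid A := ⟨fun x y => x.1⁻¹ * y.1 ∈ cj[e] (Zf d), fun x => by simp, fun h => by simpa using inv_mem h,
      fun h h' => by simpa [mul_assoc] using mul_mem h h'⟩
    refine ⟨_, (cnt0 S fun x => ?_).trans (mul_comm _ _)⟩
    rw [← card_cj e]
    refine Nat.card_eq_of_bijective (fun y => ⟨x.1⁻¹ * y.1.1, y.2⟩) ⟨fun y z h => ?_, fun z => ?_⟩
    · exact Subtype.ext (Subtype.ext (mul_left_cancel (congrArg Subtype.val h)))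
    · have m := k.mul _ x.2.1 z.1 (by rw [x.2.2]; exact z.2)
      exact ⟨⟨⟨x.1 * z.1, m.1, m.2.trans x.2.2⟩, by change x.1⁻¹ * (x.1 * z.1) ∈ _; rw [inv_mul_cancel_left]; exact z.2⟩, Subtype.ext (by simp)⟩
  let S : Setoid J := ⟨fun f g => E2 (f.1 * g.1), fun f => e2 (by rw [k.sq _ f.2.1, mul_one]),
    fun {f g} h => e2 (by
      have := k.el _ f.2.1 _ (inv_mem (k.two _ f.2.1 _ g.2.1 h))
      rwa [mul_inv_rev, iv _ f.2.1, iv _ g.2.1] at this),
    fun {f g h} p q => e2 (k.el _ f.2.1 _ (by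
      have := mul_mem (k.two _ f.2.1 _ g.2.1 p) (k.rel f.2.1 g.2.1 p ▸ k.two _ g.2.1 _ h.2.1 q)
      rwa [mul_assoc, ← mul_assoc g.1, k.sq _ g.2.1, one_mul] at this))⟩
  let e₀ : J := ⟨e, he, rfl⟩
  have s : ∀ f : J, Nat.card {g // S f g} = Nat.card ↥(Zf e ⊓ 𝐍(Zf d)) := fun f => by
    have : Nat.card ↥(Zf e ⊓ 𝐍(Zf d)) = Nat.card ↥(Zf f.1 ⊓ 𝐍(Zf d)) := by
      by_cases h : Zf f.1 = Zf e
      · rw [h]
      obtain ⟨j, c⟩ := k.cjE f.2.1 he h
      rw [c, ← card_cj ((f.1 * e) ^ j)⁻¹ (Zf f.1 ⊓ _), cj_inf, cj_eq_self_of_mem (H := 𝐍(Zf d)) (inv_mem (pow_mem (pJ f e₀) j))]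
    rw [this]
    refine Nat.card_eq_of_bijective (fun g => ⟨f.1 * g.1.1, k.two _ f.2.1 _ g.1.2.1 g.2, pJ f g.1⟩) ⟨fun y z h => ?_, fun z => ?_⟩
    · exact Subtype.ext (Subtype.ext (mul_left_cancel (congrArg Subtype.val h)))
    · have q : f.1 * (f.1 * z.1) = z.1 := by rw [← mul_assoc, k.sq _ f.2.1, one_mul]
      exact ⟨⟨⟨f.1 * z.1, (k.mul _ f.2.1 _ z.2.1).1, by rw [cj_mul, cj_eq_self z.2.2, f.2.2]⟩,
        by change E2 (f.1 * (f.1 * z.1)); rw [q]; exact e2 (k.el _ f.2.1 _ z.2.1)⟩, Subtype.ext q⟩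
  let σ : J → J := fun f => ⟨e * f.1 * e⁻¹, (k.cj _ f.2.1 e).1, by
    rw [iv e he, mul_assoc, cj_mul, cj_eq_self (pJ f e₀)]⟩
  have o := cnt1 S σ (fun f => Subtype.ext (by
      change e * (e * f.1 * e⁻¹) * e⁻¹ = f.1
      rw [iv e he, ← mul_assoc, ← mul_assoc, ee, one_mul, mul_assoc, ee, mul_one]))
    (fun f g ⟨j, h⟩ => ⟨j, by
      change (e * f.1 * e⁻¹ * (e * g.1 * e⁻¹)) ^ _ = 1
      rw [conj_mul, conj_pow, h, mul_one, mul_inv_cancel]⟩) e₀ fun f => by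
    change E2 (f.1 * (e * f.1 * e⁻¹)) ↔ E2 (f.1 * e)
    rw [iv e he, show f.1 * (e * f.1 * e) = (f.1 * e) ^ 2 by simp [pow_two, mul_assoc]]
    exact ⟨fun ⟨j, h⟩ => ⟨j + 1, by rw [pow_succ', pow_mul, h]⟩, fun ⟨j, h⟩ => ⟨j, by rw [← pow_mul, mul_comm, pow_mul, h, one_pow]⟩⟩
  rw [← b, cnt0 S s] at a
  obtain ⟨j, c⟩ := k.cjE hd he n
  have : Fact (Nat.Prime 2) := ⟨Nat.prime_two⟩
  obtain ⟨m, hm⟩ := (K1.two (k.el d hd)).exists_card_eq
  have a := Nat.Coprime.dvd_of_dvd_mul_left (by rw [hm]; exact (Nat.coprime_two_left.2 o).pow_left m) a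
  have := eq_of_le_of_card_ge (inf_le_left : Zf e ⊓ 𝐍(Zf d) ≤ Zf e) (by
    refine le_trans ?_ (Nat.le_of_dvd Nat.card_pos a)
    rw [c, card_cj])
  rw [← this]; exact inf_le_right

end B0

end CF.Dq
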