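import Cfsg.Agent.Dq.A

/-! Eichler transformations and reflections in characteristic two: calculus. -/

set_option autoImplicit false
set_option linter.unusedSectionVars false
set_option linter.unusedVariables false

namespace CF.Dq

open Cfsg Subgroup Equiv CF.Loc CF.LX CF.Geom QuadraticMap Module
open CF.Ud (E2)
open CF.Dbl (El)
open scoped commutatorElement

variable {F V : Type*} [Field F] [Finite F] [CharP F 2] [AddCommGroup V] [Module F V] [FiniteDimensional F V]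
  {Q : QuadraticForm F V} {θ θ' : F ≃+* F} {ξ ξ' : Perm V} {a b n r u v w x y v' r' : V} {c : F} {g s s' : OG Q} {H B : Subgroup (OG Q)}

variable (F) in
include F in
theorem v_two (x : V) : x + x = 0 := by rw [← two_smul F, CharTwo.two_eq_zero, zero_smul]
theorem og_ext (h : ∀ x, g.1 x = s.1 x) : g = s := Subtype.ext (LinearEquiv.ext h)
theorem og_mul (g s : OG Q) (x : V) : (g * s).1 x = g.1 (s.1 x) := rfl
theorem og_one (x : V) : (1 : OG Q).1 x = x := rfl
@[simp high] theorem pol_self (x : V) : polar Q x x = 0 := by rw [polar_self', CharTwo.two_eq_zero, zero_mul]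
theorem pol_sw (h : polar Q x y = 0) : polar Q y x = 0 := by rw [polar_comm, h]
theorem ex_rt (c : F) : ∃ d : F, d * d = c := by
  obtain ⟨d, e⟩ := isSquare_of_two_eq_zero CharTwo.two_eq_zero c; exact ⟨d, e.symm⟩
theorem ex_one (k : Q x ≠ 0) : ∃ c : F, c ≠ 0 ∧ Q (c • x) = 1 := by
  obtain ⟨d, e⟩ := ex_rt (Q x)⁻¹
  exact ⟨d, fun z => k (by simpa [z, eq_comm] using e), by rw [quad_smul, _root_.sq, e, inv_mul_cancel₀ k]⟩
theorem ne_of_q (k : Q x ≠ 0) : x ≠ 0 := fun z => k (by rw [z, map_zero])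
theorem q_line (hv : Q v = 0) (k : Q x ≠ 0) (c : F) : x ≠ c • v := fun z => k (by rw [z, quad_smul, hv, mul_zero])
theorem ei_junk (h : ¬ (Q u = 0 ∧ polar Q u w = 0)) : ei Q u w = 1 := dif_neg h

theorem ei_ap (hu : Q u = 0) (hw : polar Q u w = 0) (x : V) :
    (ei Q u w).1 x = x + polar Q u x • w + (polar Q w x + Q w * polar Q u x) • u := by
  rw [ei, dif_pos ⟨hu, hw⟩, eichler_apply]; match_scalars <;> grind
theorem refl_ap (x y : V) : (oRefl Q x).1 y = y + ((Q x)⁻¹ * polar Q x y) • x := by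
  rw [oRefl_apply]; match_scalars <;> grind
theorem ei_mul (hu : Q u = 0) (hw : polar Q u w = 0) (hy : polar Q u y = 0) : ei Q u w * ei Q u y = ei Q u (w + y) := by
  rw [ei, ei, ei, dif_pos ⟨hu, hw⟩, dif_pos ⟨hu, hy⟩, dif_pos ⟨hu, by simp [hw, hy]⟩, eichler_add]
theorem ei_zero (u : V) : ei Q u 0 = 1 := by
  by_cases h : Q u = 0
  · exact og_ext fun x => by simp [ei_ap h]
  · exact ei_junk fun k => h k.1
theorem ei_sq (u w : V) : ei Q u w * ei Q u w = 1 := by
  by_cases h : Q u = 0 ∧ polar Q u w = 0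
  · rw [ei_mul h.1 h.2 h.2, v_two F, ei_zero]
  · rw [ei_junk h, mul_one]
theorem ei_cj (g : OG Q) (u w : V) : g * ei Q u w * g⁻¹ = ei Q (g.1 u) (g.1 w) := by
  by_cases h : Q u = 0 ∧ polar Q u w = 0
  · rw [ei, ei, dif_pos h, conj_eichler, dif_pos (by rwa [OG_map, OG_polar])]
  · rw [ei_junk h, ei_junk (by rwa [OG_map, OG_polar]), mul_one, mul_inv_cancel]
theorem ei_smul (hu : Q u = 0) (hw : polar Q u w = 0) (c : F) : ei Q (c • u) w = ei Q u (c • w) := og_ext fun x => by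
  rw [ei_ap (by simp [quad_smul, hu]) (by simp [hw]), ei_ap hu (by simp [hw])]
  simp only [polar_smul_left, quad_smul, smul_eq_mul]; module
theorem ei_shift (u w : V) (c : F) : ei Q u (w + c • u) = ei Q u w := by
  by_cases h : Q u = 0 ∧ polar Q u w = 0
  · refine og_ext fun x => ?_
    rw [ei_ap h.1 (by simp [h.2]), ei_ap h.1 h.2]
    simp only [polar_add_left, polar_smul_left, polar_smul_right, quad_add, quad_smul, smul_eq_mul, h.1, pol_sw h.2]
    match_scalars <;> grind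
  · rw [ei_junk h, ei_junk (by simpa using h)]
theorem ei_swap (hu : Q u = 0) (hw : Q w = 0) (e : polar Q u w = 0) : ei Q u w = ei Q w u := og_ext fun x => by
  rw [ei_ap hu e, ei_ap hw (pol_sw e), hu, hw]; module
theorem ei_refl (hu : Q u = 0) (hw : polar Q u w = 0) (k : Q w ≠ 0) : ei Q u w = oRefl Q w * oRefl Q (w + Q w • u) := by
  have := ei_sq (Q := Q) u w
  rw [← inv_eq_of_mul_eq_one_right this, ei, dif_pos ⟨hu, hw⟩, eichler_eq_oRefl_mul hu hw k, _root_.mul_inv_rev, oRefl_inv, oRefl_inv]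
  congr 2; match_scalars <;> grind
theorem ei_inv (u w : V) : (ei Q u w)⁻¹ = ei Q u w := inv_eq_of_mul_eq_one_right (ei_sq u w)
theorem ei_fix (h : polar Q u x = 0) (k : polar Q w x = 0) : (ei Q u w).1 x = x := by
  by_cases e : Q u = 0 ∧ polar Q u w = 0
  · simp [ei_ap e.1 e.2, h, k]
  · rw [ei_junk e]; rfl
theorem mem_Zr (p : Pr Q v r) : g ∈ Zr Q v r ↔ ∃ c : F, g = ei Q v (c • r) := by
  refine ⟨fun k => ?_, fun k => subset_closure k⟩
  induction k using closure_induction with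
  | mem _ e => exact e
  | one => exact ⟨0, by rw [zero_smul, ei_zero]⟩
  | mul a b _ _ i j =>
    obtain ⟨c, rfl⟩ := i; obtain ⟨c', rfl⟩ := j
    exact ⟨c + c', by rw [ei_mul p.qv (by simp [p.vr]) (by simp [p.vr]), add_smul]⟩
  | inv a _ i => obtain ⟨c, rfl⟩ := i; exact ⟨c, ei_inv ..⟩
theorem mem_Qe (hu : Q u = 0) : g ∈ Qe Q u ↔ ∃ y, polar Q u y = 0 ∧ g = ei Q u y := by
  refine ⟨fun k => ?_, fun ⟨y, _, k⟩ => subset_closure ⟨y, k⟩⟩
  induction k using closure_induction with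
  | mem _ e =>
    obtain ⟨y, rfl⟩ := e
    by_cases h : polar Q u y = 0
    exacts [⟨y, h, rfl⟩, ⟨0, by simp, by rw [ei_zero, ei_junk fun k => h k.2]⟩]
  | one => exact ⟨0, by simp, (ei_zero u).symm⟩
  | mul a b _ _ i j => obtain ⟨c, i, rfl⟩ := i; obtain ⟨c', j, rfl⟩ := j; exact ⟨c + c', by simp [i, j], ei_mul hu i j⟩
  | inv a _ i => obtain ⟨c, i, rfl⟩ := i; exact ⟨c, i, ei_inv ..⟩
theorem so_one : So Q 1 (1 : Perm V) := ⟨fun _ _ => rfl, fun _ _ => rfl, fun _ => rfl⟩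
theorem So.mul (k : So Q θ ξ) (k' : So Q θ' ξ') : So Q (θ * θ') (ξ * ξ') :=
  ⟨fun x y => by simp [k.add, k'.add], fun c x => by simp [k.smul, k'.smul], fun x => by simp [k.q, k'.q]⟩
theorem So.inv (k : So Q θ ξ) : So Q θ⁻¹ ξ⁻¹ :=
  have e : ∀ c, θ (θ⁻¹ c) = c := θ.apply_symm_apply
  ⟨fun x y => ξ.injective (by simp [k.add]), fun c x => ξ.injective (by simp [k.smul, e]), fun x => θ.injective (by simp [← k.q, e])⟩
theorem So.zero (k : So Q θ ξ) : ξ 0 = 0 := by simpa using k.add 0 0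
theorem So.pol (k : So Q θ ξ) (x y : V) : polar Q (ξ x) (ξ y) = θ (polar Q x y) := by
  simp only [polar, ← k.add, k.q, map_sub]
theorem so_of (g : OG Q) : So Q 1 g.1.toEquiv := ⟨g.1.map_add, g.1.map_smul, OG_map g⟩
theorem So.lin (k : So Q 1 ξ) : ∃ g : OG Q, g.1.toEquiv = ξ :=
  ⟨⟨{ ξ with map_add' := k.add, map_smul' := k.smul }, mem_OG.2 k.q⟩, rfl⟩
theorem So.ex (k : So Q θ ξ) (g : OG Q) : ∃ g' : OG Q, ∀ x, g'.1 (ξ x) = ξ (g.1 x) := by
  obtain ⟨g', e⟩ := So.lin (Q := Q) (ξ := ξ * g.1.toEquiv * ξ⁻¹) (by simpa using (k.mul (so_of g)).mul k.inv)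
  exact ⟨g', fun x => by simpa using congrArg (fun p : Perm V => p (ξ x)) e⟩
theorem So.refl (k : So Q θ ξ) (x y : V) : (oRefl Q (ξ x)).1 (ξ y) = ξ ((oRefl Q x).1 y) := by
  simp only [refl_ap, k.add, k.smul, k.q, k.pol, map_mul, map_inv₀]
theorem So.ei (k : So Q θ ξ) (u w y : V) : (ei Q (ξ u) (ξ w)).1 (ξ y) = ξ ((ei Q u w).1 y) := by
  by_cases h : Q u = 0 ∧ polar Q u w = 0
  · rw [ei_ap (by rw [k.q, h.1, map_zero]) (by rw [k.pol, h.2, map_zero]), ei_ap h.1 h.2]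
    simp only [k.add, k.smul, k.q, k.pol, map_mul, map_add]
  · rw [ei_junk h, ei_junk (by simpa [k.q, k.pol] using h)]; rfl
namespace Os
variable (o : Os Q)
include o
theorem wp : IsWittPair (RingHom.id F) (polarBilin Q) Q := isWittPair_quad Q o.nd
theorem dual {T : Submodule F V} (h : x ∉ T) : ∃ y, polar Q x y = 1 ∧ ∀ z ∈ T, polar Q z y = 0 := o.wp.exists_dual_vec h
theorem dual0 (h : x ≠ 0) : ∃ y, polar Q x y = 1 := (o.dual (T := ⊥) (by simpa)).imp fun _ k => k.1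
theorem dual1 (h : ∀ c : F, x ≠ c • u) : ∃ y, polar Q x y = 1 ∧ polar Q u y = 0 :=
  (o.dual (T := F ∙ u) fun k => by obtain ⟨c, e⟩ := Submodule.mem_span_singleton.1 k; exact h c e.symm).imp fun _ k =>
    ⟨k.1, k.2 _ (Submodule.mem_span_singleton_self u)⟩
theorem dual2 (h : ∀ c c' : F, x ≠ c • u + c' • w) : ∃ y, polar Q x y = 1 ∧ polar Q u y = 0 ∧ polar Q w y = 0 :=
  (o.dual (T := Submodule.span F {u, w}) fun k => by obtain ⟨c, c', e⟩ := Submodule.mem_span_pair.1 k; exact h c c' e.symm).imp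
    fun _ k => ⟨k.1, k.2 _ (Submodule.subset_span (by simp)), k.2 _ (Submodule.subset_span (by simp))⟩
theorem perp0 (h : ∀ y, polar Q x y = 0) : x = 0 := o.nd.1 x h
theorem perp1 (h : ∀ y, polar Q u y = 0 → polar Q x y = 0) : ∃ c : F, x = c • u := by
  by_contra! k
  obtain ⟨y, a, b⟩ := o.dual1 k
  exact one_ne_zero (a.symm.trans (h y b))
theorem perp2 (h : ∀ y, polar Q u y = 0 → polar Q w y = 0 → polar Q x y = 0) : ∃ c c' : F, x = c • u + c' • w := by
  by_contra! k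
  obtain ⟨y, a, b, b'⟩ := o.dual2 k
  exact one_ne_zero (a.symm.trans (h y b b'))
theorem sing3 (a b n : V) : ∃ v, v ≠ 0 ∧ Q v = 0 ∧ polar Q a v = 0 ∧ polar Q b v = 0 ∧ polar Q n v = 0 := by
  have h1 := o.wp.finrank_perp (Submodule.span F (Set.range ![a, b, n]))
  have h2 : finrank F (Submodule.span F (Set.range ![a, b, n])) ≤ 3 := finrank_range_le_card (R := F) ![a, b, n]
  obtain ⟨v, i, v0, hv⟩ := exists_singular_mem Q (U := perp (polarBilin Q) (Submodule.span F (Set.range ![a, b, n])))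
    (by have := o.h6; omega)
  have := mem_perp_span.1 i
  exact ⟨v, v0, hv, this _ ⟨0, rfl⟩, this _ ⟨1, rfl⟩, this _ ⟨2, rfl⟩⟩
theorem partner (hv : Q v = 0) (h : ∀ c : F, v ≠ c • u) (e : polar Q u v = 0) : ∃ y, Q y = 0 ∧ polar Q v y = 1 ∧ polar Q u y = 0 := by
  obtain ⟨y, a, b, k⟩ := o.wp.exists_partner (Z := F ∙ u) (x := v)
    (fun k => by obtain ⟨c, e⟩ := Submodule.mem_span_singleton.1 k; exact h c e.symm) (by simp [hv]) fun z k => by
      obtain ⟨c, rfl⟩ := Submodule.mem_span_singleton.1 k; simp [e]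
  exact ⟨y, by simpa using a, b, k _ (Submodule.mem_span_singleton_self u)⟩
theorem rtop : reflSub Q = ⊤ := reflSub_eq_top o.nd (.inr (by have := o.h6; omega))
theorem om_eq : _root_.commutator (OG Q) = eichlerSub Q :=
  commutator_eq_eichlerSub_of_finite o.nd (.inr (by have := o.h6; omega)) (by have := o.h6; omega)
theorem ei_om (u w : V) : ei Q u w ∈ _root_.commutator (OG Q) := by
  by_cases h : Q u = 0 ∧ polar Q u w = 0
  · rw [o.om_eq, ei, dif_pos h]; exact eichler_mem _ _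
  · rw [ei_junk h]; exact one_mem _
theorem refl_nm (k : Q x ≠ 0) : oRefl Q x ∉ _root_.commutator (OG Q) := fun i => by
  have := Cls.finrank_RU_oRefl_mul o.nd k 1
  rw [mul_one] at this
  exact Nat.not_even_iff_odd.2 this (((Cls.mem_commutator_iff CharTwo.two_eq_zero o.nd o.rtop _).1 i).add
    ((Cls.mem_commutator_iff CharTwo.two_eq_zero o.nd o.rtop _).1 (one_mem _)))
theorem refl_om (k : Q x ≠ 0) (g : OG Q) : g ∈ _root_.commutator (OG Q) ∨ g * oRefl Q x ∈ _root_.commutator (OG Q) := by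
  rw [Normal.mem_comm_iff inferInstance, Cls.mem_commutator_iff CharTwo.two_eq_zero o.nd o.rtop,
    Cls.mem_commutator_iff CharTwo.two_eq_zero o.nd o.rtop]
  have := Cls.finrank_RU_oRefl_mul o.nd k g
  grind
theorem simple : IsSimpleGroup (_root_.commutator (OG Q)) := by
  classical
  have h1 := isSimpleGroup_omega o.nd (by have := o.h6; omega) (_root_.commutator (OG Q)).subtype_injective (range_subtype _)
  have h2 := card_center_omega o.nd (by have := o.h6; omega) (.inr (by have := o.h6; omega)) (_root_.commutator (OG Q)).subtype_injective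
    (range_subtype _)
  rw [if_neg (by simp [CharTwo.two_eq_zero]), card_eq_one] at h2
  exact ((QuotientGroup.quotientMulEquivOfEq h2).trans QuotientGroup.quotientBot).symm.isSimpleGroup
theorem ei_inj (u0 : u ≠ 0) (hu : Q u = 0) (hw : polar Q u w = 0) (hy : polar Q u y = 0) (e : ei Q u w = ei Q u y) :
    ∃ c : F, y = w + c • u := by
  obtain ⟨c, k⟩ := o.perp1 (u := u) (x := y - w) fun z k => by
    have := ei_ap hu hw z
    rw [e, ei_ap hu hy, k] at this
    simp only [zero_smul, mul_zero, add_zero, add_right_inj] at this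
    rw [polar_sub_left, smul_left_injective F u0 this, sub_self]
  exact ⟨c, by rw [← k]; abel⟩
theorem ei_ne (v0 : v ≠ 0) (hv : Q v = 0) (e : polar Q v y = 0) (k : ∀ c : F, y ≠ c • v) : ei Q v y ≠ 1 := fun f => by
  obtain ⟨c, i⟩ := o.ei_inj v0 hv (by simp) e ((ei_zero v).trans f.symm)
  exact k c (by simpa using i)
theorem ei_eq (v0 : v ≠ 0) (hv : Q v = 0) (e : polar Q v y = 0) (k : Q y ≠ 0) (f : ei Q u w = ei Q v y) :
    Q u = 0 ∧ polar Q u w = 0 ∧ ∃ l c : F, l ≠ 0 ∧ u = l • v ∧ l • w = y + c • v := by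
  have h : Q u = 0 ∧ polar Q u w = 0 := by_contra fun h => o.ei_ne v0 hv e (q_line hv k) (f ▸ ei_junk h)
  have ap : ∀ x, polar Q u x • w + (polar Q w x + Q w * polar Q u x) • u = polar Q v x • y + (polar Q y x + Q y * polar Q v x) • v :=
    fun x => by simpa only [f, ei_ap hv e, add_assoc, add_right_inj] using (ei_ap h.1 h.2 x).symm
  have qq : ∀ x, polar Q u x ^ 2 * Q w = polar Q v x ^ 2 * Q y := fun x => by
    simpa [quad_add, quad_smul, h.1, hv, pol_sw h.2, pol_sw e] using congrArg Q (ap x)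
  obtain ⟨x, x1⟩ := o.dual0 v0
  have w0 : Q w ≠ 0 := fun z => k (by simpa [z, x1] using (qq x).symm)
  obtain ⟨z, z1, z2⟩ := o.dual1 (q_line hv k)
  have z3 : polar Q u z = 0 := by simpa [z2, w0] using qq z
  have z4 : polar Q w z • u = v := by simpa [z1, z2, z3] using ap z
  have z5 : polar Q w z ≠ 0 := fun i => v0 (by rw [← z4, i, zero_smul])
  have z6 : u = (polar Q w z)⁻¹ • v := by rw [← z4, inv_smul_smul₀ z5]
  have z7 : polar Q v w = 0 := by rw [← z4]; simp [h.2]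
  rw [z6, ei_smul hv z7] at f
  obtain ⟨c, i⟩ := o.ei_inj v0 hv e (by simp [z7]) f.symm
  exact ⟨h.1, h.2, _, c, inv_ne_zero z5, z6, i⟩
theorem refl_eq (k : Q x ≠ 0) (k' : Q y ≠ 0) (e : oRefl Q x = oRefl Q y) : ∃ c : F, c ≠ 0 ∧ y = c • x := by
  obtain ⟨z, i⟩ := o.dual0 (ne_of_q k')
  have := refl_ap (Q := Q) x z
  rw [e, refl_ap, i, add_right_inj, mul_one, inv_smul_eq_iff₀ k', smul_smul] at this
  exact ⟨_, fun j => ne_of_q k' (by rw [this, j, zero_smul]), this⟩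
theorem refl_comm (k : Q x ≠ 0) (k' : Q y ≠ 0) : oRefl Q x * oRefl Q y = oRefl Q y * oRefl Q x ↔ polar Q x y = 0 := by
  rw [← mul_inv_eq_iff_eq_mul, conj_oRefl]
  refine ⟨fun e => ?_, fun e => by rw [oRefl_of_polar_eq_zero e]⟩
  obtain ⟨c, c0, i⟩ := o.refl_eq (by rwa [OG_map]) k' e
  simpa [refl_ap, c0, k] using congrArg (polar Q · y) i
theorem refl_cj (k : Q x ≠ 0) (k' : Q y ≠ 0) : ∃ g : OG Q, g * oRefl Q x * g⁻¹ = oRefl Q y :=
  (exists_conj_oRefl o.nd k' k (isSquare_of_two_eq_zero CharTwo.two_eq_zero _)).imp fun _ => Eq.symm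
theorem refl_pr (hr : Q r = 1) (k : Q x ≠ 0) (e : polar Q r x = 0) (f : oRefl Q x ≠ oRefl Q r) :
    ∃ v, Pr Q v r ∧ oRefl Q r * oRefl Q x = ei Q v r := by
  obtain ⟨c, c0, i⟩ := ex_one k
  have e' : r + (r + c • x) = c • x := by rw [← add_assoc, v_two F, zero_add]
  have p : Pr Q (r + c • x) r := ⟨fun z => f (by rw [← oRefl_smul c0, ← e', z, add_zero]),
    by simp [quad_add, i, hr, e, CharTwo.add_self_eq_zero], hr, by simp [pol_sw e]⟩
  exact ⟨_, p, by rw [ei_refl p.qv p.vr (by simp [hr]), hr, one_smul, e', oRefl_smul c0]⟩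
theorem ex_pr (hr : Q r = 1) : ∃ v, Pr Q v r := by
  obtain ⟨v, v0, hv, e, -⟩ := o.sing3 r 0 0
  exact ⟨v, v0, hv, hr, pol_sw e⟩
omit o in
theorem _root_.CF.Dq.Pr.li (p : Pr Q v r) : LinearIndependent F ![v, r] := linearIndependent_pair_of_notMem p.v0 fun k => by
  obtain ⟨c, e⟩ := Submodule.mem_span_singleton.1 k; exact q_line p.qv (by simp [p.qr]) c e.symm
theorem witt_pr (p : Pr Q v r) (p' : Pr Q v' r') : ∃ g : OG Q, g.1 v = v' ∧ g.1 r = r' := by
  obtain ⟨g, i, k⟩ := o.wp.exists_isom_pair p.li p'.li (p'.qv.trans p.qv.symm) (p'.qr.trans p.qr.symm) (p'.vr.trans p.vr.symm)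
  exact ⟨⟨g, i⟩, k⟩
theorem sum_one (w0 : w ≠ 0) : ∃ x, Q x = 1 ∧ Q (w + x) = 1 := by
  obtain ⟨w', e⟩ := o.dual0 w0
  obtain ⟨v, v0, hv, h1, h2, -⟩ := o.sing3 w w' 0
  obtain ⟨z, z1, z2⟩ := o.dual1 (x := v) (u := w) fun c i => v0 (by
    obtain rfl : c = 0 := by simpa [i, polar_comm Q w', e] using h2
    simpa using i)
  have : Q (Q w • w' + z + (1 + Q (Q w • w' + z)) • v) = 1 := by
    rw [quad_add, quad_smul, hv]; simp [h2, polar_comm Q z, z1]; grind
  exact ⟨_, this, by rw [quad_add, this]; simp [e, z2, h1]; grind⟩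
theorem so_eq (k : So Q θ ξ) (e : ∀ x, Q x ≠ 0 → oRefl Q (ξ x) = oRefl Q x) : ξ = 1 := by
  have h : ∀ x, Q x = 1 → ξ x = x := fun x i => by
    obtain ⟨c, -, j⟩ := o.refl_eq (by simp [i]) (by simp [k.q, i]) (e x (by simp [i])).symm
    have := congrArg Q j
    rw [k.q, quad_smul, i, map_one] at this
    rw [j, show c = 1 by grind, one_smul]
  refine Equiv.ext fun w => ?_
  by_cases w0 : w = 0
  · rw [w0, k.zero]; rfl
  obtain ⟨x, i, j⟩ := o.sum_one w0
  simpa [k.add, h x i] using h _ j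
theorem ex_tr (p : Pr Q v r) (c : F) : ∃ y, polar Q v y = 0 ∧ (ei Q v y).1 r = r + c • v := by
  obtain ⟨z, i, j⟩ := o.dual1 (x := r) (q_line p.qv (by simp [p.qr]))
  exact ⟨c • z, by simp [j], by simp [ei_ap p.qv (show polar Q v (c • z) = 0 by simp [j]), p.vr, polar_comm Q z, i]⟩
theorem ex_opp (p : Pr Q v r) : ∃ x v', Pr Q x r ∧ Pr Q v' r ∧ polar Q v x = 0 ∧ polar Q v' x = 0 ∧ polar Q v v' ≠ 0 ∧
    (∀ c : F, x ≠ c • v) ∧ ∀ c : F, x ≠ c • v' := by
  obtain ⟨v', h1, h2, h3⟩ := o.partner (u := r) p.qv (fun c i => p.v0 (by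
    obtain rfl : c = 0 := by simpa [i, quad_smul, p.qr] using p.qv
    simpa using i)) (pol_sw p.vr)
  obtain ⟨x, x0, hx, a, b, e⟩ := o.sing3 v v' r
  refine ⟨x, v', ⟨x0, hx, p.qr, pol_sw e⟩, ⟨fun z => by simp [z] at h2, h1, p.qr, pol_sw h3⟩, a, b, by simp [h2], fun c i => x0 ?_,
    fun c i => x0 ?_⟩
  · obtain rfl : c = 0 := by simpa [i, polar_comm Q v', h2] using b
    simpa using i
  · obtain rfl : c = 0 := by simpa [i, h2] using a
    simpa using i
end Os

end CF.Dq
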