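import Cfsg.Agent.Dq.M1

/-! Involutions of an orthogonal group fixing only singular vectors, part 1. -/

set_option autoImplicit false
set_option linter.unusedSectionVars false

namespace CF.Dq

open Cfsg Subgroup Equiv CF.Loc CF.LX CF.Geom QuadraticMap Module CF.Cls
open CF.Dbl (El)

variable {F V : Type*} [Field F] [Finite F] [CharP F 2] [AddCommGroup V] [Module F V] [FiniteDimensional F V]
  {Q : QuadraticForm F V} {a b n m r u v x y : V} {c : F} {g s : OG Q} {H : Subgroup (OG Q)}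

namespace M3

variable (F) in
include F in
theorem vv (x : V) : x + x = 0 := by rw [← two_smul F, CharTwo.two_eq_zero, zero_smul]
variable (F) in
include F in
theorem sub (x y : V) : x - y = x + y := by rw [sub_eq_iff_eq_add, add_assoc, vv F, add_zero]
theorem fin (Q : QuadraticForm F V) : Finite (OG Q) :=
  have := Module.finite_of_finite F (M := V)
  Finite.of_injective (fun g : OG Q => (g.1 : _ → _)) fun _ _ e => Subtype.ext (DFunLike.coe_injective e)
theorem ext {g h : OG Q} (e : ∀ x, g.1 x = h.1 x) : g = h := Subtype.ext (LinearEquiv.ext e)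
theorem mul_ap (g h : OG Q) (x : V) : (g * h).1 x = g.1 (h.1 x) := rfl
theorem cm (e : ei Q (g.1 a) (g.1 y) = ei Q a y) : ei Q a y ∈ 𝐂₁(g) := mem_c1.2 (LX.conj_eq_iff.1 (ei_cj g a y ▸ e)).symm

namespace A
variable (k : AT s)
include k

theorem ss (x : V) : s.1 (s.1 x) = x := by rw [← mul_ap, k.sq]; rfl
theorem fN (x : V) : s.1 (s.1 x + x) = s.1 x + x := by rw [map_add, ss k, add_comm]
theorem adj (x y : V) : polar Q (s.1 x + x) y = polar Q x (s.1 y + y) := by
  rw [polar_add_left, polar_add_right, ← OG_polar s x (s.1 y), ss k]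
theorem uu (e : s.1 a = a) (f : s.1 b = b) : polar Q a b = 0 := by
  rw [polar, k.fx a e, k.fx b f, k.fx _ (by rw [map_add, e, f]), sub_zero, sub_zero]
theorem alt (x : V) : polar Q x (s.1 x + x) = 0 := by
  have := k.fx _ (fN k x)
  rw [quad_add, OG_map, CharTwo.add_self_eq_zero, zero_add] at this
  rw [polar_add_right, polar_self', CharTwo.two_eq_zero, zero_mul, add_zero, polar_comm, this]
theorem alt' (x : V) : polar Q (s.1 x + x) x = 0 := (adj k x x).trans (alt k x)
theorem Nu (e : s.1 a = a) : s.1 a + a = 0 := by rw [e, vv F]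
theorem ap (e : s.1 a = a) (f : s.1 b = b) (x : V) : (ei Q a b).1 x = x + polar Q a x • b + polar Q b x • a := by
  rw [ei_ap (k.fx a e) (uu k e f), k.fx b f, zero_mul, add_zero]
/-- the symplectic transvections of the fixed space -/
theorem cN (e : s.1 y + y = c • a) (f : s.1 a = a) : ei Q a y ∈ 𝐂₁(s) := cm (by
  rw [f, ← ei_shift a y c, ← e, add_comm, add_assoc, vv F, add_zero])

end A

open A

variable (o : Os Q) (k : AT s)
include o k

theorem si : SI (polarBilin Q) s.1 := ⟨CharTwo.two_eq_zero, o.nd, polar_isAlt CharTwo.two_eq_zero Q, s.2.1, ss k⟩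

theorem rng (e : ∀ u, s.1 u = u → polar Q x u = 0) : ∃ n, s.1 n + n = x := by
  obtain ⟨n, h⟩ : x ∈ RU s.1 := (isWittPair_quad Q o.nd).perp_perp (RU s.1) ▸ mem_perp.2 fun u h =>
    (polar_comm _ _ _).trans (e u ((si o k).mem_perp_iff.1 h))
  exact ⟨n, (sub F _ _).symm.trans h⟩

theorem rng' (e : s.1 a = a) : ∃ n, s.1 n + n = a := rng o k fun _ => uu k e

theorem prp (e : ∀ u, s.1 u = u → polar Q x u = 0) : s.1 x = x := let ⟨n, h⟩ := rng o k e; h ▸ fN k n

theorem ev : Even (finrank F (RU s.1)) := (si o k).even_of_alt fun v => by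
  have := alt k v
  rwa [polar_add_right, polar_self', CharTwo.two_eq_zero, zero_mul, add_zero] at this

theorem big (a : V) {S : Submodule F V} (l : finrank F S ≤ 2) : ∃ n, polar Q a n = 0 ∧ s.1 n + n ∉ S := by
  by_contra! h
  have w := isWittPair_quad Q o.nd
  let N : V →ₗ[F] V := (s.1 : End F V) - 1
  have e : perp (polarBilin Q) (RU s.1) = RU s.1 := le_antisymm (fun x m => by
    obtain ⟨n, h⟩ := rng' o k ((si o k).mem_perp_iff.1 m)
    exact ⟨n, (sub F _ _).trans h⟩) (si o k).le_perp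
  have h1 := w.finrank_perp (RU s.1)
  have h2 := w.finrank_perp (F ∙ a)
  have h3 : finrank F (F ∙ a) ≤ 1 := (finrank_span_le_card ({a} : Set V)).trans (by simp)
  have h4 := LinearMap.finrank_range_add_finrank_ker (N.domRestrict (perp (polarBilin Q) (F ∙ a)))
  have h5 : finrank F (LinearMap.range (N.domRestrict (perp (polarBilin Q) (F ∙ a)))) ≤ finrank F S :=
    Submodule.finrank_mono (by rintro _ ⟨y, rfl⟩; exact (sub F (s.1 y) y ▸ h y (mem_perp_singleton.1 y.2) : s.1 y - y ∈ S))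
  have h6 : finrank F (LinearMap.ker (N.domRestrict (perp (polarBilin Q) (F ∙ a)))) ≤ finrank F (RU s.1) := by
    rw [← Submodule.finrank_map_subtype_eq (perp _ _)]
    exact Submodule.finrank_mono (by rintro _ ⟨y, m, rfl⟩; exact e ▸ (si o k).mem_perp_iff.2 (sub_eq_zero.1 m))
  obtain ⟨j, h7⟩ := ev o k
  have := o.h6
  rw [e] at h1
  omega

theorem big2 (a x y : V) : ∃ n, polar Q a n = 0 ∧ ∀ c d : F, s.1 n + n ≠ c • x + d • y := by
  classical
  obtain ⟨n, h, m⟩ := big o k a (S := .span F {x, y}) ((finrank_span_le_card ({x, y} : Set V)).trans (by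
    rw [Set.toFinset_insert, Set.toFinset_singleton]; exact Finset.card_le_two))
  exact ⟨n, h, fun c d e => m (Submodule.mem_span_pair.2 ⟨c, d, e.symm⟩)⟩

/-- elements fixing the fixed space -/
theorem fix (e : ∀ u, s.1 u = u → g.1 u = u) : g * g = 1 ∧ g * s = s * g := by
  have h : ∀ x, s.1 (g.1 x + x) = g.1 x + x := fun x => prp o k fun u m => by
    rw [polar_add_left, ← OG_polar g x, e u m, CharTwo.add_self_eq_zero]
  refine ⟨ext fun x => ?_, ext fun x => ?_⟩
  · have := e _ (h x)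
    rwa [map_add, add_comm, add_right_inj] at this
  have := e _ (fN k x)
  have := h x
  rw [map_add] at *
  rw [mul_ap, mul_ap, eq_sub_of_add_eq ‹g.1 _ + _ = _›, eq_sub_of_add_eq this, sub F, sub F]
  abel

omit k in
theorem nd (e : x ≠ 0) : ∃ y, polar Q x y ≠ 0 := not_forall.1 fun h => e (o.nd.1 x h)

/-- transitivity on the fixed space -/
theorem tr (a0 : a ≠ 0) (e : s.1 a = a) (b0 : b ≠ 0) (f : s.1 b = b) : ∃ g ∈ 𝐂₁(s), g.1 a = b := by
  have h : ∀ n m, polar Q (s.1 n + n) m ≠ 0 → ∃ g ∈ 𝐂₁(s), g.1 (s.1 n + n) = s.1 m + m := fun n m p => by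
    refine ⟨ei Q (s.1 (n + m) + (n + m)) ((polar Q (s.1 n + n) m)⁻¹ • (n + m)),
      cN k (by rw [map_smul, ← smul_add]) (fN k _), ?_⟩
    rw [ei_ap (k.fx _ (fN k _)) (by rw [polar_smul_right, alt' k, smul_zero]), uu k (fN k _) (fN k _), polar_smul_left,
      polar_add_left _ n, alt k, polar_comm _ m, zero_add, smul_eq_mul, inv_mul_cancel₀ p, map_add, zero_smul, mul_zero, add_zero,
      add_zero, one_smul, add_add_add_comm _ (s.1 m), ← add_assoc, vv F, zero_add]
  obtain ⟨n, rfl⟩ := rng' o k e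
  obtain ⟨m, rfl⟩ := rng' o k f
  obtain ⟨y, p, p'⟩ : ∃ y, polar Q (s.1 n + n) y ≠ 0 ∧ polar Q (s.1 m + m) y ≠ 0 := by
    obtain ⟨x, p⟩ := nd o a0
    obtain ⟨y, p'⟩ := nd o b0
    by_contra! h
    refine p' ?_
    have := h (x + y) (by rw [polar_add_right, by_contra fun i => p' (h y i), add_zero]; exact p)
    rwa [polar_add_right, h x p, zero_add] at this
  obtain ⟨g, hg, i⟩ := h n y p
  obtain ⟨g', hg', i'⟩ := h y m (by rwa [adj k, polar_comm])
  exact ⟨g' * g, mul_mem hg' hg, by rw [mul_ap, i, i']⟩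

end M3

end CF.Dq
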