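import Cfsg.Agent.Dq.M3a

/-! Involutions of an orthogonal group fixing only singular vectors, part 2. -/

set_option autoImplicit false
set_option linter.unusedSectionVars false

namespace CF.Dq

open Cfsg Subgroup Equiv CF.Loc CF.LX CF.Geom QuadraticMap Module CF.Cls M3 M3.A
open CF.Dbl (El)

variable {F V : Type*} [Field F] [Finite F] [CharP F 2] [AddCommGroup V] [Module F V] [FiniteDimensional F V]
  {Q : QuadraticForm F V} {a b n m r u v x y : V} {c : F} {g s : OG Q} {H : Subgroup (OG Q)}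

namespace M3

theorem ei_one (c : F) : ei Q a (c • a) = 1 := by rw [← zero_add (c • a), ei_shift, ei_zero]

theorem cj0 (k : AT s) (e : s.1 a = a) (f : polar Q a n = 0) : ei Q a n * s * (ei Q a n)⁻¹ = s * ei Q a (s.1 n + n) := by
  have h := ei_cj s a n
  rw [e] at h
  rw [← ei_mul (k.fx a e) (by rw [← e, OG_polar, f]) f, ← h, inv_eq_of_mul_eq_one_right (ei_sq a n),
    inv_eq_of_mul_eq_one_right k.sq, ← mul_assoc, ← mul_assoc, ← mul_assoc, k.sq, one_mul]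

/-- the Siegel transformations `E(a, N n)` -/
def Bs (k : AT s) (e : s.1 a = a) : Subgroup (OG Q) where
  carrier := {g | ∃ n, polar Q a n = 0 ∧ g = ei Q a (s.1 n + n)}
  one_mem' := ⟨0, polar_zero_right _ _, by rw [map_zero, add_zero, ei_zero]⟩
  mul_mem' := by
    rintro _ _ ⟨n, h, rfl⟩ ⟨m, h', rfl⟩
    exact ⟨n + m, by rw [polar_add_right, h, h', add_zero], by
      rw [ei_mul (k.fx a e) (uu k e (fN k _)) (uu k e (fN k _)), map_add, add_add_add_comm]⟩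
  inv_mem' := by
    rintro _ ⟨n, h, rfl⟩
    exact ⟨n, h, inv_eq_of_mul_eq_one_right (ei_sq _ _)⟩

theorem qe (l : Qe Q a ≤ H) (m : g ∈ H) : Qe Q (g.1 a) ≤ H := (closure_le _).2 (by
  rintro _ ⟨y, rfl⟩
  have := H.mul_mem (H.mul_mem m (l (subset_closure ⟨g⁻¹.1 y, rfl⟩))) (H.inv_mem m)
  rwa [ei_cj, ← mul_ap, mul_inv_cancel] at this)

variable (o : Os Q) (k : AT s)
include o k

theorem ex0 : ∃ n, s.1 n + n ≠ 0 := let ⟨n, _, h⟩ := big2 o k 0 0 0; ⟨n, by simpa using h 0 0⟩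

theorem pr (e : s.1 m + m ≠ 0) : ∃ r, ∃ c : F, c ≠ 0 ∧ Pr Q (s.1 m + m) r ∧ s.1 r + r = c • (s.1 m + m) := by
  obtain ⟨b, f, h⟩ : ∃ b, s.1 b = b ∧ Q (m + b) ≠ 0 := by
    by_contra! h
    refine e (Nu k (prp o k fun u f => ?_))
    have := h u f
    rwa [quad_add, k.fx u f, ← add_zero m, h 0 (map_zero _), add_zero, zero_add, add_zero] at this
  obtain ⟨c, i⟩ := surjective_frobenius F 2 (Q (m + b))⁻¹
  rw [frobenius_def] at i
  refine ⟨c • (m + b), c, ?_, ⟨e, k.fx _ (fN k _), by rw [quad_smul, i, inv_mul_cancel₀ h], ?_⟩, ?_⟩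
  · rintro rfl
    exact inv_ne_zero h (i ▸ zero_pow two_ne_zero)
  · rw [polar_smul_right, polar_add_right, alt' k, uu k (fN k _) f, add_zero, smul_zero]
  rw [map_smul, ← smul_add, map_add, f, add_add_add_comm, vv F, add_zero]

theorem le {s₁ : OG Q} (k₁ : AT s₁) (l : ∀ g ∈ 𝐂₁(s₁), ∀ u, s.1 u = u → s.1 (g.1 u) = g.1 u) (e : s.1 u = u) : s₁.1 u = u := by
  obtain ⟨a, a0, f, f'⟩ : ∃ a, a ≠ 0 ∧ s.1 a = a ∧ s₁.1 a = a := by
    obtain ⟨n, h⟩ := ex0 o k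
    by_cases i : s₁.1 (s.1 n + n) + (s.1 n + n) = 0
    · exact ⟨_, h, fN k n, by rw [eq_neg_of_add_eq_zero_left i, neg_eq_iff_add_eq_zero, vv F]⟩
    · exact ⟨_, i, by rw [map_add, l s₁ (mem_c1.2 rfl) _ (fN k n), fN k], fN k₁ _⟩
  refine prp o k₁ fun b h => uu k e ?_
  by_cases b0 : b = 0
  · rw [b0, map_zero]
  obtain ⟨g, i, rfl⟩ := tr o k₁ a0 f' b0 h
  exact l g i a f

end M3

namespace Os
variable (o : Os Q)
include o

theorem at_perp (k : AT s) (e : ∀ u, s.1 u = u → polar Q x u = 0) : s.1 x = x := prp o k e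

theorem at_rng (k : AT s) (e : s.1 a = a) : ∃ n, s.1 n = n + a :=
  let ⟨n, h⟩ := rng' o k e; ⟨n, by rw [← h, add_comm, add_assoc, vv F, add_zero]⟩

theorem at_om (k : AT s) : s ∈ _root_.commutator (OG Q) := (mem_commutator_iff CharTwo.two_eq_zero o.nd o.rtop s).2 (ev o k)

theorem at_cj (k : AT s) (e : s.1 a = a) (f : polar Q a n = 0) : ei Q a n * s * (ei Q a n)⁻¹ = s * ei Q a (s.1 n + n) :=
  cj0 k e f

theorem at_big (k : AT s) : ∃ B : Subgroup (OG Q), Nat.card F < Nat.card B ∧ ∀ g ∈ B, g * s = s * g ∧ IsConj s (s * g) := by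
  have := fin Q
  obtain ⟨a, a0⟩ := ex0 o k
  have e := fN k a
  generalize s.1 a + a = a at a0 e
  obtain ⟨n, h, i⟩ := big2 o k a a a
  obtain ⟨m, h', i'⟩ := big2 o k a a (s.1 n + n)
  have j : ∀ {x y}, polar Q a x = 0 → polar Q a y = 0 → ei Q a (s.1 x + x) = ei Q a (s.1 y + y) →
      ∃ c : F, s.1 y + y = s.1 x + x + c • a := fun _ _ => o.ei_inj a0 (k.fx a e) (uu k e (fN k _)) (uu k e (fN k _))
  have p : ∀ c : F, polar Q a (c • n) = 0 := fun c => by rw [polar_smul_right, h, smul_zero]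
  refine ⟨Bs k e, ?_, ?_⟩
  · have := Fintype.ofFinite F
    have := Fintype.ofFinite (Bs k e)
    rw [Nat.card_eq_fintype_card, Nat.card_eq_fintype_card]
    refine Fintype.card_lt_of_injective_of_notMem (fun c : F => (⟨_, c • n, p c, rfl⟩ : Bs k e)) (b := ⟨_, m, h', rfl⟩)
      (fun c d f => by_contra fun z => ?_) fun ⟨c, f⟩ => ?_
    · obtain ⟨t, f⟩ := j (p c) (p d) (congrArg Subtype.val f)
      rw [map_smul, map_smul, ← smul_add, ← smul_add, ← sub_eq_iff_eq_add', ← sub_smul] at f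
      refine i ((d - c)⁻¹ * t) 0 ?_
      rw [zero_smul, add_zero, mul_smul, ← f, inv_smul_smul₀ (sub_ne_zero.2 (Ne.symm z))]
    · obtain ⟨t, f⟩ := j (p c) h' (congrArg Subtype.val f)
      exact i' t c (by rw [f, map_smul, ← smul_add, add_comm])
  rintro _ ⟨x, f, rfl⟩
  exact ⟨mem_c1.1 (cm (by rw [e, fN k])), isConj_iff.2 ⟨_, cj0 k e f⟩⟩

theorem wt_el (k : AT s) : El (Wt s) ∧ Wt s ≤ 𝐂₁(s) := by
  have h : ∀ g ∈ Wt s, ∀ u, s.1 u = u → g.1 u = u := fun g m => by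
    induction m using closure_induction with
    | mem g m => obtain ⟨a, b, e, f, rfl⟩ := m; exact fun u h => by rw [ap k e f, uu k e h, uu k f h]; simp
    | one => exact fun _ _ => rfl
    | mul g g' _ _ i i' => exact fun u h => by rw [mul_ap, i' u h, i u h]
    | inv g _ i => exact fun u h => by rw [← i u h, ← mul_ap, inv_mul_cancel, i u h]; rfl
  exact ⟨fun g m => (fix o k (h g m)).1, fun g m => mem_c1.2 (fix o k (h g m)).2⟩

theorem at_cw (k : AT s) (p : Pr Q v r) : ei Q v r ∉ 𝐂(Wt s) := fun h => by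
  have j : ∀ a, s.1 a = a → ∃ b, s.1 b = b ∧ (∀ c d : F, b ≠ c • a + d • v) ∧ ∃ l c : F,
      v + polar Q a v • b + polar Q b v • a = l • v ∧ l • (r + polar Q a r • b + polar Q b r • a) = r + c • v := fun a e => by
    obtain ⟨n, -, i⟩ := big2 o k 0 a v
    have := LX.conj_eq_iff.2 (h _ (subset_closure ⟨a, _, e, fN k n, rfl⟩))
    rw [ei_cj] at this
    obtain ⟨-, -, l, c, -, f, f'⟩ := o.ei_eq p.v0 p.qv p.vr (p.qr ▸ one_ne_zero) this
    exact ⟨_, fN k n, i, l, c, ap k e (fN k n) v ▸ f, ap k e (fN k n) r ▸ f'⟩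
  have z : ∀ {t d d' : F} {a b : V}, (∀ c d : F, b ≠ c • a + d • v) → t • b + d • a = d' • v → t = 0 := fun {t d d' a b} i f =>
    by_contra fun t0 => i (-(t⁻¹ * d)) (t⁻¹ * d') (by
      rw [mul_smul, ← f, smul_add, inv_smul_smul₀ t0, neg_smul, mul_smul]; abel)
  have h1 : ∀ a, s.1 a = a → polar Q a v = 0 := fun a e => by
    obtain ⟨b, -, i, l, -, f, -⟩ := j a e
    exact z (d := polar Q b v) (d' := l - 1) i (by rw [sub_smul, ← f, one_smul]; abel)
  refine one_ne_zero (p.qr.symm.trans (k.fx r (prp o k fun a e => (polar_comm _ _ _).trans ?_)))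
  obtain ⟨b, m, i, l, c, f, f'⟩ := j a e
  rw [h1 a e, h1 b m, zero_smul, zero_smul, add_zero, add_zero] at f
  obtain rfl : 1 = l := smul_left_injective F p.v0 ((one_smul F v).trans f)
  rw [one_smul, add_assoc, add_right_inj] at f'
  exact z i f'

theorem at_fix (k : AT s) {T : Type*} [Group T] (two : IsPGroup 2 T) (ψ : T →* Perm V) (l : ∀ i, ∃ θ, So Q θ (ψ i))
    (e : ∀ i x, ψ i (s.1 x) = s.1 (ψ i x)) : ∃ a n, a ≠ 0 ∧ s.1 a = a ∧ polar Q a n = 0 ∧ (∀ c : F, s.1 n + n ≠ c • a) ∧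
      ∀ i, ei Q (ψ i a) (ψ i (s.1 n + n)) = ei Q a (s.1 n + n) := by
  have := fin Q
  have := Module.finite_of_finite F (M := V)
  obtain ⟨a, a0, f, h⟩ : ∃ a, a ≠ 0 ∧ s.1 a = a ∧ ∀ i, ψ i a = a := by
    let U : AddSubgroup V := (s.1 : V →+ V).eqLocus (.id V)
    let _ : MulAction T U :=
      { smul i u := ⟨ψ i u, (e i u).symm.trans (congrArg _ u.2)⟩
        one_smul u := Subtype.ext (by change ψ 1 u = u; rw [map_one]; rfl)
        mul_smul i j u := Subtype.ext (by change ψ (i * j) u = ψ i (ψ j u); rw [map_mul]; rfl) }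
    obtain ⟨n, h⟩ := ex0 o k
    obtain ⟨b, m, b0⟩ := two.exists_fixed_point_of_prime_dvd_card_of_fixed_point U (a := 0)
      (addOrderOf_eq_prime (p := 2) (x := (⟨_, fN k n⟩ : U)) (Subtype.ext ((two_nsmul _).trans (vv F _)))
        (mt (congrArg Subtype.val) h) ▸ addOrderOf_dvd_natCard _) fun i => Subtype.ext (let ⟨_, k⟩ := l i; k.zero)
    exact ⟨b, fun z => b0 (Subtype.ext z.symm), b.2, fun i => congrArg Subtype.val (m i)⟩
  let ι : OG Q →* Perm V := MulAction.toPermHom _ _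
  have cj : ∀ i y, ψ i * ι (ei Q a y) * (ψ i)⁻¹ = ι (ei Q (ψ i a) (ψ i y)) := fun i y =>
    mul_inv_eq_of_eq_mul (Equiv.ext fun x => let ⟨_, k⟩ := l i; (k.ei a y x).symm)
  obtain ⟨n, p, i⟩ := big2 o k a a a
  have inj : Function.Injective ι := fun _ _ e => ext fun x => congrArg (fun π : Perm V => π x) e
  obtain ⟨⟨_, ⟨_, ⟨m, p', rfl⟩, rfl⟩, z⟩, z1⟩ := ne_bot_iff_exists_ne_one.1 (inf_centralizer_ne_bot (p := 2) (Q := (Bs k f).map ι)
    (T := ψ.range) (IsPGroup.map (H := Bs k f) (fun g => ⟨1, Subtype.ext (let ⟨_, _, z⟩ := g.2; (sq g.1).trans (z ▸ ei_sq _ _))⟩) _) (two.of_surjective _ ψ.rangeRestrict_surjective)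
    (by
      rintro _ ⟨i, rfl⟩
      refine mem_normalizer_of_conj_mem ?_
      rintro _ ⟨_, ⟨m, p', rfl⟩, rfl⟩
      obtain ⟨θ, t⟩ := l i
      exact ⟨_, ⟨ψ i m, by rw [← h i, t.pol, p', map_zero], rfl⟩, by rw [cj, h, t.add, e]⟩)
    (by
      rw [Ne, map_eq_bot_iff_of_injective _ inj, eq_bot_iff_forall]
      intro z
      obtain ⟨c, t⟩ := o.ei_inj a0 (k.fx a f) (polar_zero_right _ _) (uu k f (fN k n))
        ((ei_zero a).trans (z _ ⟨n, p, rfl⟩).symm)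
      exact i c 0 (by rw [t, zero_add, zero_smul, add_zero])))
  refine ⟨a, m, a0, f, p', fun c t => z1 (Subtype.ext ?_), fun i => inj ((cj i _).symm.trans
    (LX.conj_eq_iff.2 (z _ ⟨i, rfl⟩)))⟩
  change ι (ei Q a _) = 1
  rw [t, ei_one, map_one]

theorem at_c2 (k : AT s) : ∃ v r v' r', Pr Q v r ∧ Pr Q v' r' ∧ ei Q v r ∈ 𝐂₁(s) ∧ ei Q v' r' ∈ 𝐂₁(s) ∧
    ei Q v r * ei Q v' r' ≠ ei Q v' r' * ei Q v r := by
  obtain ⟨n, n0⟩ := ex0 o k
  obtain ⟨m, h⟩ := M3.nd o n0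
  rw [adj k] at h
  obtain ⟨r, c, -, p, e⟩ := pr o k n0
  obtain ⟨r', c', c0, p', e'⟩ := pr o k (m := m) (by rintro z; simp [z] at h)
  refine ⟨_, r, _, r', p, p', cN k e (fN k _), cN k e' (fN k _), fun z => ?_⟩
  have := LX.conj_eq_iff.2 z.symm
  rw [ei_cj] at this
  obtain ⟨-, -, l, -, -, f, -⟩ := o.ei_eq p.v0 p.qv p.vr (p.qr ▸ one_ne_zero) this
  replace f := congrArg (polar Q n) f
  rw [ei_ap p'.qv p'.vr, uu k (fN k _) (fN k _), ← adj k r', e', zero_smul, mul_zero, add_zero, add_zero, polar_add_right _ n (_ + _),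
    polar_smul_right, polar_smul_right, polar_smul_left, alt k, polar_comm _ _ n, smul_zero, zero_add] at f
  exact mul_ne_zero (mul_ne_zero c0 h) h f

theorem at_comm (k : AT s) {s₁ s₂ : OG Q} (k₁ : AT s₁) (k₂ : AT s₂) (l : ∀ g ∈ 𝐂₁(s₁) ⊔ 𝐂₁(s₂), ∀ u, s.1 u = u → s.1 (g.1 u) = g.1 u) :
    s₁ * s₂ = s₂ * s₁ := by
  have h := (fix o k (g := s₁ * s₂) fun u e => by
    rw [mul_ap, le o k k₂ (fun g m => l g (mem_sup_right m)) e, le o k k₁ (fun g m => l g (mem_sup_left m)) e]).1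
  rw [← inv_eq_of_mul_eq_one_right h, mul_inv_rev, inv_eq_of_mul_eq_one_right k₁.sq, inv_eq_of_mul_eq_one_right k₂.sq]

end Os

end CF.Dq
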