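import Cfsg.Agent.Dq.M1

/-! Identification of the orthogonal group. -/

set_option autoImplicit false
set_option linter.unusedSectionVars false

namespace CF.Dq

open Cfsg Subgroup CF.Geom QuadraticMap Module

variable {F V : Type*} [Field F] [Finite F] [CharP F 2] [AddCommGroup V] [Module F V] [FiniteDimensional F V]
  {Q : QuadraticForm F V}

theorem M4.iso (o : Os Q) {ι : Type} [Fintype ι] [DecidableEq ι] {Q' : QuadraticForm F (ι → F)} (g : V ≃ₗ[F] (ι → F))
    (e : ∀ v, Q' (g v) = Q v) : Nonempty (_root_.commutator (OG Q) ≃* POmega F Q') := by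
  have s := o.simple
  let f : _root_.commutator (OG Q) ≃* Omega F Q' := (((ogCongr g e).subgroupMap _).trans (MulEquiv.subgroupCongr (by
    rw [map_commutator_eq, MonoidHom.range_eq_top.2 (ogCongr g e).surjective]; rfl))).trans (omegaEquiv Q').symm
  have s' := f.symm.isSimpleGroup
  refine ⟨f.trans (QuotientGroup.quotientBot.symm.trans (QuotientGroup.quotientMulEquivOfEq
    ((s'.eq_bot_or_eq_top_of_normal _ inferInstance).resolve_right fun z => ?_).symm))⟩
  have := commutator_omega_eq_top o.nd (o.h6.trans' (by decide))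
  refine top_ne_bot (this.symm.trans ((eq_bot_iff_forall _).2 fun x m => ?_))
  refine ((commutator_eq_bot_iff_le_centralizer.2 fun a _ b _ => f.injective ?_).le m)
  rw [map_mul, map_mul]
  exact mem_center_iff.1 (z.ge trivial) _

theorem Os.iso (o : Os Q) {k : ℕ} (e : finrank F V = 2 * k + 2) [Fintype F] :
    Nonempty (_root_.commutator (OG Q) ≃* POmega F (quadFormPlus (k + 1) F)) ∨
      ∃ a b : F, (∀ z₁ z₂ : F, z₁ ^ 2 + a * z₁ * z₂ + b * z₂ ^ 2 = 0 → z₁ = 0 ∧ z₂ = 0) ∧
        Nonempty (_root_.commutator (OG Q) ≃* POmega F (quadFormMinus k F a b)) := by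
  by_cases p : IsPlus Q
  · obtain ⟨g, h⟩ := p.exists_equiv_qPlus o.nd (m := k + 1) e
    exact .inl (M4.iso o g h)
  obtain ⟨z, h, -⟩ := exists_elliptic_frame o.nd e p
  obtain ⟨g, h'⟩ := exists_equiv_qMinus o.nd p e (aniso_iff_no_root.2 h)
  exact .inr ⟨1, z, aniso_iff_no_root.2 h, M4.iso o g h'⟩

end CF.Dq
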