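import Cfsg.Agent.Dq.P1
import Cfsg.Agent.Dq.M1
import Cfsg.Agent.Ud.C1

/-! The orthogonal model of the symplectic group. -/

set_option autoImplicit false
set_option linter.unusedSectionVars false
set_option linter.unusedVariables false

namespace CF.Dq

open Subgroup Equiv CF.Loc CF.LX CF.Geom QuadraticMap Module CF.Ud
open CF.Dbl (El)
open scoped commutatorElement

variable {F : Type} [Field F] [Fintype F] [CharP F 2] {m : ℕ} {θ : F ≃+* F} {a b c κ δ : F}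
  {g ξ : Perm (Fin m → F)} {u v x y w u' v' : Fin m → F} {ι : SU (1 : F ≃+* F) m →* OG (Qh m κ)} {k : OG (Qh m κ)}

namespace M5

theorem mem_O1 : g ∈ O1 F m ↔ ∃ k ∈ _root_.commutator (OG (Q0 F m)), ∀ x, g x = k.1 x :=
  ⟨fun ⟨k, i, e⟩ => ⟨k, i, fun x => by rw [← e]; rfl⟩, fun ⟨k, i, e⟩ => ⟨k, i, Equiv.ext fun x => (e x).symm⟩⟩

theorem of_O1 {k : OG (Q0 F m)} (i : k ∈ _root_.commutator (OG (Q0 F m))) : k.1.toEquiv ∈ O1 F m := mem_O1.2 ⟨k, i, fun _ => rfl⟩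

variable (m κ) in
/-- the stabiliser of the vector `r` -/
def Kr : Subgroup (OG (Qh m κ)) where
  carrier := {k | k.1 (0, 1, 0) = (0, 1, 0)}
  mul_mem' := fun {g k} a b => by change g.1 (k.1 _) = _; rw [b, a]
  one_mem' := rfl
  inv_mem' := fun {g} a => g.1.injective (by rw [a]; exact g.1.apply_symm_apply _)

theorem prr (x : Fin m → F) (a b : F) : polar (Qh m κ) (x, a, b) (0, 1, 0) = b := by simp [Qh_pol]

theorem kr0 (i : k ∈ Kr m κ) (x : Fin m → F) : ∃ a, k.1 (x, 0, 0) = ((k.1 (x, 0, 0)).1, a, 0) := by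
  have := k.2.1 (x, 0, 0) (0, 1, 0)
  rw [show k.1 (0, 1, 0) = _ from i] at this
  exact ⟨_, Prod.ext rfl (Prod.ext rfl ((prr ..).symm.trans (this.trans (prr ..))))⟩

theorem kr1 (i : k ∈ Kr m κ) (x : Fin m → F) (a : F) : (k.1 (x, a, 0)).1 = (k.1 (x, 0, 0)).1 := by
  rw [show ((x, a, 0) : _ × F × F) = (x, 0, 0) + a • (0, 1, 0) by simp, map_add, map_smul, show k.1 (0, 1, 0) = _ from i]; simp

theorem kr2 {k k' : OG (Qh m κ)} (i : k ∈ Kr m κ) (i' : k' ∈ Kr m κ) (x : Fin m → F) :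
    (k.1 ((k'.1 (x, 0, 0)).1, 0, 0)).1 = ((k * k').1 (x, 0, 0)).1 := by
  obtain ⟨a, e⟩ := kr0 i' x
  rw [og_mul, ← kr1 i _ a, ← e]

variable (m κ) in
/-- the action on the quotient of the perp of `r` -/
noncomputable def pj : Kr m κ →* Perm (Fin m → F) where
  toFun k := ⟨fun x => (k.1.1 (x, 0, 0)).1, fun x => (k⁻¹.1.1 (x, 0, 0)).1,
    fun x => (kr2 k⁻¹.2 k.2 x).trans (by simp), fun x => (kr2 k.2 k⁻¹.2 x).trans (by simp)⟩
  map_one' := rfl
  map_mul' k k' := Equiv.ext fun x => (kr2 k.2 k'.2 x).symm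

theorem pj_ap (k : Kr m κ) (x : Fin m → F) : pj m κ k x = (k.1.1 (x, 0, 0)).1 := rfl

/-- extension by the identity -/
def xt (κ : F) : OG (Q0 F m) →* OG (Qh m κ) where
  toFun k := ⟨k.1.prodCongr (LinearEquiv.refl F _), fun ⟨x, a, b⟩ ⟨y, c, d⟩ => by
    have := k.2.1 x y
    simp only [polarBilin_apply_apply] at this
    simp [Qh_pol, this], fun ⟨x, a, b⟩ => by simp [Qh_ap, k.2.2]⟩
  map_one' := rfl
  map_mul' _ _ := rfl

theorem q1 (e : Q0 F m w + c * c = 1) : Qh m κ (w, c, 0) = 1 := by simpa [Qh_ap] using e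

theorem refl_K (w : Fin m → F) (c : F) : oRefl (Qh m κ) (w, c, 0) ∈ Kr m κ := by
  change _ = _; rw [refl_ap, prr]; simp

end M5

open M5

namespace Sm
variable (s : Sm F m)
include s

theorem hpol (x y : Fin m → F) (a b c d : F) : polar (Qh m κ) (x, a, b) (y, c, d) = hf 1 x y + a * d + b * c := by
  rw [Qh_pol, s.pol]

theorem os (κ : F) : Os (Qh m κ) := by
  have : ∀ x, (∀ y, polar (Qh m κ) x y = 0) → x = 0 := fun ⟨x, a, b⟩ h => by
    have h1 := h (0, 0, 1)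
    have h2 := h (0, 1, 0)
    have h3 : x = 0 := hf_ext (σ := 1) fun y => by simpa [s.hpol] using h (y, 0, 0)
    simp only [s.hpol, hf_zero_r] at h1 h2
    simp at h1 h2
    rw [h1, h2, h3]; rfl
  exact ⟨⟨this, fun x h => this x fun y => pol_sw (h y)⟩, by have := s.h4; simp; omega⟩

theorem rtop0 : reflSub (Q0 F m) = ⊤ := reflSub_eq_top s.nd0 (by
  by_cases e : m = 4
  · exact .inl (exists_ne_zero_ne_one_of_card (s.ex e).ne')
  · exact .inr (by simpa))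

theorem om0 (h : Q0 F m x ≠ 0) (k : OG (Q0 F m)) :
    k ∈ _root_.commutator (OG (Q0 F m)) ∨ oRefl (Q0 F m) x * k ∈ _root_.commutator (OG (Q0 F m)) := by
  rw [Cls.mem_commutator_iff CharTwo.two_eq_zero s.nd0 s.rtop0, Cls.mem_commutator_iff CharTwo.two_eq_zero s.nd0 s.rtop0]
  have := Cls.finrank_RU_oRefl_mul s.nd0 h k
  grind

theorem og_sem (k : OG (Q0 F m)) : Sem 1 1 k.1.toEquiv :=
  ⟨k.1.map_add, k.1.map_smul, fun x y => (s.pol ..).symm.trans ((k.2.1 x y).trans (s.pol ..)), fun _ => rfl⟩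

theorem O1_le : O1 F m ≤ SU 1 m := fun _ ⟨k, _, e⟩ => e ▸ s.mem_SU (s.og_sem k)

theorem O1_q (i : g ∈ O1 F m) (x : Fin m → F) : Q0 F m (g x) = Q0 F m x := by
  obtain ⟨k, -, e⟩ := mem_O1.1 i
  rw [e, k.2.2]

theorem O1_cj (l : Sem 1 θ ξ) (e : ∀ x i, ξ x i = θ (x i)) (i : g ∈ O1 F m) : ξ * g * ξ⁻¹ ∈ O1 F m := by
  have so : So (Q0 F m) θ ξ := ⟨l.add, l.smul, fun x => by
    simp only [Q0_ap, map_sum, e]
    exact Finset.sum_congr rfl fun i _ => by split_ifs <;> simp⟩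
  have : cj[ξ] (O1 F m) ≤ O1 F m := by
    rw [O1, _root_.commutator_def, map_commutator, cj_commutator]
    have : cj[ξ] (map ((MulAction.toPermHom _ _).comp (OG (Q0 F m)).subtype) ⊤) ≤
        map ((MulAction.toPermHom _ _).comp (OG (Q0 F m)).subtype) ⊤ := cj_le_iff_forall.2 (by
      rintro _ ⟨k, -, rfl⟩
      obtain ⟨k', f⟩ := so.ex k
      refine ⟨k', trivial, Equiv.ext fun x => ?_⟩
      obtain ⟨x, rfl⟩ := ξ.surjective x
      simpa using f x)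
    exact commutator_mono this this
  exact this (conj_mem_cj ξ i)

theorem O1_tr (u0 : u ≠ 0) (hu : Q0 F m u = 0) (v0 : v ≠ 0) (hv : Q0 F m v = 0) : ∃ g ∈ O1 F m, g u = v := by
  have wp := isWittPair_quad _ s.nd0
  obtain ⟨g, i, e⟩ := wp.exists_isom_vec u0 v0 (hv.trans hu.symm)
  obtain ⟨f, hf, ef⟩ := wp.exists_hyperbolic v0 (by simpa using hv)
  obtain ⟨z, z0, z1, -⟩ := exists_nonsingular_perp_hyp s.nd0 (by have := s.h4; simp; omega) hv (by simpa using hf) ef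
  rcases s.om0 z0 ⟨g, i⟩ with j | j
  · exact ⟨_, of_O1 j, e⟩
  · exact ⟨_, of_O1 j, (congrArg _ e).trans (oRefl_of_polar_eq_zero (pol_sw z1))⟩

theorem O1_tr2 (hu : u ∈ Vf F m (m / 2)) (hv : v ∈ Vf F m (m / 2)) (hu' : u' ∈ Vf F m (m / 2)) (hv' : v' ∈ Vf F m (m / 2))
    (l : LinearIndependent F ![u, v]) (l' : LinearIndependent F ![u', v']) : ∃ g ∈ O1 F m, g u = u' ∧ g v = v' := by
  have wp := isWittPair_quad _ s.nd0
  have p : ∀ {x y}, x ∈ Vf F m (m / 2) → y ∈ Vf F m (m / 2) → polar (Q0 F m) x y = 0 := fun a b => by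
    rw [s.pol, hf_Vf a b (by omega)]
  obtain ⟨g, i, e, e'⟩ := wp.exists_isom_pair l l' (by rw [s.q0_Vf hu, s.q0_Vf hu']) (by rw [s.q0_Vf hv, s.q0_Vf hv'])
    ((p hu' hv').trans (p hu hv).symm)
  by_cases m4 : m = 4
  · have sp : ∀ {x y}, x ∈ Vf F m (m / 2) → y ∈ Vf F m (m / 2) → LinearIndependent F ![x, y] →
        Vf F m (m / 2) = Submodule.span F {x, y} := fun a b c => (Submodule.eq_of_le_of_finrank_eq
      (Submodule.span_le.2 (Set.pair_subset a b)) (by rw [finrank_span_pair c, Vf_dim (by omega), m4])).symm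
    have mx : MaxTS (Q0 F m) (Vf F m (m / 2)) := ⟨by rw [Vf_dim (by omega), m4]; simp, fun _ => s.q0_Vf⟩
    refine ⟨_, of_O1 ((Cls.mem_commutator_iff_maxTS CharTwo.two_eq_zero s.nd0 s.rtop0 mx ⟨g, i⟩).2 ?_), e, e'⟩
    have : (Vf F m (m / 2)).map (g : _ →ₗ[F] _) = Vf F m (m / 2) := by
      conv_lhs => rw [sp hu hv l, Submodule.map_span, Set.image_pair]
      rw [sp hu' hv' l', ← e, ← e']; rfl
    rw [this, inf_idem, Nat.sub_self]; exact .zero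
  obtain ⟨z, z0, z1, z2⟩ := exists_nonsingular_perp_pair s.nd0 (by simpa) (s.q0_Vf hu') (s.q0_Vf hv') (p hu' hv') l'
  rcases s.om0 z0 ⟨g, i⟩ with j | j
  · exact ⟨_, of_O1 j, e, e'⟩
  · exact ⟨_, of_O1 j, (congrArg _ e).trans (oRefl_of_polar_eq_zero (pol_sw z1)),
      (congrArg _ e').trans (oRefl_of_polar_eq_zero (pol_sw z2))⟩

theorem pj_SU (k : Kr m κ) : pj m κ k ∈ SU 1 m := by
  refine s.mem_SU ⟨fun x y => ?_, fun c x => ?_, fun x y => ?_, fun _ => rfl⟩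
  · simp only [pj_ap, ← Prod.fst_add, ← map_add]; simp
  · simp only [pj_ap, ← Prod.smul_fst, ← map_smul]; simp
  · obtain ⟨a, e⟩ := kr0 k.2 x
    obtain ⟨b, e'⟩ := kr0 k.2 y
    have := k.1.2.1 (x, 0, 0) (y, 0, 0)
    rw [e, e'] at this
    simpa [s.hpol, pj_ap] using this

theorem pj_refl (e : Q0 F m w + c * c = 1) : pj m κ ⟨_, refl_K w c⟩ = E 1 w 0 1 := Equiv.ext fun x => by
  rw [pj_ap, refl_ap, q1 e, E_ap (s.ok (by simp) 1), s.hpol, hf_comm w]; simp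

theorem pj_ker (i : k ∈ Kr m κ) (j : k ∈ _root_.commutator (OG (Qh m κ))) (e : ∀ x, (k.1 (x, 0, 0)).1 = x) : k = 1 := by
  have e1 : ∀ x, k.1 (x, 0, 0) = (x, 0, 0) := fun x => by
    obtain ⟨a, f⟩ := kr0 i x
    have := k.2.2 (x, 0, 0)
    rw [f, e] at this
    have : a = 0 := by simpa [Qh_ap] using this
    rw [f, e, this]
  obtain ⟨⟨y, c, d⟩, e2⟩ : ∃ z, k.1 (0, 0, 1) = z := ⟨_, rfl⟩
  have y0 : y = 0 := hf_ext (σ := 1) fun x => by
    have := k.2.1 (0, 0, 1) (x, 0, 0)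
    rw [e1, e2] at this
    simpa [s.hpol] using this
  have d1 : d = 1 := by
    have := k.2.1 (0, 0, 1) (0, 1, 0)
    rw [show k.1 (0, 1, 0) = _ from i, e2] at this
    simpa [s.hpol] using this
  subst y0 d1
  have c1 : c * (c + 1) = 0 := by
    have := k.2.2 (0, 0, 1)
    rw [e2] at this
    simpa [Qh_ap] using this
  have ap : ∀ x a b, k.1 (x, a, b) = (x, a + b * c, b) := fun x a b => by
    rw [show ((x, a, b) : _ × F × F) = (x, 0, 0) + a • (0, 1, 0) + b • (0, 0, 1) by simp, map_add, map_add, map_smul, map_smul, e1, e2,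
      show k.1 (0, 1, 0) = _ from i]; simp
  rcases mul_eq_zero.1 c1 with c0 | c0
  · exact og_ext fun ⟨x, a, b⟩ => by simp [ap, c0]
  · have r1 : Qh m κ (0, 1, 0) = 1 := q1 (by simp)
    refine ((s.os κ).refl_nm (x := (0, 1, 0)) (by simp [r1]) ?_).elim
    have : k = oRefl (Qh m κ) (0, 1, 0) := og_ext fun ⟨x, a, b⟩ => by
      rw [ap, refl_ap, r1, polar_comm, prr, show c = 1 by grind]; simp
    exact this ▸ j

theorem ex_io (κ : F) : ∃ ι, Io (m := m) κ ι := by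
  have o := s.os (m := m) κ
  have r1 : Qh m κ (0, 1, 0) = 1 := q1 (by simp)
  have r0 : Qh m κ (0, 1, 0) ≠ 0 := by simp [r1]
  let K0 := (_root_.commutator (OG (Qh m κ))).subgroupOf (Kr m κ)
  let π : K0 →* SU (1 : F ≃+* F) m := ((pj m κ).comp K0.subtype).codRestrict _ fun k => s.pj_SU k.1
  have rr : ∀ w c, Q0 F m w + c * c = 1 → oRefl (Qh m κ) (w, c, 0) * oRefl (Qh m κ) (0, 1, 0) ∈ _root_.commutator (OG (Qh m κ)) :=
    fun w c e => (o.refl_om r0 _).resolve_left (o.refl_nm (by simp [q1 e]))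
  have ra : ∀ w c, Q0 F m w + c * c = 1 → pj m κ (⟨_, refl_K w c⟩ * ⟨_, refl_K 0 1⟩) = E 1 w 0 1 := fun w c e => by
    rw [map_mul, s.pj_refl e, s.pj_refl (by simp), E_zero_v, mul_one]
  have bi : Function.Bijective π := by
    refine ⟨(injective_iff_map_eq_one π).2 fun k e => Subtype.ext (Subtype.ext (s.pj_ker k.1.2 k.2 fun x =>
      congrArg (fun g : SU (1 : F ≃+* F) m => g.1 x) e)), fun ⟨g, i⟩ => ?_⟩
    have : SU (1 : F ≃+* F) m ≤ ((pj m κ).comp K0.subtype).range := SU_iso iv1 fun v a _ _ => by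
      obtain ⟨d, rfl⟩ := ex_rt a
      obtain ⟨c, e⟩ := ex_rt (1 + Q0 F m (d • v))
      have e : Q0 F m (d • v) + c * c = 1 := by grind
      refine ⟨⟨(⟨_, refl_K (d • v) c⟩ * ⟨_, refl_K 0 1⟩ : Kr m κ), rr _ _ e⟩, ?_⟩
      refine (ra _ _ e).trans ?_
      simp [tv_smul iv1 (s.iso v) (a := 1) rfl]
    obtain ⟨k, e⟩ := this i
    exact ⟨k, Subtype.ext e⟩
  let ε := MulEquiv.ofBijective π bi
  let ι := ((Kr m κ).subtype.comp K0.subtype).comp ε.symm.toMonoidHom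
  have uq : ∀ k ∈ _root_.commutator (OG (Qh m κ)), k.1 (0, 1, 0) = (0, 1, 0) → ∀ g : SU (1 : F ≃+* F) m,
      (∀ x, (k.1 (x, 0, 0)).1 = g.1 x) → k = ι g := fun k i j g e => by
    have : ε ⟨⟨k, j⟩, i⟩ = g := Subtype.ext (Equiv.ext e)
    rw [← this]
    exact (congrArg (fun k : K0 => k.1.1) (ε.symm_apply_apply ⟨⟨k, j⟩, i⟩)).symm
  refine ⟨ι, fun g => (ε.symm g).2, fun g => (ε.symm g).1.2, fun g x => ?_, uq, fun k i => ?_, fun w c e => ?_, fun g i x a b => ?_⟩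
  · exact congrArg (fun g : SU (1 : F ≃+* F) m => g.1 x) (ε.apply_symm_apply g)
  · rcases o.refl_om r0 k with j | j
    · exact ⟨⟨_, s.pj_SU ⟨k, i⟩⟩, .inl (uq k j i _ fun _ => rfl)⟩
    · have i' := mul_mem i (refl_K (κ := κ) 0 1)
      exact ⟨⟨_, s.pj_SU ⟨_, i'⟩⟩, .inr (by rw [← uq _ j i' _ fun _ => rfl, mul_assoc, oRefl_mul_self, mul_one])⟩
  · rw [up_eq (tv_SU w 1)]
    exact (uq _ (rr w c e) (mul_mem (refl_K w c) (refl_K 0 1)) _ fun x => congrArg (· x) (ra w c e)).symm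
  · obtain ⟨k, j, e⟩ := mem_O1.1 i
    have : xt κ k ∈ _root_.commutator (OG (Qh m κ)) := by
      have := mem_map_of_mem (xt κ) j
      rw [_root_.commutator_def, map_commutator] at this
      exact commutator_mono le_top le_top this
    rw [up_eq (s.O1_le i), ← uq _ this (Prod.ext k.1.map_zero rfl) ⟨g, s.O1_le i⟩ fun x => (e x).symm, e]; rfl

theorem io_E (k : Io κ ι) (hu : Q0 F m u + a * a = 0) (e : hf 1 v u = 0) (b : F) :
    up ι (E 1 u v (Q0 F m v + b * b)) = ei (Qh m κ) (u, a, 0) (v, b, 0) := by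
  have h1 : Qh m κ (u, a, 0) = 0 := by simpa [Qh_ap] using hu
  have h2 : polar (Qh m κ) (u, a, 0) (v, b, 0) = 0 := by simp [s.hpol, hf_comm u, e]
  rw [up_eq (s.mem_SU (E_sem ..))]
  refine (k.uq _ ((s.os κ).ei_om _ _) (ei_fix (prr ..) (prr ..)) _ fun x => ?_).symm
  rw [ei_ap h1 h2, E_ap (s.ok e _)]
  simp [s.hpol, Qh_ap, hf_comm x]

theorem nn_ap (hu : Q0 F m u = 0) (x : Fin m → F) (a b : F) : (ei (Qh m κ) (u, 0, 0) (0, 0, δ)).1 (x, a, b) =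
    (x + (δ * a + κ * (δ * δ) * hf 1 u x) • u, a, b + hf 1 u x * δ) := by
  rw [ei_ap (by simpa [Qh_ap] using hu) (by simp [s.hpol])]
  simp [s.hpol, Qh_ap]

theorem ml (hu : Q0 F m u = 0) (δ : F) : ∃ β : Y 1 u →* Perm (Fin m → F), (∀ g, β g ∈ Ud.SU 1 m) ∧ (∀ w c, hf 1 w u = 0 → c * c = 1 + Q0 F m w →
    up β (E 1 w 0 1) = E 1 (w + (δ * c) • u) 0 1 * E 1 u 0 (δ * δ)) ∧ ∀ g ∈ O1 F m, g u = u → up β g = g := by
  obtain ⟨ι, k⟩ := s.ex_io (0 : F)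
  set n := ei (Qh m 0) (u, 0, 0) (0, 0, δ) with hn
  have l : Y 1 u ≤ SU (1 : F ≃+* F) m := inf_le_left
  have fu : ∀ g : Y 1 u, (ι (inclusion l g)).1 (u, 0, 0) = (u, 0, 0) := fun g => by
    obtain ⟨a, f⟩ := kr0 (k.fx (inclusion l g)) u
    have := (ι (inclusion l g)).2.2 (u, 0, 0)
    rw [k.ap, show (inclusion l g).1 u = u from g.2.2] at f
    rw [f] at this
    have : a = 0 := by simpa [Qh_ap] using this
    rw [f, this]
  have nr : n.1 (0, 1, 0) = (0, 1, 0) + δ • (u, 0, 0) := by simp [hn, s.nn_ap hu]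
  let f := ((MulAut.conj n).toMonoidHom.comp ι).comp (inclusion l)
  have fK : ∀ g, f g ∈ Kr m 0 := fun g => by
    change n.1 ((ι (inclusion l g)).1 (n⁻¹.1 _)) = _
    rw [hn, ei_inv, ← hn, nr, map_add, map_smul, k.fx, fu, ← nr, ← og_mul, ei_sq, og_one]
  refine ⟨(pj m 0).comp (f.codRestrict _ fK), fun g => s.pj_SU _, fun w c e1 e2 => ?_, fun g i e => ?_⟩
  · have y : E 1 w 0 1 ∈ Y 1 u := ⟨tv_SU _ _, E_fix (hf_comm u w ▸ e1) (by simp) 1⟩
    have e3 : Q0 F m w + c * c = 1 := by grind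
    have e4 : Q0 F m (w + (δ * c) • u) + c * c = 1 := by simpa [quad_add, quad_smul, hu, s.pol, e1] using e3
    have e5 : Q0 F m (δ • u) + 1 * 1 = 1 := by simp [quad_smul, hu]
    have : f.codRestrict _ fK ⟨_, y⟩ = ⟨_, refl_K (w + (δ * c) • u) c⟩ * ⟨_, refl_K (δ • u) 1⟩ := Subtype.ext (by
      change n * ι ⟨_, l y⟩ * n⁻¹ = _ * _
      rw [← up_eq, k.tv w c e3, conj_mul_conj, conj_oRefl, conj_oRefl, hn, s.nn_ap hu, s.nn_ap hu]
      simp [hf_comm u, e1])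
    rw [up_eq y, MonoidHom.comp_apply, this, map_mul, s.pj_refl e4, s.pj_refl e5, tv_smul iv1 (s.iso u) rfl]; simp
  · have y : g ∈ Y 1 u := ⟨s.O1_le i, e⟩
    have c := ei_cj (up ι g) (u, 0, 0) (0, 0, δ)
    rw [k.o1 g i, k.o1 g i, e, (su_sem (s.O1_le i)).zero, ← hn, conj_eq_iff] at c
    rw [up_eq y]
    refine Equiv.ext fun x => ?_
    change ((n * ι ⟨_, l y⟩ * n⁻¹).1 (x, 0, 0)).1 = _
    rw [← up_eq, ← c, mul_inv_cancel_right, k.o1 g i]

theorem nn_mul (hu : Q0 F m u = 0) (hv : Q0 F m v = 0) (e : hf 1 u v = 0) : ei (Qh m κ) (u, 0, 0) (0, 0, 1) * ei (Qh m κ) (v, 0, 0) (0, 0, 1) =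
    ei (Qh m κ) (u + v, 0, 0) (0, 0, 1) * ei (Qh m κ) (u, 0, 0) (κ • v, 0, 0) := og_ext fun ⟨x, a, b⟩ => by
  have e' : hf 1 v u = 0 := hf_comm u v ▸ e
  rw [og_mul, og_mul, s.nn_ap hv, s.nn_ap hu, ei_ap (u := (u, 0, 0)) (by simpa [Qh_ap] using hu) (by simp [s.hpol, e])]
  simp only [Prod.smul_mk, Prod.mk_add_mk, s.hpol, Qh_ap]
  rw [s.nn_ap (by simp [quad_add, hu, hv, s.pol, e])]
  simp [e, e', s.iso, hv, quad_smul]
  exact ⟨by ext i; simp; grind, by ring⟩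

end Sm

end CF.Dq
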