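import Cfsg.Agent.Dq.B
import Cfsg.Agent.Ud.D1

/-! Symplectic spaces in characteristic two: basic geometry. -/

set_option autoImplicit false
set_option linter.unusedSectionVars false
set_option linter.unusedVariables false

namespace CF.Dq

open Subgroup Equiv CF.Loc CF.LX CF.Geom QuadraticMap Module CF.Ud
open CF.Dbl (El)
open scoped commutatorElement

variable {F : Type} [Field F] [Fintype F] [CharP F 2] {m : ℕ} {θ θ' : F ≃+* F} {a b c ζ ζ' : F}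
  {g k ξ α w : Perm (Fin m → F)} {u v x y z n n' u' v' : Fin m → F} {H : Subgroup (Perm (Fin m → F))}
  {T T' S : Submodule F (Fin m → F)}

theorem iv1 : Iv (1 : F ≃+* F) := fun _ => rfl
theorem hf_comm (u v : Fin m → F) : hf 1 u v = hf 1 v u := (hf_sym iv1 u v).symm.symm
theorem hf_sw (h : hf 1 x y = 0) : hf 1 y x = 0 := hf_swap iv1 h
theorem hf_smr (c : F) (x y : Fin m → F) : hf 1 x (c • y) = c * hf 1 x y := hf_smul_r ..
theorem sem_uq (hm : 0 < m) (l : Sem 1 θ ξ) (l' : Sem 1 θ' ξ) : θ = θ' := RingEquiv.ext fun c =>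
  smul_left_injective F (l.ne (bv_ne hm)) ((l.smul c _).symm.trans (l'.smul c _))
theorem inv_sa (s : Sem 1 1 g) (e : g * g = 1) (x y : Fin m → F) : hf 1 (g x + x) y = hf 1 x (g y + y) := by
  rw [hf_add_l, hf_add_r, ← s.form1 (g x), ← Perm.mul_apply, e, Perm.one_apply]
theorem inv_D {σ : F ≃+* F} (s : Sem σ θ g) (e : g * g = 1) (x : Fin m → F) : g (g x + x) = g x + x := by
  rw [s.add, ← Perm.mul_apply, e, Perm.one_apply, add_comm]

namespace Sm
variable (s : Sm F m)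
include s

theorem half : m / 2 + m / 2 = m := by obtain ⟨k, e⟩ := s.ev; omega
theorem l2 : 2 ≤ m / 2 := by have := s.h4; omega
theorem pol (u v : Fin m → F) : polar (Q0 F m) u v = hf 1 u v := by
  have e : ∑ i : Fin m, (if i.val < m / 2 then v i * u i.rev else 0) = ∑ i : Fin m, if i.val < m / 2 then 0 else u i * v i.rev :=
    Fintype.sum_equiv Fin.revPerm _ _ fun i => by
      have := s.half; have := i.2
      simp only [Fin.revPerm_apply, Fin.val_rev, Fin.rev_rev]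
      split_ifs <;> first | omega | rfl | exact mul_comm _ _
  have f : hf 1 u v = (∑ i : Fin m, if i.val < m / 2 then u i * v i.rev else 0) +
      ∑ i : Fin m, (if i.val < m / 2 then v i * u i.rev else 0) := by
    rw [e, ← Finset.sum_add_distrib, hf]
    exact Finset.sum_congr rfl fun i _ => by split_ifs <;> simp
  simp only [polar, Q0_ap, f, ← Finset.sum_add_distrib, ← Finset.sum_sub_distrib]
  exact Finset.sum_congr rfl fun i _ => by split_ifs <;> simp; ring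
theorem iso (v : Fin m → F) : hf 1 v v = 0 := by
  rw [← s.pol, polar_self, two_nsmul, CharTwo.add_self_eq_zero]
theorem nd0 : (polarBilin (Q0 F m)).Nondegenerate :=
  ⟨fun x h => nd (σ := 1) fun y => (s.pol x y).symm.trans (h y), fun x h => nd (σ := 1) fun y => hf_sw ((s.pol y x).symm.trans (h y))⟩
theorem q0_Vf (i : u ∈ Vf F m (m / 2)) : Q0 F m u = 0 := by
  rw [Q0_ap]
  refine Finset.sum_eq_zero fun j _ => ?_
  split_ifs with h
  · rw [i j.rev (by have := s.half; rw [Fin.val_rev]; omega), mul_zero]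
  · rfl
theorem q0_add (u v : Fin m → F) : Q0 F m (u + v) = Q0 F m u + Q0 F m v + hf 1 u v := by
  rw [← s.pol, polar]; ring
theorem ok (e : hf 1 n v = 0) (ζ : F) : Ok 1 v n ζ := ⟨iv1, s.iso v, e, by rw [s.iso]; exact CharTwo.add_self_eq_zero ζ⟩
theorem okt (v : Fin m → F) (a : F) : Ok 1 v 0 a := s.ok (hf_zero_l v) a
theorem tv_ap (v : Fin m → F) (a : F) (x : Fin m → F) : E 1 v 0 a x = x + (a * hf 1 x v) • v := by simp [E_ap (s.okt v a)]
theorem E0_ap (e : hf 1 n v = 0) (x : Fin m → F) : E 1 v n 0 x = x + hf 1 x v • n + hf 1 x n • v := by simp [E_ap (s.ok e 0)]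
theorem E3 (e : hf 1 u v = 0) (a b c : F) (x : Fin m → F) : (E 1 u 0 a * E 1 v 0 b * E 1 u (c • v) 0) x =
    x + (a * hf 1 x u + c * hf 1 x v) • u + (c * hf 1 x u + b * hf 1 x v) • v := E3_ap iv1 (s.iso u) (s.iso v) e rfl rfl x
theorem tv_add (e : hf 1 u v = 0) : E 1 (u + v) 0 1 = E 1 u 0 1 * E 1 v 0 1 * E 1 u v 0 := Equiv.ext fun x => by
  have := s.E3 e 1 1 1 x
  rw [one_smul] at this
  rw [this, s.tv_ap, hf_add_r]; module
theorem tv_sm (c : F) (v : Fin m → F) (a : F) : E 1 (c • v) 0 a = E 1 v 0 (c * c * a) := tv_smul iv1 (s.iso v) rfl c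
theorem tv_one (v : Fin m → F) (a : F) : ∃ c : F, c * c = a ∧ E 1 v 0 a = E 1 (c • v) 0 1 :=
  (exists_rt a).imp fun c e => ⟨e, by rw [s.tv_sm, e, mul_one]⟩
theorem tv_mul (v : Fin m → F) (a b : F) : E 1 v 0 a * E 1 v 0 b = E 1 v 0 (a + b) := Ud.tv_mul iv1 (s.iso v) rfl rfl
theorem E_sq (v n : Fin m → F) (ζ : F) : E 1 v n ζ * E 1 v n ζ = 1 := by
  by_cases o : Ok 1 v n ζ
  · rw [Ud.E_sq o, s.iso, E_zero]
  · simp [E_junk o]
theorem wp : IsWittPair ((1 : F ≃+* F) : F →+* F) (sq 1 m) fun _ => 0 :=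
  ⟨Function.surjective_id, fun x h => nd (σ := 1) fun y => hf_sw (h y), fun x y x' y' e => by
    simp only [sq_ap] at *; rw [hf_comm, e, hf_comm], by simp, by simp, fun x y _ => (s.iso x).trans (s.iso y).symm, by simp⟩
theorem pp_dim (T : Submodule F (Fin m → F)) : finrank F T + finrank F (pp 1 T) = m := (s.wp.finrank_perp T).trans finrank_V
theorem pp_pp (T : Submodule F (Fin m → F)) : pp 1 (pp 1 T) = T := s.wp.perp_perp T
theorem mem_of_pp (h : ∀ y, (∀ z ∈ T, hf 1 y z = 0) → hf 1 x y = 0) : x ∈ T := s.pp_pp T ▸ h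
theorem part (hx : x ∉ T) : ∃ y, hf 1 y x = 1 ∧ ∀ z ∈ T, hf 1 y z = 0 := s.wp.exists_dual_vec hx
theorem partner (v0 : v ≠ 0) : ∃ y, hf 1 y v = 1 := (s.part (T := ⊥) v0).imp fun _ => And.left
theorem perp_perp1 (h : ∀ y, hf 1 y v = 0 → hf 1 x y = 0) : ∃ c : F, x = c • v := by
  obtain ⟨c, e⟩ := Submodule.mem_span_singleton.1 (s.mem_of_pp (T := Submodule.span F {v}) fun y k =>
    h y (k v (Submodule.mem_span_singleton_self v)))
  exact ⟨c, e.symm⟩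
theorem ti_le (l : Ti 1 T) : finrank F T ≤ m / 2 := by
  have := s.wp.two_mul_finrank_le (U := T) l
  rw [finrank_V] at this; omega
theorem Vl_dim : finrank F (Vf F m (m / 2)) = m / 2 := Vf_dim (by omega)
theorem Vl_pp (h : ∀ y ∈ Vf F m (m / 2), hf 1 x y = 0) : x ∈ Vf F m (m / 2) := (Vf_pp (σ := 1) s.half).le h
theorem Vl_ti : Ti 1 (Vf F m (m / 2)) := Vf_ti le_rfl
theorem ti_max (l : Ti 1 T) (h : finrank F T = m / 2) (e : ∀ z ∈ T, hf 1 x z = 0) : x ∈ T := by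
  have := s.pp_dim T; have := s.half
  exact (Submodule.eq_of_le_of_finrank_le (show T ≤ pp 1 T from l) (by omega)).ge e
theorem ti_one (v : Fin m → F) : Ti 1 (Submodule.span F {v}) := fun x a y b => by
  obtain ⟨_, rfl⟩ := Submodule.mem_span_singleton.1 a
  obtain ⟨_, rfl⟩ := Submodule.mem_span_singleton.1 b
  simp [s.iso]
theorem ti_two (e : hf 1 u v = 0) : Ti 1 (Submodule.span F {u, v}) := fun x a y b => by
  obtain ⟨_, _, rfl⟩ := Submodule.mem_span_pair.1 a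
  obtain ⟨_, _, rfl⟩ := Submodule.mem_span_pair.1 b
  simp [hf_sw e, e, s.iso]
theorem b0 : (bv 0 : Fin m → F) ≠ 0 := bv_ne (by have := s.h4; omega)
theorem b0V : (bv 0 : Fin m → F) ∈ Vf F m (m / 2) := bv_mem (by have := s.l2; omega)
theorem b1V : (bv 1 : Fin m → F) ∈ Vf F m (m / 2) := bv_mem (by have := s.l2; omega)
theorem b01 : hf 1 (bv 0 : Fin m → F) (bv 1) = 0 := s.Vl_ti _ s.b0V _ s.b1V
theorem li01 : LinearIndependent F ![(bv 0 : Fin m → F), bv 1] := li_sub (li_bv (j := 2) (by have := s.h4; omega)) (i := 0) (j := 1) (by decide)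
theorem dual' {ι : Type*} [Fintype ι] {u : ι → Fin m → F} (hu : LinearIndependent F u) (c : ι → F) : ∃ n, ∀ i, hf 1 (u i) n = c i := by
  classical
  choose y h k using fun i => s.part (hu.notMem_span_image (s := {i}ᶜ) (x := i) (by simp))
  refine ⟨∑ i, c i • y i, fun j => ?_⟩
  rw [hf_sum_r, Finset.sum_eq_single j (fun i _ n => by rw [hf_smr, hf_sw (k i _ (Submodule.subset_span ⟨j, n.symm, rfl⟩)), mul_zero])
    (by simp), hf_smr, hf_comm, h, mul_one]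
theorem dual {r : ℕ} {u : Fin r → Fin m → F} (hu : LinearIndependent F u) (c : Fin r → F) : ∃ n, ∀ i, hf 1 (u i) n = c i :=
  s.dual' hu c
theorem dual2 (hu : LinearIndependent F ![u, v]) (a b : F) : ∃ n, hf 1 n u = a ∧ hf 1 n v = b :=
  (s.dual hu ![a, b]).imp fun n h => ⟨(hf_comm _ _).trans (h 0), (hf_comm _ _).trans (h 1)⟩
theorem move (l : ∀ w, (∀ x ∈ T, hf 1 x w = 0) → E 1 w 0 1 ∈ H) (hu : u ∉ T) (hv : v ∉ T) (e : ∀ x ∈ T, hf 1 x u = hf 1 x v) :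
    ∃ h ∈ H, Sem 1 1 h ∧ (∀ x ∈ T, h x = x) ∧ h u = v := by
  have k : ∀ u v, hf 1 u v ≠ 0 → (∀ x ∈ T, hf 1 x u = hf 1 x v) → ∃ h ∈ H, Sem 1 1 h ∧ (∀ x ∈ T, h x = x) ∧ h u = v :=
    fun u v n e => by
      have f : ∀ x ∈ T, hf 1 x (u + v) = 0 := fun x i => by rw [hf_add_r, e x i, CharTwo.add_self_eq_zero]
      obtain ⟨c, -, h⟩ := s.tv_one (u + v) (hf 1 u v)⁻¹
      exact ⟨E 1 (u + v) 0 (hf 1 u v)⁻¹, h ▸ l _ fun x i => by rw [hf_smr, f x i, mul_zero], E_sem ..,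
        fun x i => E_fix (f x i) (hf_zero_r x) _, by
          rw [s.tv_ap, hf_add_r, s.iso, zero_add, inv_mul_cancel₀ n, one_smul, ← add_assoc, vv, zero_add]⟩
  by_cases n : hf 1 u v = 0
  · obtain ⟨z, h1, h2, h3⟩ : ∃ z, hf 1 z u ≠ 0 ∧ hf 1 z v ≠ 0 ∧ ∀ x ∈ T, hf 1 z x = 0 := by
      obtain ⟨y, a, b⟩ := s.part hu
      obtain ⟨y', a', b'⟩ := s.part hv
      by_cases c : hf 1 y v = 0
      · by_cases c' : hf 1 y' u = 0
        · exact ⟨y + y', by simp [*], by simp [*], fun x i => by simp [b x i, b' x i]⟩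
        · exact ⟨y', c', by simp [*], b'⟩
      · exact ⟨y, by simp [*], c, b⟩
    obtain ⟨h, a1, a2, a3, a4⟩ := k u (u + z) (by simpa [s.iso, hf_comm u]) fun x i => by simp [hf_sw (h3 x i)]
    obtain ⟨h', b1, b2, b3, b4⟩ := k (u + z) v (by simpa [n]) fun x i => by simp [hf_sw (h3 x i), e x i]
    exact ⟨h' * h, mul_mem b1 a1, b2.mul1 a2, fun x i => by simp [a3 x i, b3 x i], by simp [a4, b4]⟩
  · exact k u v n e
/-- an isometry is a product of transvections orthogonal to its fixed space -/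
theorem gen (i : Sem 1 1 g) (f : ∀ x ∈ T, g x = x) (l : ∀ w, (∀ x ∈ T, hf 1 x w = 0) → E 1 w 0 1 ∈ H) : g ∈ H := by
  induction T using WellFoundedGT.induction generalizing g with | _ T ih
  by_cases g1 : g = 1
  · exact g1 ▸ one_mem H
  obtain ⟨u, n⟩ := not_forall.1 (mt Equiv.ext g1)
  have hu : u ∉ T := mt (f u) n
  obtain ⟨h, a1, a2, a3, a4⟩ := s.move l hu (v := g u) (fun j => n (g.injective (f _ j))) fun x j => by rw [← i.form1, f x j]
  refine (mul_mem_cancel_left (inv_mem a1)).1 (ih (T ⊔ Submodule.span F {u}) (Submodule.lt_sup_iff_notMem.2 hu) (a2.inv1.mul1 i)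
    (fun x j => ?_) fun w j => l w fun x k => j x (Submodule.mem_sup_left k))
  obtain ⟨y, j0, _, j', rfl⟩ := Submodule.mem_sup.1 j
  obtain ⟨c, rfl⟩ := Submodule.mem_span_singleton.1 j'
  exact Perm.inv_eq_iff_eq.2 (by rw [i.add, a2.add, i.smul1, a2.smul1, f y j0, a3 y j0, a4])
theorem mem_SU (l : Sem 1 1 g) : g ∈ SU 1 m := s.gen (T := ⊥) l (by simp [l.zero]) fun _ _ => tv_SU _ _
theorem E_SU (v n : Fin m → F) (ζ : F) : E 1 v n ζ ∈ SU 1 m := s.mem_SU (E_sem ..)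
theorem SU_eq : SU (1 : F ≃+* F) m = GU 1 m := le_antisymm SU_le fun _ => s.mem_SU
theorem Y_gen (v0 : v ≠ 0) (l : ∀ w, hf 1 w v = 0 → E 1 w 0 1 ∈ H) : Y 1 v ≤ H := fun g i =>
  s.gen (T := Submodule.span F {v}) (su_sem i.1) (fun x j => by
    obtain ⟨c, rfl⟩ := Submodule.mem_span_singleton.1 j
    rw [(su_sem i.1).smul1, show g v = v from i.2]) fun w j => l w (hf_sw (j v (Submodule.mem_span_singleton_self v)))
theorem WX_gen (e : ∀ v ∈ T, E 1 v 0 1 ∈ H) : WX 1 T ≤ H := fun w i =>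
  s.gen (T := pp 1 T) i.1 (fun x => W_fix i) fun v j => e v (s.mem_of_pp fun y k => hf_sw (j y k))
theorem W_gen (e : ∀ v ∈ Vf F m (m / 2), E 1 v 0 1 ∈ H) : WW 1 m ≤ H := s.WX_gen e
theorem witt0' {ι : Type*} {u v : ι → Fin m → F} (hu : LinearIndependent F u) (hv : LinearIndependent F v)
    (e : ∀ i j, hf 1 (u i) (u j) = hf 1 (v i) (v j)) : ∃ g ∈ SU 1 m, ∀ i, g (u i) = v i := by
  obtain ⟨g, h, k⟩ := s.wp.exists_isom_frame u v hu hv (fun i j => (e j i).symm) fun i => rfl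
  exact ⟨pm 1 m ⟨g, mem_UG.2 h.1⟩, s.mem_SU (pm_sem _), k⟩
theorem witt0 {r : ℕ} {u v : Fin r → Fin m → F} (hu : LinearIndependent F u) (hv : LinearIndependent F v)
    (e : ∀ i j, hf 1 (u i) (u j) = hf 1 (v i) (v j)) : ∃ g ∈ SU 1 m, ∀ i, g (u i) = v i := s.witt0' hu hv e
theorem witt1 (u0 : u ≠ 0) (v0 : v ≠ 0) : ∃ g ∈ SU 1 m, g u = v := by
  obtain ⟨g, a, b⟩ := s.witt0 (u := ![u]) (v := ![v]) (by simpa) (by simpa) (by simp [s.iso])
  exact ⟨g, a, b 0⟩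
theorem wittP (hu : LinearIndependent F ![u, u']) (hv : LinearIndependent F ![v, v']) (f : hf 1 u u' = hf 1 v v') :
    ∃ g ∈ SU 1 m, g u = v ∧ g u' = v' := by
  obtain ⟨g, a, b⟩ := s.witt0 hu hv (by simp [Fin.forall_fin_two, s.iso, hf_comm u' u, hf_comm v' v, f])
  exact ⟨g, a, b 0, b 1⟩
theorem wittX (l : Ti 1 T) : ∃ g ∈ SU 1 m, ∀ x, x ∈ T ↔ g x ∈ Vf F m (finrank F T) := by
  have h := s.ti_le l
  obtain ⟨u, a, b, c⟩ := exists_li_mem T rfl
  obtain ⟨g, i, k⟩ := s.witt0 a (li_bv (m := m) (by omega)) fun i j => (l _ (b i) _ (b j)).trans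
    (Vf_ti h _ (bv_mem i.2) _ (bv_mem j.2)).symm
  have : T.map (lin (su_sem i)) = Vf F m (finrank F T) := by
    nth_rw 1 [← c]
    rw [Vf_span (by omega), Submodule.map_span, ← Set.range_comp]
    exact congrArg _ (congrArg _ (funext k))
  refine ⟨_, i, fun x => ⟨fun h => this ▸ ⟨x, h, rfl⟩, fun h => ?_⟩⟩
  obtain ⟨y, e, e'⟩ := this.ge h
  exact g.injective e' ▸ e
theorem wittT (l : Ti 1 T) : ∃ g ∈ SU 1 m, ∀ x ∈ T, g x ∈ Vf F m (m / 2) :=
  (s.wittX l).imp fun _ h => ⟨h.1, fun x i => Vf_mono (s.ti_le l) ((h.2 x).1 i)⟩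
theorem witt2 (e : hf 1 u v = 0) : ∃ g ∈ SU 1 m, g u ∈ Vf F m (m / 2) ∧ g v ∈ Vf F m (m / 2) :=
  (s.wittT (s.ti_two e)).imp fun _ h => ⟨h.1, h.2 _ (Submodule.subset_span (by simp)), h.2 _ (Submodule.subset_span (by simp))⟩
theorem tv_inj (a0 : a ≠ 0) (u0 : u ≠ 0) (e : E 1 u 0 a = E 1 v 0 b) : ∃ c : F, v = c • u ∧ c * c * b = a := by
  obtain ⟨y, k⟩ := s.partner u0
  have f := congrArg (· y) e
  simp only [s.tv_ap, k, mul_one, add_right_inj] at f
  have z : b * hf 1 y v ≠ 0 := fun z => smul_ne_zero a0 u0 (by rw [f, z, zero_smul])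
  obtain ⟨c, rfl⟩ : ∃ c : F, v = c • u := ⟨(b * hf 1 y v)⁻¹ * a, by rw [mul_smul, f, inv_smul_smul₀ z]⟩
  refine ⟨c, rfl, smul_left_injective F u0 ?_⟩
  simp only [f, hf_smr, k, smul_smul]; ring_nf
theorem tv_ne (u0 : u ≠ 0) (a0 : a ≠ 0) : E 1 u 0 a ≠ 1 := fun e => by
  obtain ⟨c, -, k⟩ := s.tv_inj a0 u0 (e.trans (E_zero u).symm)
  exact a0 (by simpa using k.symm)
theorem tv_inj1 (e : E 1 u 0 1 = E 1 v 0 1) : u = v := by
  by_cases u0 : u = 0
  · by_contra n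
    exact s.tv_ne (fun z => n (u0.trans z.symm)) one_ne_zero (by rw [← e, u0, E_zero_v])
  obtain ⟨c, h, k⟩ := s.tv_inj one_ne_zero u0 e
  rw [h, sq_inj (a := c) (b := 1) (by simpa using k), one_smul]
theorem tv_tri (e : E 1 u 0 1 * E 1 v 0 1 = E 1 x 0 1) (u0 : u ≠ 0) : ∃ c : F, v = c • u := by
  by_contra n
  have l := li_two u0 (w := v) fun k => n ((Submodule.mem_span_singleton.1 k).imp fun _ => Eq.symm)
  obtain ⟨y, h1, h2⟩ := s.dual2 l 1 0
  obtain ⟨z, h3, h4⟩ := s.dual2 l (hf 1 v u) 1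
  have f := congrArg (· y) e
  have f' := congrArg (· z) e
  simp only [Perm.mul_apply, s.tv_ap, h1, h2, h3, h4, hf_add_l, mul_one, one_mul, zero_smul, add_zero, one_smul,
    CharTwo.add_self_eq_zero, add_right_inj] at f f'
  have : hf 1 y x ≠ 0 := fun k => u0 (by rw [f, k, zero_smul])
  exact n ⟨hf 1 z x / hf 1 y x, by rw [f', congrArg (_ • ·) f, smul_smul, div_mul_cancel₀ _ this]⟩
theorem mem_W (l : Sem 1 1 g) (h : ∀ x, (∀ z ∈ T, hf 1 x z = 0) → g x = x) : g ∈ WX 1 T := ⟨l, fun x => s.mem_of_pp fun y i => by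
  rw [vsub, hf_add_l, ← l.form1 x y, h y i, CharTwo.add_self_eq_zero]⟩
theorem cY1 (l : Ti 1 T) (i : ξ ∈ Gam 1 m) (e : ∀ v, (∀ x ∈ T, hf 1 x v = 0) → ξ * E 1 v 0 1 = E 1 v 0 1 * ξ) : ξ ∈ WX 1 T := by
  obtain ⟨θ, i⟩ := i
  have f : ∀ v, (∀ x ∈ T, hf 1 v x = 0) → ξ v = v := fun v j => s.tv_inj1 (by
    have := conj_eq_iff.2 (e v fun x k => hf_sw (j x k))
    rwa [tv_cj i, map_one] at this)
  obtain ⟨v, j, v0⟩ := exists_out (T := ⊥) (T' := pp 1 T) (by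
    have := s.pp_dim T; have := s.ti_le l; have := s.h4; rw [finrank_bot]; omega)
  obtain rfl : θ = 1 := RingEquiv.ext fun c => smul_left_injective F v0 (by
    have := i.smul c v
    rw [f v j, f _ (Submodule.smul_mem _ c j)] at this
    exact this.symm)
  exact s.mem_W i f
theorem cY (l : Ti 1 T) (i : ξ ∈ Gam 1 m) (e : ∀ v a, (∀ x ∈ T, hf 1 x v = 0) → ξ * E 1 v 0 a = E 1 v 0 a * ξ) : ξ ∈ WX 1 T :=
  s.cY1 l i fun v => e v 1
theorem gam_eq1 (l : ξ ∈ Gam 1 m) (e : ∀ v, ξ * E 1 v 0 1 = E 1 v 0 1 * ξ) : ξ = 1 := Equiv.ext fun x =>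
  sub_eq_zero.1 ((s.cY1 (T := ⊥) (fun x i y _ => by simp [(Submodule.mem_bot F).1 i]) l fun v _ => e v).2 x)
theorem gam_eq (l : ξ ∈ Gam 1 m) (e : ∀ v a, ξ * E 1 v 0 a = E 1 v 0 a * ξ) : ξ = 1 := s.gam_eq1 l fun v => e v 1
theorem sc_eq (l : Sem 1 1 g) (e : Sc g) : g = 1 := s.gam_eq ⟨_, l⟩ fun _ _ => sc_comm e (E_sem ..)
end Sm

end CF.Dq
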