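import Cfsg.Agent.Geom.Orth

/-! Spaces of commuting self-adjoint square zero operators on a symplectic space in characteristic two. -/

set_option autoImplicit false
set_option linter.unusedSectionVars false
set_option linter.unusedVariables false

namespace CF.Dq.P2

open Module CF.Geom Submodule

variable {F V : Type*} [Field F] [AddCommGroup V] [Module F V] [FiniteDimensional F V]

theorem rn {M' : Type*} [AddCommGroup M'] [Module F M'] (S : Submodule F V) (f : V →ₗ[F] M') :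
    finrank F (S.map f) + finrank F ↥(S ⊓ LinearMap.ker f) = finrank F S := by
  rw [← (f.domRestrict S).finrank_range_add_finrank_ker, LinearMap.range_domRestrict, LinearMap.ker_domRestrict,
    ← Submodule.finrank_map_subtype_eq, Submodule.map_comap_subtype]
theorem rk_le {M' : Type*} [AddCommGroup M'] [Module F M'] [FiniteDimensional F M'] (S : Submodule F V) (g : V →ₗ[F] M')
    (T : Submodule F M') (h : ∀ x ∈ S, g x ∈ T) (inj : ∀ x ∈ S, g x = 0 → x = 0) : finrank F S ≤ finrank F T := by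
  have := rn S g
  rw [show S ⊓ LinearMap.ker g = ⊥ from (Submodule.eq_bot_iff _).2 fun x i => inj x i.1 i.2, finrank_bot, add_zero] at this
  exact this ▸ Submodule.finrank_mono (map_le_iff_le_comap.2 h)

theorem ar {a b e r : ℕ} (h : a + e + 1 ≤ b + 2 * (r + 1)) (h1 : 2 * b ≤ r * (r + 1)) (h2 : 2 * b ≤ e * (e + 1)) :
    2 * a ≤ (r + 1) * (r + 1 + 1) ∧ (3 ≤ r + 1 → (r + 1) * (r + 1 + 1) ≤ 2 * a → e = r ∧ e * (e + 1) ≤ 2 * b) := by
  rcases lt_trichotomy e r with l | rfl | l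
  · obtain ⟨c, rfl⟩ := Nat.exists_eq_add_of_lt l
    exact ⟨by nlinarith, fun r3 q => by exfalso; rcases e with _ | e <;> nlinarith⟩
  · exact ⟨by nlinarith, fun _ q => ⟨rfl, by nlinarith⟩⟩
  · exact ⟨by nlinarith, fun _ q => by exfalso; nlinarith⟩

variable [CharP F 2] {B : V →ₗ[F] V →ₗ[F] F} {U N W : Submodule F V} {A : Submodule F (End F V)} {x y u v : V}

variable (F) in
include F in
theorem vv (x : V) : x + x = 0 := by rw [← two_smul F, CharTwo.two_eq_zero, zero_smul]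

variable (B) in
/-- symplectic forms -/
structure Sy : Prop where
  alt : ∀ x, B x x = 0
  nd : ∀ x, (∀ y, B x y = 0) → x = 0

variable (B) in
/-- self-adjoint operators with image in `U` -/
def S (U : Submodule F V) : Submodule F (End F V) where
  carrier := {D | (∀ x y, B (D x) y = B x (D y)) ∧ ∀ x, D x ∈ U}
  add_mem' := fun a b => ⟨fun x y => by simp [a.1, b.1], fun x => add_mem (a.2 x) (b.2 x)⟩
  zero_mem' := ⟨by simp, by simp⟩
  smul_mem' := fun c _ a => ⟨fun x y => by simp [a.1], fun x => smul_mem _ _ (a.2 x)⟩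

variable (B) in
/-- rank one operators -/
def r1 (z u : V) : End F V := (B.flip z).smulRight u
@[simp] theorem r1_ap (z u x : V) : r1 B z u x = B x z • u := rfl

variable (B) in
/-- commuting self-adjoint operators of square zero -/
structure Ca (A : Submodule F (End F V)) : Prop where
  sa : ∀ D ∈ A, ∀ x y, B (D x) y = B x (D y)
  cm : ∀ D ∈ A, ∀ E ∈ A, ∀ x, D (E x) = E (D x)
  sq : ∀ D ∈ A, ∀ x, D (D x) = 0

theorem Ca.ker (a : Ca B A) (W : Submodule F V) (h : ∀ D ∈ A, ∀ x ∈ W, D x ∈ W) (w0 : W ≠ ⊥) :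
    ∃ v ∈ W, v ≠ 0 ∧ ∀ D ∈ A, D v = 0 := by
  induction W using WellFoundedLT.induction with | _ W ih
  by_cases z : ∀ D ∈ A, ∀ x ∈ W, D x = 0
  · obtain ⟨v, i, j⟩ := (Submodule.ne_bot_iff _).1 w0
    exact ⟨v, i, j, fun D k => z D k v i⟩
  obtain ⟨D, i, x, j, k⟩ : ∃ D ∈ A, ∃ x ∈ W, D x ≠ 0 := by simpa using z
  obtain ⟨v, l, r⟩ := ih (W ⊓ LinearMap.ker D) (lt_of_le_of_ne inf_le_left fun e => k (e.ge j).2)
    (fun E i' y j' => ⟨h E i' y j'.1, show D (E y) = 0 by rw [a.cm D i E i', show D y = 0 from j'.2, map_zero]⟩)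
    ((Submodule.ne_bot_iff _).2 ⟨D x, ⟨h D i x j, a.sq D i x⟩, k⟩)
  exact ⟨v, l.1, r⟩

namespace Sy
variable (s : Sy B)
include s
theorem sy (x y : V) : B x y = B y x := by
  have := s.alt (x + y)
  simp only [map_add, LinearMap.add_apply, s.alt, zero_add, add_zero] at this
  grind
theorem dim (U : Submodule F V) : finrank F U + finrank F (perp B U) = finrank F V :=
  finrank_perp_add Function.surjective_id B s.nd U
theorem pp (U : Submodule F V) : perp B (perp B U) = U := by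
  refine (eq_of_le_of_finrank_le (fun x i y j => s.sy x y ▸ j x i) ?_).symm
  have := s.dim U; have := s.dim (perp B U); omega
theorem dual (h : v ∉ U) : ∃ y ∈ perp B U, B v y = 1 := by
  obtain ⟨y, i, j⟩ : ∃ y ∈ perp B U, B y v ≠ 0 := by
    by_contra! k; exact h (s.pp U ▸ k)
  exact ⟨(B y v)⁻¹ • y, smul_mem _ _ i, by simp [s.sy v y, j]⟩
theorem sm0 {W : Type*} [AddCommGroup W] [Module F W] {w : W} (h : ∀ u, B u x • w = 0) : x = 0 ∨ w = 0 :=
  or_iff_not_imp_right.2 fun k => s.nd x fun u => s.sy u x ▸ (smul_eq_zero.1 (h u)).resolve_right k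
theorem S_dim (U : Submodule F V) : 2 * finrank F (S B U) = finrank F U * (finrank F U + 1) := by
  induction U using WellFoundedLT.induction with | _ U ih
  by_cases z : U = ⊥
  · rw [show S B U = ⊥ from (Submodule.eq_bot_iff _).2 fun D i => LinearMap.ext fun x => by simpa [z] using i.2 x, z]; simp
  obtain ⟨u, i, u0⟩ := (Submodule.ne_bot_iff _).1 z
  obtain ⟨y, -, k⟩ := s.dual (U := ⊥) (v := u) (by simpa)
  have h1 := rn (S B U) (LinearMap.applyₗ y)
  have h2 := rn U (B y)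
  have h3 := ih (U ⊓ LinearMap.ker (B y)) (lt_of_le_of_ne inf_le_left fun e => by simpa [s.sy y u, k] using (e.ge i).2)
  rw [show (S B U).map (LinearMap.applyₗ y) = U from le_antisymm (map_le_iff_le_comap.2 fun D j => j.2 y) fun z j =>
      ⟨r1 B z u + r1 B u z + B y z • r1 B u u, ⟨fun a b => by simp [s.sy a, s.sy b, s.sy z u]; ring,
        fun x => by simpa using add_mem (add_mem (smul_mem _ _ i) (smul_mem _ _ j)) (smul_mem _ _ (smul_mem _ _ i))⟩, by
        simp [s.sy y u, k, add_right_comm _ z, vv F]⟩,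
    show S B U ⊓ LinearMap.ker (LinearMap.applyₗ y) = S B (U ⊓ LinearMap.ker (B y)) from le_antisymm
      (fun D j => ⟨j.1.1, fun x => ⟨j.1.2 x, show B y (D x) = 0 by rw [← j.1.1, show D y = 0 from j.2]; simp⟩⟩)
      fun D j => ⟨⟨j.1, fun x => (j.2 x).1⟩, s.nd _ fun x => (j.1 y x).trans (j.2 x).2⟩] at h1
  rw [show U.map (B y) = ⊤ from eq_top_iff.2 fun c _ => ⟨c • u, smul_mem _ _ i, by simp [s.sy y u, k]⟩, finrank_top,
    finrank_self] at h2
  rw [← h1, ← h2, mul_add, h3]; ring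
theorem main (r : ℕ) : ∀ (N : Submodule F V) (A : Submodule F (End F V)), Ca B A → (∀ D ∈ A, ∀ n ∈ N, D n = 0) →
    (∀ x ∈ N, x ∈ perp B N → x = 0) → finrank F N + 2 * r = finrank F V → 2 * finrank F A ≤ r * (r + 1) ∧
    (N = ⊥ → 3 ≤ r → r * (r + 1) ≤ 2 * finrank F A → ∃ T : Submodule F V, T ≤ perp B T ∧ finrank F T = r ∧ A ≤ S B T) := by
  induction r with
  | zero =>
    intro N A a k n d
    obtain rfl : N = ⊤ := eq_top_of_finrank_eq d
    rw [show A = ⊥ from (Submodule.eq_bot_iff _).2 fun D i => LinearMap.ext fun x => k D i x trivial]; simp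
  | succ r ih =>
  intro N A a k n d
  have aN : ∀ D ∈ A, ∀ x, D x ∈ perp B N := fun D i x z j => by rw [← a.sa D i, k D i z j]; simp
  obtain ⟨v, hv, v0, kv⟩ := a.ker (perp B N) (fun D i x _ => aN D i x) fun e => by
    have := s.dim N; rw [e, finrank_bot] at this; omega
  have vN : v ∉ N := fun i => v0 (n v i hv)
  obtain ⟨y, hy, vy⟩ := s.dual vN
  have yv := s.sy y v ▸ vy
  have av : ∀ D ∈ A, ∀ x, B (D x) v = 0 := fun D i x => by rw [a.sa D i, kv D i, map_zero]
  let π : End F V := 1 + r1 B y v + r1 B v y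
  have pa : ∀ x, π x = x + B x y • v + B x v • y := fun _ => rfl
  have pD : ∀ D ∈ A, ∀ x, π (D x) = D x + B (D x) y • v := fun D i x => by simp [pa, av D i]
  have DpD : ∀ D ∈ A, ∀ E ∈ A, ∀ x, D (π (E x)) = D (E x) := fun D i E j x => by simp [pD E j, kv D i]
  have ps : ∀ x z, B (π x) z = B x (π z) := fun x z => by simp [pa, s.sy z]; ring
  have pv : π v = 0 := by simp [pa, vy, s.alt, vv F]
  have py : π y = 0 := by simp [pa, yv, s.alt, vv F]
  let ρ := LinearMap.mulLeftRight F (π, π)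
  have ra : ∀ D x, ρ D x = π (D (π x)) := fun _ _ => rfl
  let U := span F {z | ∃ D ∈ A, ∃ x, z = π (D (π x))}
  let N1 := N ⊔ span F {v}
  let N2 := N1 ⊔ span F {y}
  have m2 : ∀ x ∈ N2, ∃ z ∈ N, ∃ b c : F, x = z + b • v + c • y := fun x j => by
    obtain ⟨_, j1, _, j2, rfl⟩ := mem_sup.1 j
    obtain ⟨z, j3, _, j4, rfl⟩ := mem_sup.1 j1
    obtain ⟨c, rfl⟩ := mem_span_singleton.1 j2; obtain ⟨b, rfl⟩ := mem_span_singleton.1 j4
    exact ⟨z, j3, b, c, rfl⟩
  have pN : ∀ z ∈ N, π z = z := fun z j => by simp [pa, hv z j, hy z j]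
  have k2 : ∀ D ∈ A, ∀ z ∈ N2, D (π z) = 0 := fun D i x j0 => by
    obtain ⟨z, j, b, c, rfl⟩ := m2 x j0
    simp [pv, py, pN z j, k D i z j]
  have n2 : ∀ x ∈ N2, x ∈ perp B N2 → x = 0 := fun x j0 l => by
    obtain ⟨z, j, b, c, rfl⟩ := m2 x j0
    have h1 := l v (mem_sup_left (mem_sup_right (mem_span_singleton_self v)))
    have h2 := l y (mem_sup_right (mem_span_singleton_self y))
    simp only [map_add, map_smul, s.alt, vy, yv, s.sy v z, s.sy y z, hv z j, hy z j, smul_eq_mul, mul_zero, mul_one, add_zero,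
      zero_add] at h1 h2
    simp only [h1, h2, zero_smul, add_zero] at l ⊢
    exact n z j fun w i => l w (mem_sup_left (mem_sup_left i))
  have UN : U ≤ perp B N2 := span_le.2 <| by
    rintro _ ⟨D, i, x, rfl⟩ z j
    rw [← ps, ← a.sa D i, k2 D i z j]; simp
  have d1 : finrank F N1 = _ := finrank_sup_span_singleton vN
  have d2 : finrank F N2 = _ := finrank_sup_span_singleton (p := N1) (v := y) fun j => by
    obtain ⟨z, j, _, j', e⟩ := mem_sup.1 j
    obtain ⟨b, rfl⟩ := mem_span_singleton.1 j'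
    simpa [hv z j, s.alt, yv] using congrArg (B · v) e
  have d3 := finrank_sup_add_finrank_inf_eq N1 U
  rw [show N1 ⊓ U = ⊥ from (Submodule.eq_bot_iff _).2 fun z j => n2 z (mem_sup_left j.1) (UN j.2), finrank_bot] at d3
  have d4 := s.dim (N1 ⊔ U)
  have aU : A.map ρ ≤ S B U := by
    rintro _ ⟨D, i, rfl⟩
    exact ⟨fun x z => by rw [ra, ra, ps, a.sa D i, ps], fun x => subset_span ⟨D, i, x, rfl⟩⟩
  have h1 := (ih N2 (A.map ρ) ⟨fun D i => (aU i).1, by
      rintro _ ⟨D, i, rfl⟩ _ ⟨E, j, rfl⟩ x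
      simp only [ra, pD E j (π x), pD D i (π x), map_add, map_smul, pv, kv D i, kv E j, DpD D i E j, DpD E j D i, smul_zero, add_zero,
        map_zero, a.cm D i E j], by
      rintro _ ⟨D, i, rfl⟩ x
      simp only [ra, pD D i (π x), map_add, map_smul, pv, kv D i, DpD D i D i, smul_zero, add_zero, map_zero, a.sq D i]⟩ (by
      rintro _ ⟨D, i, rfl⟩ z j; rw [ra, k2 D i z j, map_zero]) n2 (by omega)).1
  have h2 := s.S_dim U
  have h3 := Submodule.finrank_mono aU
  have h4 := rn A ρ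
  have dec : ∀ D ∈ A, ∀ x, D x = D (π x) + B x v • D y := fun D i x => by simp [pa, kv D i, add_assoc, vv F]
  have mZ : ∀ D ∈ A, (∀ z ∈ U, B z (D y) = 0) → D y ∈ perp B (N1 ⊔ U) := fun D i l => by
    rw [perp_sup, perp_sup]; exact ⟨⟨aN D i y, mem_perp_singleton.2 (s.sy _ v ▸ av D i y)⟩, l⟩
  have h5 := rk_le (A ⊓ LinearMap.ker ρ) (LinearMap.applyₗ y) (perp B (N1 ⊔ U)) (fun D i => mZ D i.1 <| mem_perp_span.2 <| by
      rintro _ ⟨E, j, x, rfl⟩
      have : π (D (π x)) = 0 := LinearMap.congr_fun (show ρ D = 0 from i.2) x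
      rw [pD D i.1, add_eq_zero_iff_eq_neg] at this
      rw [← a.sa D i.1, DpD D i.1 E j, a.cm D i.1 E j, this]; simp [kv E j]) fun D i (e : D y = 0) => LinearMap.ext fun x => by
    have : π (D (π x)) = 0 := LinearMap.congr_fun (show ρ D = 0 from i.2) x
    rw [pD D i.1, a.sa D i.1, e] at this
    simpa [dec D i.1 x, e] using this
  have h6 : finrank F A + finrank F U + 1 ≤ finrank F (A.map ρ) + 2 * (r + 1) := by omega
  obtain ⟨h7, h8⟩ := ar h6 h1 (h2 ▸ Nat.mul_le_mul_left 2 h3)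
  refine ⟨h7, fun z r3 q => ?_⟩
  obtain ⟨eU, h9⟩ := h8 r3 q
  have eA : A.map ρ = S B U := eq_of_le_of_finrank_le aU (by omega)
  have pU : ∀ x ∈ U, π x = x := fun x i => by
    simp [pa, s.sy x, UN i v (mem_sup_left (mem_sup_right (mem_span_singleton_self v))),
      UN i y (mem_sup_right (mem_span_singleton_self y))]
  have ex : ∀ x ∈ U, ∃ D ∈ A, ∀ E ∈ A, ∀ u, E (D (π u)) = B u x • E x := fun x i => by
    obtain ⟨D, j, e⟩ := eA.ge (show r1 B x x ∈ S B U from ⟨fun a b => by simp [s.sy x, mul_comm], fun _ => smul_mem _ _ i⟩)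
    exact ⟨D, j, fun E l u => by rw [← DpD E l D j, ← ra, e]; simp⟩
  choose! D hD eD using ex
  have D0 : ∀ x ∈ U, D x x = 0 := fun x i =>
    (s.sm0 fun u => (eD x i _ (hD x i) u).symm.trans (a.sq _ (hD x i) _)).elim (fun e => by rw [e, map_zero]) id
  have D1 : ∀ x ∈ U, ∀ z ∈ U, D x z = 0 := fun x i z j => by
    have : ∀ w, B w (D x z) • z = B w (D z x) • x := fun w => sub_eq_zero.1 (s.nd _ fun u => by
      have := congrArg (B w) ((eD z j _ (hD x i) u).symm.trans ((a.cm _ (hD x i) _ (hD z j) _).trans (eD x i _ (hD z j) u)))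
      simp only [map_smul, smul_eq_mul, map_sub, LinearMap.sub_apply, LinearMap.smul_apply, s.sy _ u] at this ⊢
      rw [mul_comm, this, mul_comm, sub_self])
    exact (s.sm0 fun w => by simpa [D0 x i] using congrArg (D x) (this w)).elim id id
  have E0 : ∀ E ∈ A, ∀ x ∈ U, E x = 0 := fun E i x j => (s.sm0 fun u => by
    rw [← eD x j E i, a.cm E i _ (hD x j), ← DpD _ (hD x j) E i, D1 x j _ (subset_span ⟨E, i, u, rfl⟩)]).elim
      (fun e => by rw [e, map_zero]) id
  have aZ : ∀ E ∈ A, ∀ x, E x ∈ perp B (N1 ⊔ U) := fun E i x => by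
    rw [perp_sup, perp_sup]; exact ⟨⟨aN E i x, mem_perp_singleton.2 (s.sy _ v ▸ av E i x)⟩, fun w j => by
      rw [← a.sa E i, E0 E i w j]; simp⟩
  have ti : N1 ⊔ U ≤ perp B (N1 ⊔ U) := by
    have vZ : v ∈ perp B (N1 ⊔ U) := by
      rw [perp_sup, perp_sup]; exact ⟨⟨hv, mem_perp_singleton.2 (s.alt v)⟩, fun w j => s.sy _ w ▸
        UN j v (mem_sup_left (mem_sup_right (mem_span_singleton_self v)))⟩
    refine sup_le (sup_le (z ▸ bot_le) ((span_singleton_le_iff_mem ..).2 vZ)) (span_le.2 ?_)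
    rintro _ ⟨E, i, x, rfl⟩
    rw [pD E i]; exact add_mem (aZ E i _) (smul_mem _ _ vZ)
  rw [z, finrank_bot] at d d1
  exact ⟨_, ti, by omega, fun E i => ⟨a.sa E i, fun x => (eq_of_le_of_finrank_le ti (by omega)).ge (aZ E i x)⟩⟩
end Sy

end CF.Dq.P2
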