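import Cfsg.Agent.Dq.B
import Cfsg.Agent.Dq.P2a
import Cfsg.Agent.Ud.J1

/-! Elementary abelian subgroups of maximal order in the semilinear symplectic group. -/

set_option autoImplicit false
set_option linter.unusedSectionVars false
set_option linter.unusedVariables false

namespace CF.Dq

open Subgroup Equiv CF.Loc CF.LX CF.Geom QuadraticMap Module CF.Ud
open CF.Dbl (El)

variable {F : Type} [Field F] [Fintype F] [CharP F 2] {m : ℕ} {θ : F ≃+* F} {g α a b : Perm (Fin m → F)}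
  {A : Subgroup (Perm (Fin m → F))} {T : Submodule F (Fin m → F)}

namespace P2

variable (F m) in
/-- the form as a bilinear map -/
def Bf : (Fin m → F) →ₗ[F] (Fin m → F) →ₗ[F] F := LinearMap.mk₂ F (hf 1) hf_add_l hf_smul_l (fun _ _ _ => hf_add_r ..)
  fun _ _ _ => hf_smul_r ..
theorem Bf_ap (x y : Fin m → F) : Bf F m x y = hf 1 x y := rfl
theorem sy (e : Even m) : Sy (Bf F m) := ⟨fun x => Finset.sum_ninvolution Fin.rev (fun i => by
  simp [mul_comm, CharTwo.add_self_eq_zero]) (fun i _ k => by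
    have := congrArg Fin.val k; rw [Fin.val_rev] at this; obtain ⟨r, e⟩ := e; omega) (fun _ => Finset.mem_univ _) Fin.rev_rev,
  fun x => nd⟩

theorem cs (S : Submodule F (End F (Fin m → F))) : Nat.card S = Nat.card F ^ finrank F S :=
  @Module.natCard_eq_pow_finrank F S _ S.addCommGroup _ _
open _root_.Classical in
/-- the operator `g + 1` -/
noncomputable def dl (g : Perm (Fin m → F)) : End F (Fin m → F) := if h : Sem (1 : F ≃+* F) 1 g then lin h + 1 else 0
theorem dl_ap (h : Sem 1 1 g) (x : Fin m → F) : dl g x = g x + x := by rw [dl, dif_pos h]; rfl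
theorem dl_inj (h : Sem 1 1 a) (k : Sem 1 1 b) (e : dl a = dl b) : a = b :=
  Equiv.ext fun x => add_right_cancel (b := x) (by rw [← dl_ap h, ← dl_ap k, e])
theorem card_le (l : A ≤ GU 1 m) {S : Submodule F (End F (Fin m → F))} (h : ∀ a ∈ A, dl a ∈ S) :
    Nat.card A ≤ Nat.card F ^ finrank F S := by
  have : Finite S := Module.finite_of_finite F
  rw [← cs]
  exact Nat.card_le_card_of_injective (fun a => (⟨dl a.1, h _ a.2⟩ : S)) fun a b e =>
    Subtype.ext (dl_inj (l a.2) (l b.2) (congrArg Subtype.val e))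
theorem card_le2 (l : A ≤ GU 1 m) {S : Submodule F (End F (Fin m → F))} (h : ∀ a ∈ A, dl a ∈ S) (i : Sem 1 θ α) (θ1 : θ ≠ 1)
    (c : ∀ a ∈ A, a * α = α * a) : Nat.card A * Nat.card A ≤ Nat.card F ^ finrank F S := by
  have : Finite S := Module.finite_of_finite F
  obtain ⟨ω, o⟩ : ∃ ω, θ ω ≠ ω := by by_contra! k; exact θ1 (RingEquiv.ext k)
  rw [← cs, ← Nat.card_prod]
  refine Nat.card_le_card_of_injective (fun a => (⟨dl a.1.1 + ω • dl a.2.1, add_mem (h _ a.1.2) (S.smul_mem _ (h _ a.2.2))⟩ : S))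
    fun a b e => ?_
  have e := congrArg Subtype.val e
  have d : ∀ a : A, ∀ x, α (dl a.1 x) = dl a.1 (α x) := fun a x => by
    rw [dl_ap (l a.2), dl_ap (l a.2), i.add, ← Perm.mul_apply, ← c _ a.2, Perm.mul_apply]
  have : dl a.2.1 = dl b.2.1 := LinearMap.ext fun x => by
    obtain ⟨x, rfl⟩ := α.surjective x
    have h1 := LinearMap.congr_fun e (α x)
    have h2 := congrArg α (LinearMap.congr_fun e x)
    simp only [LinearMap.add_apply, LinearMap.smul_apply, i.add, i.smul, d] at h1 h2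
    refine smul_right_injective _ (sub_ne_zero.2 o) ?_
    linear_combination (norm := skip) h2 - h1
    simp only [sub_smul]; abel
  exact Prod.ext (Subtype.ext (dl_inj (l a.1.2) (l b.1.2) (by simpa [this] using e))) (Subtype.ext (dl_inj (l a.2.2) (l b.2.2) this))
theorem ca (l : A ≤ GU 1 m) (e : El A) : Ca (Bf F m) (Submodule.span F (dl '' A)) := by
  have cm : ∀ D ∈ Submodule.span F (dl '' A), ∀ E ∈ Submodule.span F (dl '' (A : Set (Perm (Fin m → F)))), Commute D E :=
    fun D i => Commute.span_right fun E j => Commute.span_left (by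
      obtain ⟨b, j, rfl⟩ := j
      rintro _ ⟨a, i, rfl⟩
      exact LinearMap.ext fun x => by
        simp only [End.mul_apply, dl_ap (l i), dl_ap (l j), (l i).add, (l j).add, ← Perm.mul_apply, el_cm e i j]; abel) D i
  refine ⟨fun D i => (Submodule.span_le.2 ?_ i : D ∈ S (Bf F m) ⊤).1, fun D i E j x => LinearMap.congr_fun (cm D i E j) x,
    fun D i x => ?_⟩
  · rintro _ ⟨a, i, rfl⟩
    refine ⟨fun x y => ?_, fun _ => trivial⟩
    rw [dl_ap (l i), dl_ap (l i), Bf_ap, Bf_ap, hf_add_l, hf_add_r, ← (l i).form1 x (a y), ← Perm.mul_apply, e a i]; rfl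
  induction i using Submodule.span_induction with
  | mem _ i =>
    obtain ⟨a, i, rfl⟩ := i
    rw [dl_ap (l i), dl_ap (l i), (l i).add, ← Perm.mul_apply, e a i, Perm.one_apply, add_comm x, Ud.vv]
  | zero => rfl
  | add D E i j p q =>
    have : D (E x) = E (D x) := LinearMap.congr_fun (cm D i E j) x
    simp [p, q, this, Ud.vv]
  | smul c D _ p => simp [p]
theorem card_W (s : Sy (Bf F m)) (l : Ti 1 T) : Nat.card (WX 1 T) = Nat.card F ^ finrank F (S (Bf F m) T) := by
  refine le_antisymm (card_le (fun _ (i : _ ∈ WX 1 T) => i.1) fun w i => ⟨fun x y => ?_, fun x => dl_ap i.1 x ▸ W_add i x⟩) ?_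
  · rw [dl_ap i.1, dl_ap i.1]; exact W_sa l i x y
  rw [← cs]
  have sq : ∀ D : S (Bf F m) T, ∀ x, D.1 (D.1 x) = 0 := fun D x => s.nd _ fun y => (D.2.1 _ _).trans (l _ (D.2.2 _) _ (D.2.2 _))
  have iv : ∀ D : S (Bf F m) T, Function.Involutive fun x => D.1 x + x := fun D x => by simp [sq, ← add_assoc, Ud.vv]
  refine Nat.card_le_card_of_injective (fun D => (⟨(iv D).toPerm, ⟨fun x y => ?_, fun c x => ?_, fun x y => ?_, fun _ => rfl⟩,
    fun x => by simpa using D.2.2 x⟩ : WX 1 T)) fun D E e => Subtype.ext (LinearMap.ext fun x => ?_)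
  · simp [add_add_add_comm]
  · simp
  · have : hf 1 (D.1 x) y = hf 1 x (D.1 y) := D.2.1 x y
    simp [this, l _ (D.2.2 x) _ (D.2.2 y), add_assoc, ← add_assoc (hf 1 x (D.1 y)), CharTwo.add_self_eq_zero]
  · simpa using congrArg (fun w : WX 1 T => w.1 x) e
theorem idx (l : A ≤ Gam 1 m) : (GU 1 m).relIndex A ≤ Nat.card F := by
  choose! f hθ using show ∀ a ∈ A, ∃ θ, Sem 1 θ a from l
  obtain ⟨g, k⟩ := IsCyclic.exists_monoid_generator (α := Fˣ)
  simpa using cnt1 (A := A) (B := GU 1 m) (ι := Unit) Set.univ (fun a _ => f a g) (fun _ _ _ => trivial) (fun a i b j _ _ e => by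
    have : f a = f b := RingEquiv.ext fun c => by
      by_cases z : c = 0
      · simp [z]
      obtain ⟨n, u⟩ := k (Units.mk0 c z)
      rw [show c = (g : F) ^ n by simpa using congrArg Units.val u.symm, map_pow, map_pow, e]
    change Sem 1 1 _
    simpa [this] using (hθ a i).inv.mul (hθ b j)) fun _ _ _ _ => rfl
end P2

open P2 in
theorem Sm.j2 (s : Sm F m) (h6 : 6 ≤ m) (l : A ≤ Gam 1 m) (e : El A) (c : Nat.card (WW (1 : F ≃+* F) m) ≤ Nat.card A) :
    ∃ T, Ti 1 T ∧ finrank F T = m / 2 ∧ A = WX 1 T := by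
  have y := sy (F := F) s.ev
  have q1 : 1 < Nat.card F := Finite.one_lt_card
  have d := y.S_dim (Vf F m (m / 2))
  rw [card_W y (Vf_ti le_rfl)] at c
  rw [Vf_dim (by omega)] at d
  have sp : ∀ B : Subgroup (Perm (Fin m → F)), ∀ a ∈ B, dl a ∈ Submodule.span F (dl '' B) := fun B a i =>
    Submodule.subset_span ⟨a, i, rfl⟩
  obtain ⟨h1, h2⟩ := y.main (m / 2) ⊥ _ (ca (inf_le_right (a := A)) (el_mono e inf_le_left)) (by simp) (by simp) (by
    obtain ⟨r, e⟩ := s.ev; simp; omega)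
  by_cases z : A ≤ GU 1 m
  · rw [inf_eq_left.2 z] at h2
    obtain ⟨T, t, r, k⟩ := h2 rfl (by omega) (d ▸ Nat.mul_le_mul_left 2 ((Nat.pow_le_pow_iff_right q1).1 (c.trans (card_le z (sp A)))))
    have t : Ti 1 T := fun x i y j => t j x i
    have d' := y.S_dim T
    refine ⟨T, t, r, eq_of_le_of_card_ge (fun a i => ⟨z i, fun x => ?_⟩) ?_⟩
    · rw [vsub, ← dl_ap (z i)]; exact (k (sp A a i)).2 x
    · rw [r, ← d] at d'
      rwa [card_W y t, Nat.eq_of_mul_eq_mul_left two_pos d']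
  obtain ⟨α, i, j⟩ := SetLike.not_le_iff_exists.1 z
  obtain ⟨θ, k⟩ := l i
  have h3 := card_le2 inf_le_right (sp (A ⊓ GU 1 m)) k (fun e => j (e ▸ k : Sem 1 1 α)) fun a u => el_cm e u.1 i
  have h4 := c.trans ((card_ri A (GU 1 m)).ge.trans (Nat.mul_le_mul_left _ (idx l)))
  have h5 := (Nat.mul_le_mul h4 h4).trans ((mul_mul_mul_comm ..).le.trans (Nat.mul_le_mul_right _ h3))
  rw [← pow_two (Nat.card F), ← pow_add, ← pow_add, Nat.pow_le_pow_iff_right q1] at h5
  have : 3 * 4 ≤ m / 2 * (m / 2 + 1) := Nat.mul_le_mul (by omega) (by omega)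
  omega

end CF.Dq
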