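import Cfsg.Agent.Dq.P1

/-! Symplectic groups in characteristic two: involutions acting on the Thompson subgroup. -/

set_option autoImplicit false
set_option linter.unusedSectionVars false
set_option linter.unusedVariables false

namespace CF.Dq

open Subgroup Equiv CF.Loc CF.LX CF.Geom QuadraticMap Module CF.Ud
open scoped commutatorElement

variable {F : Type} [Field F] [Fintype F] [CharP F 2] {m : ℕ} {ξ ξ' w w' : Perm (Fin m → F)} {u v x y n p : Fin m → F}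

namespace P3

theorem inv_eq (e : ξ * ξ = 1) : ξ⁻¹ = ξ := inv_eq_of_mul_eq_one_right e

theorem sa (l : Sem 1 1 ξ) (e : ξ * ξ = 1) (x y : Fin m → F) : hf 1 (ξ x) y = hf 1 x (ξ y) := by
  simpa using inv_sa l e x y

theorem rt {a b : F} (e : a * a = b * b) : a = b := by
  have : (a + b) ^ 2 = 0 := by rw [CharTwo.add_sq, pow_two, pow_two, e, CharTwo.add_self_eq_zero]
  exact CharTwo.add_eq_zero.1 (pow_eq_zero_iff two_ne_zero |>.1 this)

variable (s : Sm F m)
include s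

theorem cV : Nat.card (Vf F m (m / 2)) = Nat.card F ^ (m / 2) := by rw [Module.natCard_eq_pow_finrank (K := F), s.Vl_dim]

theorem mul_ap (i : w ∈ WW 1 m) (j : w' ∈ WW 1 m) (x : Fin m → F) : (w * w') x = w x + (w' x + x) := by
  rw [← s.W_fixV i (W_add j x), ← i.1.add, add_comm (w' x), ← add_assoc, vv, zero_add]; rfl

theorem cm_E (l : Sem 1 1 ξ) (e : ξ * ξ = 1) (hp : p ∈ Vf F m (m / 2)) (f : ∀ x ∈ Vf F m (m / 2), ξ x = x + hf 1 x n • p)
    (hw : w ∈ WW 1 m) : w * ξ * w⁻¹ * ξ⁻¹ = E 1 p (w n + n) (hf 1 (w n + n) n) := Equiv.ext fun a => by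
  have ee : ξ (ξ a) = a := DFunLike.congr_fun e a
  have h1 := W_add hw (ξ a)
  have h2 : w (ξ a) + ξ a = w a + a + hf 1 a p • (w n + n) := hf_ext (σ := 1) fun y => by
    rw [W_sa s.Vl_ti hw, sa l e, f _ (W_add hw y), hf_add_l _ (_ • _), W_sa s.Vl_ti hw a, hf_smul_l, hf_add_r _ (_ • _), hf_smr,
      W_sa s.Vl_ti hw n, hf_comm n, mul_comm]
  have h3 : w (ξ a) = ξ a + (w (ξ a) + ξ a) := by rw [add_comm (w _), ← add_assoc, vv, zero_add]
  rw [inv_eq e, inv_eq (W_sq s.Vl_ti hw), E_ap (s.ok (s.Vl_ti _ (W_add hw n) _ hp) _)]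
  change w (ξ (w (ξ a))) = _
  rw [h3, l.add, ee, f _ h1, hw.1.add, s.W_fixV hw (add_mem h1 (Submodule.smul_mem _ _ hp)), h2, hf_add_l _ (_ • _),
    hf_smul_l, W_sa s.Vl_ti hw a, mul_comm, ← add_assoc, ← add_assoc, ← add_assoc, vv, zero_add]

end P3
open P3

namespace Sm
variable (s : Sm F m)
include s

theorem cm_le (i : p ∈ Vf F m (m / 2)) (p0 : p ≠ 0) (e : hf 1 n p = 0) :
    (Cm (E 1 p n 0)).ncard * Nat.card F ≤ Nat.card F ^ (m / 2) := by
  have k : ∀ c : Cm (E 1 p n 0), ∃ z ∈ Vf F m (m / 2), c.1 = E 1 p z (hf 1 z n) := fun ⟨_, w, hw, c⟩ =>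
    ⟨_, W_add hw n, c.trans (cm_E s (E_sem ..) (s.E_sq ..) i (fun x hx => by
      rw [s.E0_ap e, s.Vl_ti _ hx _ i, zero_smul, add_zero]) hw)⟩
  choose z z1 z2 using k
  have sh : ∀ c (a : F), E 1 p (z c + a • p) (hf 1 (z c + a • p) n) = c.1 := fun c a => by
    rw [z2, ← E_shift (s.ok (s.Vl_ti _ (z1 c) _ i) _) a]
    simp [hf_sw e, add_assoc, CharTwo.add_self_eq_zero]
  rw [← Nat.card_coe_set_eq, ← Nat.card_prod, ← cV s]
  refine Nat.card_le_card_of_injective (fun c => ⟨z c.1 + c.2 • p, add_mem (z1 _) (Submodule.smul_mem _ _ i)⟩) ?_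
  rintro ⟨c, a⟩ ⟨d, b⟩ h
  replace h : z c + a • p = z d + b • p := congrArg Subtype.val h
  obtain rfl : c = d := Subtype.ext (by rw [← sh c a, h, sh])
  rw [smul_left_injective F p0 (add_left_cancel h)]

theorem cm_rk (l : Sem 1 1 ξ) (i : ξ ∈ 𝐍(WW 1 m)) (e : ξ * ξ = 1) (c : (Cm ξ).ncard * Nat.card F ≤ Nat.card F ^ (m / 2)) :
    ∃ p n, ∀ x ∈ Vf F m (m / 2), ξ x = x + hf 1 x n • p := by
  have nv := (s.W_norm ⟨1, l⟩).1 i
  have dd : ∀ x, ξ x = x + (ξ x + x) := fun x => by rw [add_comm (ξ x), ← add_assoc, vv, zero_add]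
  by_cases h : ∀ y ∈ Vf F m (m / 2), ξ y + y = 0
  · exact ⟨0, 0, fun x hx => by rw [dd, h x hx, smul_zero]⟩
  push Not at h
  obtain ⟨y, hy, y0⟩ := h
  by_cases h : ∀ x ∈ Vf F m (m / 2), ∃ a : F, ξ x + x = a • (ξ y + y)
  · obtain ⟨g, k⟩ := s.partner y0
    refine ⟨ξ y + y, ξ g + g, fun x hx => ?_⟩
    obtain ⟨a, j⟩ := h x hx
    rw [← inv_sa l e, j, hf_smul_l, hf_comm, k, mul_one, ← j, ← dd]
  push Not at h
  obtain ⟨y', hy', k⟩ := h
  have li : LinearIndependent F ![y, ξ y + y] := LinearIndependent.pair_iff.2 fun a b j => by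
    have := congrArg (fun x => ξ x + x) j
    simp only [l.add, l.smul1, l.add _ _ ▸ inv_D l e y, l.zero, add_zero] at this
    obtain rfl : a = 0 := (smul_eq_zero.1 (show a • (ξ y + y) = 0 by
      rw [← this, add_add_add_comm, vv, add_zero, smul_add])).resolve_right y0
    exact ⟨rfl, (smul_eq_zero.1 (by simpa using j)).resolve_right y0⟩
  obtain ⟨f1, a1, b1⟩ := s.dual2 li 1 0
  obtain ⟨f2, a2, b2⟩ := s.dual2 li 0 1
  have mV : ∀ a b : F, a • y + b • y' ∈ Vf F m (m / 2) := fun a b => add_mem (Submodule.smul_mem _ _ hy) (Submodule.smul_mem _ _ hy')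
  have mW : ∀ x ∈ Vf F m (m / 2), ∀ z ∈ Vf F m (m / 2), E 1 y x 0 * E 1 z 0 1 ∈ WW 1 m := fun x hx z hz =>
    mul_mem (s.W_mem hy hx 0) (s.W_mem hz (zero_mem _) 1)
  have ap : ∀ x ∈ Vf F m (m / 2), ∀ z ∈ Vf F m (m / 2), ∀ v,
      (E 1 y x 0 * E 1 z 0 1 * ξ * (E 1 y x 0 * E 1 z 0 1)⁻¹ * ξ⁻¹) v = v + (hf 1 v y • x + hf 1 v x • y + hf 1 v (ξ y) • ξ x +
        hf 1 v (ξ x) • ξ y) + (hf 1 v z • z + hf 1 v (ξ z) • ξ z) := fun x hx z hz v => by
    have m1 := s.W_mem hy hx 0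
    have m2 := s.W_mem hz (zero_mem _) 1
    have m3 := s.W_mem (nv _ hy) (nv _ hx) 0
    have m4 := s.W_mem (nv _ hz) (zero_mem _) 1
    rw [inv_eq (W_sq s.Vl_ti (mW x hx z hz)), mul_assoc, mul_assoc, ← mul_assoc ξ, ← conj_mul, E_cj1 l, E_cj1 l, l.zero,
      mul_ap s (mul_mem m1 m2) (mul_mem m3 m4), mul_ap s m1 m2, mul_ap s m3 m4, s.E0_ap (s.Vl_ti _ hx _ hy),
      s.E0_ap (s.Vl_ti _ (nv _ hx) _ (nv _ hy)), s.tv_ap, s.tv_ap, one_mul, one_mul]
    have := vv v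
    grind
  have := Nat.card_le_card_of_injective (α := Vf F m (m / 2) × F × F) (β := Cm ξ × F × F)
    (fun t => (⟨_, _, mW t.1 t.1.2 _ (mV t.2.1 t.2.2), rfl⟩, hf 1 f1 t.1, hf 1 f2 t.1)) (by
      rintro ⟨⟨x, hx⟩, a, b⟩ ⟨⟨x', hx'⟩, a', b'⟩ j
      simp only [Prod.mk.injEq, Subtype.mk.injEq] at j ⊢
      obtain ⟨j, j1, j2⟩ := j
      replace j := fun v => add_left_cancel (((add_assoc ..).symm.trans (ap x hx _ (mV a b) v).symm).trans
        ((DFunLike.congr_fun (congrArg Subtype.val j) v).trans ((ap x' hx' _ (mV a' b') v).trans (add_assoc ..))))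
      have h2 : ξ (a • y + b • y') + (a • y + b • y') = ξ (a' • y + b' • y') + (a' • y + b' • y') := hf_ext (σ := 1) fun v => by
        have := congrArg (hf 1 v) (j v)
        generalize a • y + b • y' = z at *
        generalize a' • y + b' • y' = z' at *
        simp only [hf_add_r, hf_smr] at this
        rw [hf_comm, hf_comm _ v, hf_add_r, hf_add_r]
        exact rt (by grind)
      simp only [l.add, l.smul1] at h2
      obtain rfl : b = b' := by_contra fun n => k ((a + a') / (b + b')) (by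
        have n' : b + b' ≠ 0 := fun h => n (CharTwo.add_eq_zero.1 h)
        refine smul_right_injective _ n' ?_
        simp only [smul_smul, mul_div_cancel₀ _ n']
        have := vv (a • ξ y)
        have := vv (a • y)
        have := vv (b' • ξ y')
        have := vv (b' • y')
        simp only [smul_add, add_smul]
        grind)
      obtain rfl : a = a' := smul_left_injective F y0 (by
        simp only [smul_add]
        grind)
      refine ⟨?_, rfl, rfl⟩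
      have c1 : hf 1 f1 (ξ y) = 1 := by rw [dd, hf_add_r, a1, b1, add_zero]
      have c2 : hf 1 f2 (ξ y) = 1 := by rw [dd, hf_add_r, a2, b2, zero_add]
      have k1 := add_right_cancel (j f1)
      have k2 := add_right_cancel (j f2)
      rw [a1, c1, j1] at k1
      rw [a2, c2, j2] at k2
      simp only [one_smul, zero_smul] at k1 k2
      have k3 : x + (hf 1 f1 (ξ x) + hf 1 f2 (ξ x')) • ξ y = x' + (hf 1 f1 (ξ x') + hf 1 f2 (ξ x)) • ξ y := by
        simp only [add_smul]; grind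
      have k4 := congrArg (hf 1 f1) k3
      simp only [hf_add_r, hf_smr, c1, j1, mul_one, add_right_inj] at k4
      rw [k4] at k3
      exact add_right_cancel k3)
  simp only [Nat.card_prod, cV s, Nat.card_coe_set_eq] at this
  have h1 := Nat.le_of_mul_le_mul_right this (by have := Nat.card_pos (α := F); positivity)
  have h2 : 2 ≤ Nat.card F := Finite.one_lt_card
  have h3 : 0 < Nat.card F ^ (m / 2) := by positivity
  nlinarith

theorem cm_two (l : Sem 1 1 ξ) (i : ξ ∈ 𝐍(WW 1 m)) (e : ξ * ξ = 1) (l' : Sem 1 1 ξ') (i' : ξ' ∈ 𝐍(WW 1 m)) (e' : ξ' * ξ' = 1)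
    (c : ξ * ξ' = ξ' * ξ) (f : ∀ x ∈ Vf F m (m / 2), ξ x = x + hf 1 x n • p) (f' : ∀ x ∈ Vf F m (m / 2), ξ' x = x + hf 1 x u • v)
    (hw : w ∈ WW 1 m) : ⁅⁅w, ξ⁆, ξ'⁆ = 1 ∨ ∃ g ∈ SU 1 m, g * ⁅⁅w, ξ⁆, ξ'⁆ * g⁻¹ = E 1 (bv 0) (bv 1) 0 := by
  have nv := (s.W_norm ⟨1, l⟩).1 i
  have nv' := (s.W_norm ⟨1, l'⟩).1 i'
  by_cases h : ∀ x ∈ Vf F m (m / 2), hf 1 x n • p = 0
  · refine .inl ?_
    rw [commutatorElement_eq_one_iff_mul_comm.2 (s.W_cent l (fun x hx => by rw [f x hx, h x hx, add_zero]) w hw),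
      commutatorElement_one_left]
  push Not at h
  obtain ⟨x, hx, x0⟩ := h
  have n0 := left_ne_zero_of_smul x0
  have p0 := right_ne_zero_of_smul x0
  have hp : p ∈ Vf F m (m / 2) := (Submodule.smul_mem_iff _ n0).1 ((Submodule.add_mem_iff_right _ hx).1 (f x hx ▸ nv x hx))
  have k : ξ' p = p := by
    have j : ξ (ξ' x) = ξ' (ξ x) := DFunLike.congr_fun c x
    rw [f _ (nv' x hx), f x hx, l'.add, l'.smul1, add_right_inj] at j
    replace j : ξ' p = (hf 1 (ξ' x) n / hf 1 x n) • p := smul_right_injective _ n0 (by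
      simp only [smul_smul, mul_div_cancel₀ _ n0, j])
    generalize hf 1 (ξ' x) n / hf 1 x n = a at j
    have : ξ' (ξ' p) = p := DFunLike.congr_fun e' p
    rw [j, l'.smul1, j, smul_smul] at this
    rw [j, rt (a := a) (b := 1) (smul_left_injective F p0 (by simpa using this)), one_smul]
  have hz := W_add hw n
  rw [commutatorElement_def w, cm_E s l e hp f hw, commutatorElement_def, inv_eq (s.E_sq ..), mul_assoc, mul_assoc, ← mul_assoc ξ',
    E_cj1 l', k, E_mul (s.ok (s.Vl_ti _ hz _ hp) _) (s.ok (s.Vl_ti _ (nv' _ hz) _ hp) _), s.Vl_ti _ (nv' _ hz) _ hz,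
    CharTwo.add_self_eq_zero, add_zero]
  have hy := add_mem hz (nv' _ hz)
  generalize w n + n + ξ' (w n + n) = y at *
  by_cases li : LinearIndependent F ![p, y]
  · obtain ⟨g, hg, a, b⟩ := s.wittP li s.li01 ((s.Vl_ti _ hp _ hy).trans s.b01.symm)
    exact .inr ⟨g, hg, by rw [E_cj1 (su_sem hg), a, b]⟩
  · rw [LinearIndependent.pair_iff' p0] at li
    push Not at li
    obtain ⟨a, rfl⟩ := li
    exact .inl (by simpa [CharTwo.add_self_eq_zero, E_zero] using E_shift (s.okt p 0) a)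

end Sm
end CF.Dq
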