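import Cfsg.Agent.Dq.S2a
import Cfsg.Agent.Dq.M5
import Cfsg.Agent.Dq.T1a

/-! The orthogonal group generated by the symplectic group, the reflection and the Siegel transformations. -/

set_option autoImplicit false
set_option linter.unusedSectionVars false
set_option linter.unusedVariables false

namespace CF.Dq

open Subgroup Equiv CF.Loc CF.LX CF.Geom QuadraticMap Module CF.Ud
open CF.Phan (HomOn)
open scoped commutatorElement

variable {F : Type} [Field F] [Fintype F] [CharP F 2] {m : ℕ} {a b c κ : F} {g : Perm (Fin m → F)} {u v w x : Fin m → F}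
  {G : Type*} [Group G] [Finite G] {ρ : SU (1 : F ≃+* F) m →* G} {t : G} {j : (Fin m → F) → G}
  {ι : SU (1 : F ≃+* F) m →* OG (Qh m κ)} {p q k : OG (Qh m κ)} {y z : (Fin m → F) × F × F}

namespace S2

/-- the additional Eichler transformations -/
noncomputable abbrev nn (κ : F) (u : Fin m → F) : OG (Qh m κ) := ei (Qh m κ) (u, 0, 0) (0, 0, 1)

variable (m) in
/-- the basic reflection -/
noncomputable abbrev rr (κ : F) : OG (Qh m κ) := oRefl (Qh m κ) (0, 1, 0)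

variable (m) in
/-- the stabiliser of the basic vector -/
noncomputable abbrev Ks (κ : F) : Subgroup (OG (Qh m κ)) := MulAction.stabilizer _ ((0, 1, 0) : (Fin m → F) × F × F)

theorem mK : k ∈ Ks m κ ↔ k.1 (0, 1, 0) = (0, 1, 0) := Iff.rfl

theorem qr : Qh m κ (0, 1, 0) = 1 := by simp [Qh_ap]

theorem prr (y : (Fin m → F) × F × F) : polar (Qh m κ) (0, 1, 0) y = y.2.2 := by
  obtain ⟨x, a, b⟩ := y
  simp [Qh_pol]

theorem rr_ap (x : Fin m → F) (a : F) : (rr m κ).1 (x, a, 0) = (x, a, 0) := by simp [refl_ap, prr]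

theorem rK : rr m κ ∈ Ks m κ := rr_ap 0 1

theorem rc (h : k ∈ Ks m κ) : k * rr m κ = rr m κ * k := by
  rw [← mul_inv_eq_iff_eq_mul, conj_oRefl, mK.1 h]

theorem nn0 : nn κ (0 : Fin m → F) = 1 := og_ext fun y => by
  rw [nn, ei_ap (by simp [Qh_ap]) (by simp [Qh_pol])]
  simp [show ((0, 0, 0) : (Fin m → F) × F × F) = 0 from rfl]

theorem nn2 (u : Fin m → F) : nn κ u * nn κ u = 1 := ei_sq ..

theorem inv_ap (h : k.1 y = z) : k⁻¹.1 z = y := by rw [← h, ← og_mul, inv_mul_cancel, og_one]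

theorem sing (h : Qh m κ y = 1) (e : y.2.2 = 0) (i : Q0 F m y.1 = 0) : y = (y.1, 1, 0) := by
  obtain ⟨x, a, b⟩ := y
  obtain rfl : b = 0 := e
  rw [Qh_ap, show Q0 F m x = 0 from i] at h
  rw [rt_eq (a := a) (b := 1) (by simpa using h)]

variable (s : Sm F m)
include s

theorem nn_ap (hu : Q0 F m u = 0) (e : hf 1 u x = 0) (a : F) : (nn κ u).1 (x, a, 0) = (x + a • u, a, 0) := by
  rw [nn, ei_ap (by simp [Qh_ap, hu]) (by simp [Qh_pol])]
  simp [Qh_pol, s.pol, e]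

theorem nn_r (hu : Q0 F m u = 0) : (nn κ u).1 (0, 1, 0) = (u, 1, 0) := by simpa using nn_ap (κ := κ) s hu (hf_zero_r u) 1

theorem nn_u (hu : Q0 F m u = 0) : (nn κ u).1 (u, 0, 0) = (u, 0, 0) := by simpa using nn_ap (κ := κ) s hu (s.iso u) 0

theorem nn_K (hu : Q0 F m u = 0) (h : k ∈ Ks m κ) (e : k.1 (u, 0, 0) = (u, 0, 0)) : nn κ u * k * (nn κ u)⁻¹ ∈ Ks m κ := by
  have : ((u, 1, 0) : (Fin m → F) × F × F) = (u, 0, 0) + (0, 1, 0) := by simp
  rw [mK, ei_inv, og_mul, og_mul, nn_r s hu, this, map_add, e, mK.1 h, ← this, ← nn_r (κ := κ) s hu, ← og_mul, nn2, og_one]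

theorem mv (hu : Q0 F m u = 0) (hw : Q0 F m w = 0) (hp : p ∈ Ks m κ) (hq : q ∈ Ks m κ) (e : p * nn κ u = nn κ w * q) :
    p.1 (u, 0, 0) = (w, 0, 0) := by
  have := congrArg (fun k : OG (Qh m κ) => k.1 (0, 1, 0)) e
  simp only [og_mul, mK.1 hq, nn_r s hu, nn_r s hw] at this
  rw [show ((u, 1, 0) : (Fin m → F) × F × F) = (u, 0, 0) + (0, 1, 0) by simp, map_add, mK.1 hp] at this
  exact add_right_cancel (this.trans (by simp))

variable (i : Io κ ι)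
include i

omit s in
theorem iK (g : Perm (Fin m → F)) : up ι g ∈ Ks m κ := by
  obtain ⟨g, e⟩ := up_range (φ := ι) g
  exact e ▸ i.fx g

omit s in
theorem i_ap (h : g ∈ SU 1 m) (x : Fin m → F) (a : F) : ∃ b, (up ι g).1 (x, a, 0) = (g x, b, 0) := by
  have e : ((x, a, 0) : (Fin m → F) × F × F) = (x, 0, 0) + a • (0, 1, 0) := by simp
  refine ⟨((up ι g).1 (x, a, 0)).2.1, Prod.ext ?_ (Prod.ext rfl ?_)⟩
  · rw [e, map_add, map_smul, mK.1 (iK i g), up_eq h]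
    simpa using i.ap ⟨g, h⟩ x
  · rw [← prr (κ := κ), ← mK.1 (iK i g), OG_polar, prr]

omit s in
theorem i_Y (hu : Q0 F m u = 0) (h : g ∈ Y 1 u) : (up ι g).1 (u, 0, 0) = (u, 0, 0) := by
  obtain ⟨b, e⟩ := i_ap i (mem_Y.1 h).1 u 0
  have := OG_map (up ι g) (u, 0, 0)
  rw [e, (mem_Y.1 h).2] at this ⊢
  rw [rt_eq (a := b) (b := 0) (by simpa [Qh_ap] using this)]

omit s in
theorem i_inj : Function.Injective ι := fun g g' e =>
  Subtype.ext (Equiv.ext fun x => by rw [← i.ap, e, i.ap])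

theorem i_ne (g g' : SU (1 : F ≃+* F) m) : ι g ≠ ι g' * rr m κ := fun e =>
  (s.os κ).refl_nm (qr (κ := κ) ▸ one_ne_zero) (by
    have := mul_mem (inv_mem (i.om g')) (i.om g)
    rwa [e, inv_mul_cancel_left] at this)

theorem i_V (h : g ∈ SU 1 m) (hy : Qh m κ y = 1) (e : y.2.2 = 0) (l : g y.1 ∈ Vf F m (m / 2)) : (up ι g).1 y = (g y.1, 1, 0) := by
  obtain ⟨x, a, b⟩ := y
  obtain rfl : b = 0 := e
  obtain ⟨b, e⟩ := i_ap i h x a
  rw [← OG_map (up ι g), e] at hy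
  exact e.trans (sing hy rfl (s.q0_Vf l))

theorem dec (e : (k.1 (0, 1, 0)).2.2 = 0) : ∃ p ∈ Ks m κ, ∃ q ∈ Ks m κ, ∃ u, Q0 F m u = 0 ∧ k = p * nn κ u * q := by
  obtain ⟨g, h, l, -⟩ := s.witt2 (s.iso (k.1 (0, 1, 0)).1)
  have := i_V s i h ((OG_map ..).trans qr) e l
  refine ⟨_, inv_mem (iK i g), nn κ (g (k.1 (0, 1, 0)).1) * up ι g * k, ?_, _, s.q0_Vf l, ?_⟩
  · rw [mK, og_mul, og_mul, this, ← nn_r (κ := κ) s (s.q0_Vf l), ← og_mul, nn2, og_one]
  · rw [mul_assoc, ← mul_assoc (nn κ _), ← mul_assoc (nn κ _), nn2, one_mul, inv_mul_cancel_left]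

theorem nn_cj (h : g ∈ O1 F m) (u : Fin m → F) : up ι g * nn κ u * (up ι g)⁻¹ = nn κ (g u) := by
  rw [ei_cj, i.o1 g h, i.o1 g h, (su_sem (s.O1_le h)).zero]

omit i in
theorem two (k : OG (Qh m κ)) : ∃ p q : OG (Qh m κ), (p.1 (0, 1, 0)).2.2 = 0 ∧ (q.1 (0, 1, 0)).2.2 = 0 ∧ k = p * q := by
  obtain ⟨c, h, e, e', -⟩ := h3 (s.os κ) qr (k.1 (0, 1, 0)) 0
  obtain ⟨p, rfl⟩ := tr1 (s.os κ) qr h
  refine ⟨p, p⁻¹ * k, (prr _).symm.trans e, ?_, by group⟩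
  rw [← prr (κ := κ), ← OG_polar p, ← og_mul, mul_inv_cancel_left]
  exact pol_sw e'

end S2
open S2

theorem Sm.o_gen (s : Sm F m) {H : Subgroup (OG (Qh m κ))} (l : ∀ w c, Q0 F m w + c * c = 1 → oRefl (Qh m κ) (w, c, 0) ∈ H)
    (i : ei (Qh m κ) (bv 0, 0, 0) (0, 0, 1) ∈ H) : H = ⊤ := by
  obtain ⟨ι, o⟩ := s.ex_io κ
  have r := l 0 1 (by simp)
  have a : SU 1 m ≤ (H.comap ι).map (SU 1 m).subtype := SU_iso iv1 fun v a h _ => by
    obtain ⟨d, rfl⟩ := ex_rt a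
    obtain ⟨c, e⟩ := ex_rt (1 + Q0 F m (d • v))
    have e' : Q0 F m (d • v) + c * c = 1 := by rw [e, add_left_comm, CharTwo.add_self_eq_zero, add_zero]
    have k : E 1 (d • v) 0 1 = E 1 v 0 (d * d) := by simpa using tv_smul iv1 h (a := 1) rfl d
    refine ⟨⟨_, tv_SU _ _⟩, ?_, rfl⟩
    rw [SetLike.mem_coe, mem_comap, ← up_eq, ← k, o.tv _ _ e']
    exact mul_mem (l _ _ e') r
  have b : ∀ g, ι g ∈ H := fun g => by
    obtain ⟨g', h, e⟩ := a g.2
    exact Subtype.ext e ▸ h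
  have c : Ks m κ ≤ H := fun k h => by
    obtain ⟨g, rfl | rfl⟩ := o.sur k h
    exacts [b g, mul_mem (b g) r]
  have h4 := s.h4
  have d : ∀ u, Q0 F m u = 0 → nn κ u ∈ H := fun u h => by
    obtain rfl | u0 := eq_or_ne u 0
    · exact nn0 (κ := κ) ▸ one_mem H
    obtain ⟨g, n, rfl⟩ := s.O1_tr (u := bv 0) (fun e => by simpa [bv] using congrFun e ⟨0, by omega⟩)
      (s.q0_Vf (bv_mem (by omega))) u0 h
    exact nn_cj s o n _ ▸ mul_mem (mul_mem (c (iK o g)) i) (inv_mem (c (iK o g)))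
  have e : ∀ k : OG (Qh m κ), (k.1 (0, 1, 0)).2.2 = 0 → k ∈ H := fun k h => by
    obtain ⟨p, hp, q, hq, u, hu, rfl⟩ := dec s o h
    exact mul_mem (mul_mem (c hp) (d u hu)) (c hq)
  refine eq_top_iff.2 fun k _ => ?_
  obtain ⟨p, q, hp, hq, rfl⟩ := two s k
  exact mul_mem (e p hp) (e q hq)

namespace S2

/-- the homomorphism on the stabiliser -/
structure Ff (ρ : SU (1 : F ≃+* F) m →* G) (t : G) (ι : SU (1 : F ≃+* F) m →* OG (Qh m κ)) (f : OG (Qh m κ) → G) : Prop where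
  io : ∀ g, f (ι g) = ρ g
  ir : ∀ g, f (ι g * rr m κ) = ρ g * t
  hom : HomOn f (Ks m κ)

theorem ex_f (h : TB ρ t) (i : Io κ ι) : ∃ f, Ff ρ t ι f := by
  classical
  have s := h.toSm
  obtain ⟨f, a, b⟩ : ∃ f : OG (Qh m κ) → G, (∀ g, f (ι g) = ρ g) ∧ ∀ g, f (ι g * rr m κ) = ρ g * t := by
    refine ⟨fun k => if e : ∃ g, k = ι g then ρ e.choose else if e : ∃ g, k = ι g * rr m κ then ρ e.choose * t else 1,
      fun g => ?_, fun g => ?_⟩
    · have e : ∃ g', ι g = ι g' := ⟨g, rfl⟩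
      simp only [dif_pos e]
      rw [← i_inj i e.choose_spec]
    · have e : ∃ g', ι g * rr m κ = ι g' * rr m κ := ⟨g, rfl⟩
      simp only [dif_neg (fun ⟨g', e⟩ => i_ne s i g' g e.symm : ¬ ∃ g', ι g * rr m κ = ι g'), dif_pos e]
      rw [← i_inj i (mul_right_cancel e.choose_spec)]
  have c : ∀ g, rr m κ * ι g = ι g * rr m κ := fun g => (rc (i.fx g)).symm
  have d : ∀ g, t * ρ g = ρ g * t := fun g => (h.cm _ ⟨g, rfl⟩).symm
  refine ⟨f, a, b, fun k hk k' hk' => ?_⟩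
  obtain ⟨g, rfl | rfl⟩ := i.sur k hk <;> obtain ⟨g', rfl | rfl⟩ := i.sur k' hk'
  · rw [← map_mul, a, a, a, map_mul]
  · rw [← mul_assoc, ← map_mul, a, b, b, map_mul, mul_assoc]
  · rw [mul_assoc, c, ← mul_assoc, ← map_mul, a, b, b, map_mul, mul_assoc, mul_assoc, d]
  · rw [mul_assoc, ← mul_assoc (rr m κ), c, mul_assoc (ι g'), oRefl_mul_self, mul_one, ← map_mul, a, b, b, map_mul,
      mul_assoc, ← mul_assoc t, d, mul_assoc (ρ g'), h.t2, mul_one]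

variable {f : OG (Qh m κ) → G}

theorem Ff.up (e : Ff ρ t ι f) (g : Perm (Fin m → F)) : f (up ι g) = up ρ g := by
  by_cases h : g ∈ SU 1 m
  · rw [up_eq h, up_eq h, e.io]
  · rw [Ud.up, Ud.up, dif_neg h, dif_neg h, e.hom.one]

theorem Ff.rr (e : Ff ρ t ι f) : f (rr m κ) = t := by simpa using e.ir 1

variable (h : J1 ρ t j κ) (i : Io κ ι) (e : Ff ρ t ι f)
include h i e

theorem cj_r (hu : Q0 F m u = 0) : j u * f (rr m κ) * (j u)⁻¹ = f (nn κ u * rr m κ * (nn κ u)⁻¹) := by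
  rw [conj_oRefl, nn_r h.toSm hu, eq_mul_inv_of_mul_eq (i.tv u 1 (by simp [hu])).symm, oRefl_inv, e.hom _ (iK i _) _ rK, e.rr, e.up,
    h.tw u hu]
  exact (h.cm _ (up_range _)).symm

theorem cj_Y (u0 : u ≠ 0) (hu : Q0 F m u = 0) (l : g ∈ Y 1 u) : j u * up ρ g * (j u)⁻¹ = f (nn κ u * up ι g * (nn κ u)⁻¹) := by
  have s := h.toSm
  have nk : ∀ g ∈ Y 1 u, nn κ u * up ι g * (nn κ u)⁻¹ ∈ Ks m κ := fun g l => nn_K s hu (iK i g) (i_Y i hu l)
  let H : Subgroup (Perm (Fin m → F)) :=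
    { carrier := {g | g ∈ Y 1 u ∧ j u * up ρ g * (j u)⁻¹ = f (nn κ u * up ι g * (nn κ u)⁻¹)}
      one_mem' := ⟨one_mem _, by simp [e.hom.one]⟩
      mul_mem' := fun {a b} x y => ⟨mul_mem x.1 y.1, by
        rw [up_mul x.1.1 y.1.1, up_mul x.1.1 y.1.1, ← conj_mul, ← conj_mul, e.hom _ (nk _ x.1) _ (nk _ y.1), x.2, y.2]⟩
      inv_mem' := fun {a} x => ⟨inv_mem x.1, by
        rw [up_inv x.1.1, up_inv x.1.1, ← conj_inv, ← conj_inv, e.hom.inv (nk _ x.1), x.2]⟩ }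
  refine (s.Y_gen (H := H) u0 (fun w k => ⟨mem_Y.2 ⟨tv_SU _ _, E_fix (hf_swap iv1 k) (hf_zero_r _) _⟩, ?_⟩) l).2
  obtain ⟨c, d⟩ := ex_rt (1 + Q0 F m w)
  have d' : Q0 F m w + c * c = 1 := by rw [d, add_left_comm, CharTwo.add_self_eq_zero, add_zero]
  have d2 : Q0 F m (w + c • u) + c * c = 1 := by
    rw [quad_add, quad_smul, hu]; simpa [s.pol, k] using d'
  rw [h.ac u w c hu k d, i.tv w c d', ← conj_mul, conj_oRefl, conj_oRefl, nn_ap s hu (hf_swap iv1 k), nn_r s hu,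
    eq_mul_inv_of_mul_eq (i.tv _ c d2).symm, eq_mul_inv_of_mul_eq (i.tv u 1 (by simp [hu])).symm, oRefl_inv, mul_assoc,
    ← mul_assoc (oRefl _ _), ← rc (iK i _), mul_assoc _ (rr m κ), oRefl_mul_self, mul_one, e.hom _ (iK i _) _ (iK i _), e.up, e.up]

theorem cj_K (u0 : u ≠ 0) (hu : Q0 F m u = 0) (hk : k ∈ Ks m κ) (l : k.1 (u, 0, 0) = (u, 0, 0)) :
    j u * f k * (j u)⁻¹ = f (nn κ u * k * (nn κ u)⁻¹) := by
  obtain ⟨g, rfl | rfl⟩ := i.sur k hk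
  · rw [e.io, ← up_coe, ← up_coe (φ := ι)]
    exact cj_Y h i e u0 hu (mem_Y.2 ⟨g.2, (i.ap g u).symm.trans (congrArg Prod.fst l)⟩)
  · rw [og_mul, rr_ap] at l
    rw [e.ir, ← conj_mul, ← conj_mul, e.hom _ (nn_K h.toSm hu (i.fx g) l) _ (nn_K h.toSm hu rK (rr_ap ..)), ← cj_r h i e hu, e.rr,
      ← up_coe, ← up_coe (φ := ι), cj_Y h i e u0 hu (mem_Y.2 ⟨g.2, (i.ap g u).symm.trans (congrArg Prod.fst l)⟩)]

theorem r0 (hu : Q0 F m u = 0) (hw : Q0 F m w = 0) (hp : p ∈ Ks m κ) (hq : q ∈ Ks m κ) (r : p * nn κ u = nn κ w * q) :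
    f p * j u = j w * f q := by
  have s := h.toSm
  have a := mv s hu hw hp hq r
  obtain rfl | u0 := eq_or_ne u 0
  · obtain rfl : 0 = w := congrArg Prod.fst ((map_zero p.1).symm.trans a)
    rw [nn0, mul_one, one_mul] at r
    rw [h.zero, r, mul_one, one_mul]
  have w0 : w ≠ 0 := by
    rintro rfl
    exact u0 (congrArg Prod.fst (p.1.injective (a.trans (map_zero p.1).symm)))
  obtain ⟨g, n, rfl⟩ := s.O1_tr u0 hu w0 hw
  have b := mul_mem (inv_mem (iK i g)) hq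
  have c : nn κ u * ((up ι g)⁻¹ * q) * (nn κ u)⁻¹ = (up ι g)⁻¹ * p := by
    rw [eq_mul_inv_of_mul_eq r, ← nn_cj s i n]; group
  have d := cj_K h i e u0 hu b (by
    rw [show (up ι g)⁻¹ * q = (nn κ u)⁻¹ * ((up ι g)⁻¹ * p) * nn κ u by rw [← c]; group, og_mul, og_mul, og_mul, nn_u s hu, a,
      inv_ap (i.o1 g n u 0 0), inv_ap (nn_u s hu)])
  rw [c, e.hom _ (inv_mem (iK i g)) _ hq, e.hom _ (inv_mem (iK i g)) _ hp, e.hom.inv (iK i g), e.up] at d
  rw [← h.eqv g n u hu, ← mul_inv_cancel_left (up ρ g) (f p), ← d]; group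

end S2

theorem J1.ph (k : J1 ρ t j κ) : ∃ ι Φ, Ph ρ t j κ ι Φ := by
  have s := k.toSm
  have o := s.os κ
  obtain ⟨ι, i⟩ := s.ex_io κ
  obtain ⟨f, e⟩ := ex_f k.toTB i
  have r0' : ∀ u, Q0 F m u = 0 → ∃ p ∈ Ks m κ, ∃ q ∈ Ks m κ, ∃ w, Q0 F m w = 0 ∧ nn κ u = p * nn κ w * q ∧ j u = f p * j w * f q :=
    fun u h => ⟨1, one_mem _, 1, one_mem _, u, h, by simp, by simp [e.hom.one]⟩
  obtain ⟨Φ, a, b⟩ := S2.ext (K := Ks m κ) (x₀ := ((0, 1, 0) : (Fin m → F) × F × F)) (P := fun x => Qh m κ x = 1)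
    (A := fun x y => polar (Qh m κ) x y = 0)
    (R := fun g h => ∃ p ∈ Ks m κ, ∃ q ∈ Ks m κ, ∃ u, Q0 F m u = 0 ∧ g = p * nn κ u * q ∧ h = f p * j u * f q)
    (fun _ => Iff.rfl) (fun g => (OG_map ..).trans qr) (fun g _ _ h => (OG_polar ..).trans h) e.hom (by
      rintro _ _ _ ⟨p, hp, q, hq, u, hu, rfl, rfl⟩ ⟨p', hp', q', hq', w, hw, r, rfl⟩
      have := r0 k i e hu hw (mul_mem (inv_mem hp') hp) (mul_mem hq' (inv_mem hq)) (by
        rw [mul_assoc, eq_mul_inv_of_mul_eq r]; group)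
      rw [e.hom _ (inv_mem hp') _ hp, e.hom _ hq' _ (inv_mem hq), e.hom.inv hp', e.hom.inv hq] at this
      rw [← mul_inv_cancel_left (f p') (f p), mul_assoc (f p'), this]; group) (by
      rintro _ _ l hl l' hl' ⟨p, hp, q, hq, u, hu, rfl, rfl⟩
      exact ⟨_, mul_mem hl hp, _, mul_mem hq hl', u, hu, by group, by rw [e.hom _ hl _ hp, e.hom _ hq _ hl']; group⟩)
    (fun g h => let ⟨p, hp, q, hq, u, hu, r⟩ := dec s i ((prr _).symm.trans h); ⟨_, p, hp, q, hq, u, hu, r, rfl⟩)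
    (fun x y z hx hy hz xy yz xz => by
      obtain ⟨g, rfl⟩ := tr1 o qr hx
      obtain ⟨y, rfl⟩ := g.1.surjective y
      obtain ⟨z, rfl⟩ := g.1.surjective z
      rw [OG_map] at hy hz
      rw [OG_polar] at xy yz xz
      rw [prr] at xy xz
      have n : hf 1 y.1 z.1 = 0 := by
        obtain ⟨y, _, _⟩ := y
        obtain ⟨z, _, _⟩ := z
        obtain rfl : _ = (0 : F) := xy
        obtain rfl : _ = (0 : F) := xz
        simpa [Qh_pol, s.pol] using yz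
      obtain ⟨l, hl, lu, lw⟩ := s.witt2 n
      have a1 := i_V s i hl hy xy lu
      have a2 := i_V s i hl hz xz lw
      generalize l y.1 = u at *
      generalize l z.1 = w at *
      have hu := s.q0_Vf lu
      have lv := add_mem lu lw
      have hv := s.q0_Vf lv
      have uv := hf_Vf (σ := 1) lu lv (by omega)
      have uw : u + (u + w) = w := by rw [← add_assoc, vv, zero_add]
      refine ⟨g * (up ι l)⁻¹, nn κ u, nn κ (u + w), j u, j (u + w), congrArg g.1 (inv_mem (iK i l)),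
        congrArg g.1 ((congrArg _ (nn_r s hu)).trans (inv_ap a1)), congrArg g.1 ((congrArg _ ?_).trans (inv_ap a2)), r0' _ hu, r0' _ hv,
        1, one_mem _, _, iK i (E 1 u (κ • (u + w)) 0), w, s.q0_Vf lw, ?_, ?_⟩
      · change (nn κ u).1 ((nn κ (u + w)).1 _) = _
        rw [nn_r s hv, nn_ap s hu uv, one_smul, add_comm, uw]
      · have := s.io_E i (u := u) (a := 0) (by simp [hu]) (v := κ • (u + w)) (by rw [hf_smul_l, hf_swap iv1 uv, mul_zero]) 0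
        rw [s.q0_Vf (Submodule.smul_mem _ κ lv), mul_zero, add_zero] at this
        rw [this, s.nn_mul hu hv uv, uw, one_mul]
      · rw [k.mul u lu _ lv, uw, e.up, e.hom.one, one_mul])
    (fun a a' => by
      obtain ⟨c, h, h1, h2, h3⟩ := h3 o qr a a'
      obtain ⟨g, rfl⟩ := tr1 o qr h
      exact ⟨g, h1, pol_sw h2, pol_sw h3⟩)
    fun a b b' h => h4 o qr h
  have io : ∀ g, Φ (ι g) = ρ g := fun g => (a _ (i.fx g)).trans (e.io g)
  refine ⟨ι, Φ, k, i, (injective_iff_map_eq_one _).2 fun g hg => ?_, (a _ rK).trans e.rr, io, fun u h => b _ _ (r0' u h) ?_⟩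
  swap
  · exact (prr _).trans (congrArg (·.2.2) (nn_r s h))
  have := o.simple
  have c : Φ.ker.subgroupOf (_root_.commutator _) = ⊥ := (IsSimpleGroup.eq_bot_or_eq_top_of_normal _ inferInstance).resolve_right fun n => by
    have h4 := s.h4
    have := k.toTB.inj (((io ⟨E 1 (bv 0) 0 1, tv_SU _ _⟩).symm.trans (n.ge (mem_top ⟨_, i.om _⟩))).trans ρ.map_one.symm)
    obtain ⟨c, -, h⟩ := s.tv_inj (v := 0) (b := 0) one_ne_zero (u := bv 0) (fun e => by simpa [bv] using congrFun e ⟨0, by omega⟩)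
      ((congrArg Subtype.val this).trans (E_zero_v 0).symm)
    simp at h
  have d : ⁅g, rr m κ⁆ = 1 := mem_bot.1 ((subgroupOf_eq_bot.1 c).le_bot ⟨MonoidHom.mem_ker.2 (by
    rw [map_commutatorElement, hg, commutatorElement_one_left]),
    commutator_mem_commutator (mem_top _) (mem_top _)⟩)
  have hK : g ∈ Ks m κ := rfix o ((OG_map ..).trans qr) qr ((conj_oRefl g _).symm.trans
    (mul_inv_eq_iff_eq_mul.2 (commutatorElement_eq_one_iff_mul_comm.1 d)))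
  obtain ⟨g, rfl | rfl⟩ := i.sur g hK
  · rw [k.toTB.inj ((io g).symm.trans (hg.trans ρ.map_one.symm)), map_one]
  · rw [a _ hK, e.ir] at hg
    exact absurd ⟨g⁻¹, by rw [map_inv, eq_inv_of_mul_eq_one_right hg]⟩ k.toTB.tL

end CF.Dq
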