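import Cfsg.Agent.Dq.M1
import Cfsg.Agent.Phan.Blk

/-! Extension of a homomorphism from the stabiliser of a vector of norm one. -/

set_option autoImplicit false
set_option linter.unusedSectionVars false

namespace CF.Dq.S2

open Subgroup CF.Geom QuadraticMap Module
open CF.Phan (HomOn)

theorem ext {G H X : Type*} [Group G] [Group H] [MulAction G X] {K : Subgroup G} {x₀ : X} {P : X → Prop} {A : X → X → Prop}
    {f : G → H} {R : G → H → Prop} (hK : ∀ g, g ∈ K ↔ g • x₀ = x₀) (hP : ∀ g : G, P (g • x₀))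
    (inv : ∀ (g : G) x y, A x y → A (g • x) (g • y)) (hf : HomOn f K) (r1 : ∀ u h h', R u h → R u h' → h = h')
    (r2 : ∀ u h, ∀ k ∈ K, ∀ k' ∈ K, R u h → R (k * u * k') (f k * h * f k')) (dec : ∀ u : G, A x₀ (u • x₀) → ∃ x, R u x)
    (tri : ∀ x y z, P x → P y → P z → A x y → A y z → A x z → ∃ g u u' : G, ∃ a a', g • x₀ = x ∧ (g * u) • x₀ = y ∧
      (g * u * u') • x₀ = z ∧ R u a ∧ R u' a' ∧ R (u * u') (a * a'))
    (h3 : ∀ a a', ∃ b : G, A x₀ (b • x₀) ∧ A (b • x₀) a ∧ A (b • x₀) a')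
    (h4 : ∀ a b b', P b → A x₀ b → A b a → A x₀ b' → A b' a → ∃ c, P c ∧ A x₀ c ∧ A c a ∧ A c b ∧ A c b') :
    ∃ Φ : G →* H, (∀ k ∈ K, Φ k = f k) ∧ ∀ u x, R u x → A x₀ (u • x₀) → Φ u = x := by
  obtain ⟨c, τ, hc⟩ := Phan.exists_coc ⊤ x₀ R (fun g _ e => (hK g).2 e) hf r1 r2
  replace hc := fun g g' => hc g trivial g' trivial
  have t2 : ∀ x y z, P x → P y → P z → A x y → A y z → A x z → c x y * c y z = c x z := fun x y z px py pz a1 a2 a3 => by
    obtain ⟨g, u, u', a, a', rfl, rfl, rfl, r, r', r''⟩ := tri x y z px py pz a1 a2 a3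
    rw [hc g _ a (by simpa), hc _ _ a' (by rwa [inv_mul_cancel_left]), hc g _ _ (by simpa [mul_assoc])]
    group
  have p₀ : P x₀ := one_smul G x₀ ▸ hP 1
  have t3 : ∀ a b b', P a → P b → P b' → A x₀ b → A b a → A x₀ b' → A b' a → c x₀ b * c b a = c x₀ b' * c b' a := by
    have t : ∀ a b b', P a → P b → P b' → A x₀ b → A b a → A x₀ b' → A b' a → A b' b →
        c x₀ b * c b a = c x₀ b' * c b' a := fun a b b' pa pb pb' a1 a2 a3 a4 e => by
      rw [← t2 _ _ _ p₀ pb' pb a3 e a1, mul_assoc, t2 _ _ _ pb' pb pa e a2 a4]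
    intro a b b' pa pb pb' a1 a2 a3 a4
    obtain ⟨d, pd, d1, d2, d3, d4⟩ := h4 a b b' pb a1 a2 a3 a4
    rw [t a b d pa pb pd a1 a2 d1 d2 d3, t a b' d pa pb' pd a3 a4 d1 d2 d4]
  choose β β2 β3 using fun a => h3 a a
  let Φ : G → H := fun g => c x₀ (β (g • x₀) • x₀) * c (β (g • x₀) • x₀) (g • x₀) * τ g
  have key : ∀ g u x, R u x → A x₀ (u • x₀) → Φ (g * u) = Φ g * x := by
    intro g u x hx e
    obtain ⟨b, b1, b2, b3⟩ := h3 (g • x₀) ((g * u) • x₀)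
    simp only [Φ]
    rw [t3 _ _ _ (hP g) (hP _) (hP b) (β2 _) (β3 _).1 b1 b2, t3 _ _ _ (hP (g * u)) (hP _) (hP b) (β2 _) (β3 _).1 b1 b3,
      ← t2 _ _ _ (hP b) (hP g) (hP (g * u)) b2 (by simpa [mul_smul] using inv g _ _ e) b3, hc g _ x (by simpa using hx)]
    group
  have two : ∀ g : G, ∃ u u' : G, A x₀ (u • x₀) ∧ A x₀ (u' • x₀) ∧ g = u * u' := fun g =>
    ⟨_, _, β2 (g • x₀), by simpa [mul_smul] using inv (β (g • x₀))⁻¹ _ _ (β3 (g • x₀)).1, (mul_inv_cancel_left _ g).symm⟩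
  have k1 : ∀ u x, R u x → A x₀ (u • x₀) → (Φ 1)⁻¹ * Φ u = x := fun u x hx e => by
    have := key 1 u x hx e
    rw [one_mul] at this
    simp [this]
  have hom : ∀ g g', (Φ 1)⁻¹ * Φ (g * g') = (Φ 1)⁻¹ * Φ g * ((Φ 1)⁻¹ * Φ g') := fun g g' => by
    obtain ⟨u, u', u3, u4, rfl⟩ := two g'
    obtain ⟨x, hx⟩ := dec u u3
    obtain ⟨x', hx'⟩ := dec u' u4
    simp only [← mul_assoc g, key _ u' x' hx' u4, key g u x hx u3, ← mul_assoc]
    rw [mul_assoc _ (Φ 1)⁻¹, k1 u x hx u3]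
  refine ⟨MonoidHom.mk' _ hom, fun k hk => ?_, k1⟩
  obtain ⟨u, -, u3, -⟩ := two 1
  obtain ⟨x, hx⟩ := dec u u3
  have := hom u k
  rw [k1 u x hx u3, k1 _ _ (by simpa [hf.one] using r2 u x 1 (one_mem _) k hk hx) (by rwa [mul_smul, (hK k).1 hk])] at this
  exact (mul_left_cancel this).symm

variable {F V : Type*} [Field F] [Finite F] [CharP F 2] [AddCommGroup V] [Module F V] [FiniteDimensional F V]
  {Q : QuadraticForm F V} {a b c d r x y : V}

theorem rt_eq {a b : F} (e : a * a = b * b) : a = b := by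
  have : (a + b) ^ 2 = 0 := by rw [CharTwo.add_sq, pow_two, pow_two, e, CharTwo.add_self_eq_zero]
  exact CharTwo.add_eq_zero.1 (pow_eq_zero_iff two_ne_zero |>.1 this)

variable (o : Os Q)
include o

theorem rfix (hx : Q x = 1) (hy : Q y = 1) (e : oRefl Q x = oRefl Q y) : x = y := by
  obtain ⟨c, -, rfl⟩ := o.refl_eq (hx ▸ one_ne_zero) (hy ▸ one_ne_zero) e
  rw [QuadraticMap.map_smul, hx, smul_eq_mul, mul_one] at hy
  rw [rt_eq (hy.trans (one_mul 1).symm), one_smul]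

theorem tr1 (hx : Q x = 1) (hy : Q y = 1) : ∃ g : OG Q, g.1 x = y := by
  obtain ⟨g, e⟩ := o.refl_cj (hx ▸ one_ne_zero) (hy ▸ one_ne_zero)
  exact ⟨g, rfix o ((OG_map ..).trans hx) hy ((conj_oRefl g x).symm.trans e)⟩

theorem ns {T : Submodule F V} (h : ∀ c ∈ perp (polarBilin Q) T, Q c ≠ 1) :
    (∀ c ∈ perp (polarBilin Q) T, Q c = 0) ∧ perp (polarBilin Q) T ≤ T := by
  have k : ∀ c ∈ perp (polarBilin Q) T, Q c = 0 := fun c i => by
    by_contra n
    obtain ⟨l, -, e⟩ := ex_one n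
    exact h _ (Submodule.smul_mem _ l i) e
  refine ⟨k, fun c i => ?_⟩
  by_contra n
  obtain ⟨y, e, j⟩ := o.dual n
  have j : y ∈ perp (polarBilin Q) T := mem_perp.2 j
  have := k _ (add_mem i j)
  rw [quad_add, k c i, k y j] at this
  simp [e] at this

theorem h3 (hr : Q r = 1) (a b : V) : ∃ c, Q c = 1 ∧ polar Q r c = 0 ∧ polar Q a c = 0 ∧ polar Q b c = 0 := by
  by_contra! n
  obtain ⟨k, l⟩ := ns o (T := Submodule.span F (Set.range ![r, a, b])) fun c i e =>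
    have := mem_perp_span.1 i
    n c e (this _ ⟨0, rfl⟩) (this _ ⟨1, rfl⟩) (this _ ⟨2, rfl⟩)
  have h1 := o.wp.finrank_perp (Submodule.span F (Set.range ![r, a, b]))
  have h2 : finrank F (Submodule.span F (Set.range ![r, a, b])) ≤ 3 := finrank_range_le_card (R := F) ![r, a, b]
  have := k r ((Submodule.eq_of_le_of_finrank_le l (by have := o.h6; omega)).ge (Submodule.subset_span ⟨0, rfl⟩))
  exact one_ne_zero (hr.symm.trans this)

theorem h4 (hr : Q r = 1) (hb : Q b = 1) (e1 : polar Q r b = 0) (e2 : polar Q b a = 0) (e3 : polar Q r d = 0)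
    (e4 : polar Q d a = 0) : ∃ c, Q c = 1 ∧ polar Q r c = 0 ∧ polar Q c a = 0 ∧ polar Q c b = 0 ∧ polar Q c d = 0 := by
  by_cases p : polar Q r a = 0
  · exact ⟨r, hr, pol_self r, p, e1, e3⟩
  by_cases q : polar Q b d = 0
  · exact ⟨b, hb, e1, e2, pol_self b, q⟩
  by_contra! n
  obtain ⟨-, l⟩ := ns o (T := Submodule.span F (Set.range ![r, a, b, d])) fun c i e =>
    have := mem_perp_span.1 i
    n c e (this _ ⟨0, rfl⟩) (pol_sw (this _ ⟨1, rfl⟩)) (pol_sw (this _ ⟨2, rfl⟩)) (pol_sw (this _ ⟨3, rfl⟩))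
  have h1 := o.wp.finrank_perp (Submodule.span F (Set.range ![r, a, b, d]))
  have h2 : finrank F (Submodule.span F (Set.range ![r, a, b, d])) ≤ 4 := finrank_range_le_card (R := F) ![r, a, b, d]
  obtain ⟨v, i, v0⟩ := Submodule.exists_mem_ne_zero_of_ne_bot (p := perp (polarBilin Q) (Submodule.span F (Set.range ![r, a, b, d])))
    fun e => by have := o.h6; rw [e, finrank_bot] at h1; omega
  obtain ⟨c, rfl⟩ := (Submodule.mem_span_range_iff_exists_fun F).1 (l i)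
  have j := mem_perp_span.1 i
  have j0 := j _ ⟨0, rfl⟩
  have j1 := j _ ⟨1, rfl⟩
  have j2 := j _ ⟨2, rfl⟩
  have j3 := j _ ⟨3, rfl⟩
  simp [Fin.sum_univ_four, e1, e2, e3, e4, pol_sw e1, pol_sw e2, pol_sw e3, pol_sw e4, p, q, polar_comm Q a r, polar_comm Q d b]
    at j0 j1 j2 j3 v0
  simp [j0, j1, j2, j3] at v0

end CF.Dq.S2
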