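import Cfsg.Agent.Dq.S4b

/-! A standard symplectic subgroup, orthogonal case: the conjugates of `t` commuting with `t`. -/

set_option autoImplicit false
set_option linter.unusedSectionVars false
set_option linter.unusedVariables false

namespace CF.Dq

open Subgroup Equiv CF.Loc CF.LX CF.Geom QuadraticMap Module CF.Ud
open CF.Dbl (El)
open scoped commutatorElement

variable {F : Type} [Field F] [Fintype F] [CharP F 2] {m : ℕ} {θ : F ≃+* F} {a b c κ δ : F}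
  {g ξ ξ' α w : Perm (Fin m → F)} {u v x y z n u' v' p : Fin m → F} {A H : Subgroup (Perm (Fin m → F))}
  {T : Submodule F (Fin m → F)} {G : Type*} [Group G] [Finite G] {ρ : SU (1 : F ≃+* F) m →* G} {t d h : G}
  {j : (Fin m → F) → G} {D : Subgroup G}

namespace S4
variable (s : Sm F m)
include s

theorem t_add (v : Fin m → F) (a b : F) : E 1 v 0 a * E 1 v 0 b = E 1 v 0 (a + b) := tv_mul iv1 (s.iso v) rfl rfl
theorem zE (e : hf 1 u v = 0) : E 1 v 0 1 * E 1 (u + v) 0 1 = E 1 u v 1 := Equiv.ext fun x => by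
  have e' := (hf_comm v u).trans e
  simp only [Perm.mul_apply, tap s, ap s e', hf_add_l, hf_add_r, hf_smul_l, e, e', s.iso]
  ext i; simp; grind
theorem t_cm (e : hf 1 u v = 0) (a b : F) : E 1 u 0 a * E 1 v 0 b = E 1 v 0 b * E 1 u 0 a := by
  rw [← conj_eq_iff, tv_cj1 (E_sem ..), E_fix ((hf_comm v u).trans e) (hf_zero_r v)]

/-- products of two braided transvections are commutators -/
theorem br (l : Sem 1 θ ξ) (cm : ∀ r ∈ SU 1 m, ∀ r' ∈ SU 1 m, ξ * r = r * ξ → ξ * r' = r' * ξ → r * r' * r⁻¹ * r'⁻¹ ∈ H)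
    (hx : ξ x = x) (hy : ξ y = y) (e : hf 1 x y = 1) : E 1 x 0 1 * E 1 y 0 1 ∈ H := by
  have c : ∀ {x}, ξ x = x → ξ * E 1 x 0 1 = E 1 x 0 1 * ξ := fun h => by rw [← conj_eq_iff, tv_cj l, h, map_one]
  have := cm _ (mul_mem (tv_SU y 1) (tv_SU x 1)) _ (tv_SU y 1) (by rw [← mul_assoc, c hy, mul_assoc, c hx, mul_assoc]) (c hy)
  rwa [tv_cj1 ((E_sem ..).mul1 (E_sem ..)), t_inv s, show (E 1 y 0 1 * E 1 x 0 1) y = x by
    simp [tap s, hf_comm y x, e, s.iso, add_comm y, add_assoc, vv]] at this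
end S4

open S4

namespace J1
variable (k : J1 ρ t j κ)
include k

theorem lin (a1 : ∀ d, IsConj t d → d ∉ ρ.range) (i : IsConj t d) (c : d ∈ 𝐂₁(t)) (l : Sem 1 1 ξ) (e : Ind ρ d ξ) : ∃ y, d = t * tv ρ y 1 := by
  have s := k.sm4
  have hg := s.mem_SU l
  have dd := k.dsq i
  rcases k.toTD.toTB.dec2 c hg e (e2_inv dd) with rfl | rfl
  · exact (a1 _ i (up_range _)).elim
  rw [mul_assoc, ← mul_assoc _ t, ← k.cL, mul_assoc, ← mul_assoc, k.t2, one_mul] at dd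
  obtain ⟨r, hr, hw⟩ := s.m3 l (k.usq hg dd)
  obtain ⟨y, hy, α, al, f⟩ := s.W_dec hw
  have f' : up ρ r * (t * up ρ ξ) * (up ρ r)⁻¹ = j y * (t * up ρ α) * (j y)⁻¹ := by
    rw [conj_mul_conj, conj_mul_conj, k.tw y (s.q0_Vf hy), conj_eq_iff.2 (k.jal hy al), conj_eq_iff.2 (k.cL r).symm, ← up_cj hr hg, f,
      up_mul (tv_SU _ _) (s.mem_SU al.1.1), mul_assoc]
  obtain rfl := k.a2 al ((i.trans (isConj_iff.2 ⟨_, f'⟩)).trans (isConj_iff.2 ⟨_, rfl⟩).symm)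
  refine ⟨r⁻¹ y, ?_⟩
  rw [tv, ← tv_cj1 (su_sem hr).inv1, ← mul_one (E 1 y 0 1), ← f]; group

theorem dc (a1 : ∀ d, IsConj t d → d ∉ ρ.range) (i : IsConj t d) (c : d ∈ 𝐂₁(t)) : ∃ y, d = t * tv ρ y 1 := by
  have s := k.sm4
  obtain ⟨ξ, ⟨θ, l⟩, e⟩ := k.ind d c
  by_cases θ1 : θ = 1
  · subst θ1; exact k.lin a1 i c l e
  exfalso
  have dd := k.dsq i
  have inj : ∀ {a b}, a ∈ SU 1 m → b ∈ SU 1 m → up ρ a = up ρ b → a = b := fun a b e => by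
    rw [up_eq a, up_eq b] at e; exact congrArg Subtype.val (k.toTD.toTB.inj e)
  have xx : ξ * ξ = 1 := s.gam_eq ⟨_, l.mul l⟩ fun v a => conj_eq_iff.1 (inj ((l.mul l).su (tv_SU _ _)) (tv_SU _ _) (by
    rw [← e.mul l e _ (tv_SU _ _), dd]; simp))
  obtain ⟨θ2, u, u', v, v', hu, hu', hv, hv', uu', vv', uv, uv', u'v, u'v'⟩ := s.rat l xx θ1
  obtain ⟨g, hg⟩ := isConj_iff.1 i
  have br := fun {x y} => S4.br s (H := pre ρ (⁅𝐂₁(t), 𝐂₁(t)⁆.comap (MulAut.conj g⁻¹).toMonoidHom)) (x := x) (y := y) l fun r a r' b p q => by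
    have f : ∀ {r}, r ∈ SU 1 m → ξ * r = r * ξ → MulAut.conj g⁻¹ (up ρ r) ∈ 𝐂₁(t) := fun a p => mem_c1.2 (by
      have := e.cm a p
      rw [← hg] at this
      apply (MulAut.conj g).injective; simpa [mul_assoc] using this.symm)
    rw [mem_pre (mul_mem (mul_mem (mul_mem a b) (inv_mem a)) (inv_mem b)), ← commutatorElement_def, up_comm a b, mem_comap, map_commutatorElement]
    exact commutator_mem_commutator (f a p) (f b q)
  generalize hH : pre ρ (⁅𝐂₁(t), 𝐂₁(t)⁆.comap (MulAut.conj g⁻¹).toMonoidHom) = H at br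
  have tr : ∀ {x y z : Fin m → F}, E 1 x 0 1 * E 1 y 0 1 ∈ H → E 1 z 0 1 * E 1 y 0 1 ∈ H → E 1 x 0 1 * E 1 z 0 1 ∈ H := fun a b => by
    have := mul_mem a (inv_mem b)
    rwa [mul_inv_rev, mul_assoc, mul_inv_cancel_left, t_inv s] at this
  have ad : ∀ {x y}, ξ x = x → ξ y = y → ξ (x + y) = x + y := fun a b => by rw [l.add, a, b]
  have b1 : E 1 u 0 1 * E 1 v 0 1 ∈ H := tr (br hu (ad hu' hv') (by simp [uu', uv'])) (br hv (ad hu' hv') (by simp [vv', hf_comm v u', u'v]))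
  have b2 : E 1 u v 1 ∈ H := zE s uv ▸ tr (br hv hv' vv') (br (ad hu hv) hv' (by simp [uv', vv']))
  have b3 : E 1 u v' 1 ∈ H := zE s uv' ▸ tr (br hv' hv ((hf_comm v' v).trans vv')) (br (ad hu hv') hv (by simp [uv, hf_comm v' v, vv']))
  obtain ⟨ω, o⟩ : ∃ ω : F, θ ω + ω = 1 := by
    obtain ⟨x, a⟩ : ∃ x, θ x + x ≠ 0 := by
      by_contra! z
      exact θ1 (RingEquiv.ext fun x => by have := z x; change θ x = x; grind)
    have : θ (θ x) = x := congrArg (· x) θ2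
    exact ⟨x / (θ x + x), by rw [map_div₀, map_add, this, add_comm x, ← add_div, div_self a]⟩
  have main : ∀ r ∈ SU 1 m, ∀ h ∈ H, h * h = 1 → ξ * r * ξ⁻¹ * r⁻¹ = h → ∃ y, MulAut.conj g⁻¹ (up ρ h) = tv ρ y 1 := fun r a h b e2 f => by
    have hs : h ∈ SU 1 m := f ▸ mul_mem (l.su a) (inv_mem a)
    have m1 : MulAut.conj g⁻¹ (up ρ h) ∈ ⁅𝐂₁(t), 𝐂₁(t)⁆ := (mem_pre hs).1 (hH ▸ b)
    obtain ⟨ξ', p, q⟩ := mem_range_up.1 (k.toTD.toTB.der2 m1 (((e2_inv e2).up hs).cj _))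
    have f1 : up ρ r * d * (up ρ r)⁻¹ = d * up ρ h := by
      rw [← f, up_mul (l.su a) (inv_mem a), ← e r a, up_inv a, inv_eq_of_mul_eq_one_right dd]
      simp only [← mul_assoc, dd, one_mul]
    obtain ⟨y, f2⟩ := k.lin a1 (d := t * up ρ ξ') (ξ := ξ') (i.trans (isConj_iff.2 ⟨g⁻¹ * up ρ r, by
      rw [q, mul_inv_rev, mul_assoc, mul_assoc, ← mul_assoc d, ← mul_assoc (up ρ r), ← mul_assoc (up ρ r), f1, ← hg]; simp [mul_assoc]⟩))
      (mul_mem (mem_c1.2 rfl) (mem_c1.2 (k.cL _).symm)) (su_sem p) (by simpa using (ind_one k.cm).mul (su_sem p) (ind_up p))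
    exact ⟨y, q.symm.trans (mul_left_cancel f2)⟩
  have eE : ∀ {x y}, ξ x = x → ξ y = y → hf 1 y x = 0 → E 1 x y 1 ∈ H → ∃ z, MulAut.conj g⁻¹ (up ρ (E 1 x y 1)) = tv ρ z 1 :=
    fun {x y} a b f p => main _ (su s x (ω • y) ω) _ p (by rw [E_sq (s.ok f 1), s.iso, E_zero]) (by
      have f' : ∀ c : F, hf 1 (c • y) x = 0 := fun c => by simp [f]
      rw [E_cj l, a, l.smul, b, e_inv s (f' _), E_mul (s.ok (f' _) _) (s.ok (f' _) _), ← add_smul, o]; simp [s.iso])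
  have vu := (hf_comm v u).trans uv
  have v'u := (hf_comm v' u).trans uv'
  have m1 : E 1 u v 1 * (E 1 u 0 1 * E 1 v 0 1) = E 1 v u 1 := by
    rw [← zE s uv, ← zE s vu, add_comm v, t_cm s (u := v) (by simp [vu, s.iso]), t_cm s uv, mul_assoc, ← mul_assoc (E 1 v 0 1), tv_sq, one_mul,
      t_cm s (by simp [vu, s.iso])]
  have m2 : E 1 u v 1 * E 1 u v' 1 = E 1 u (v + v') 1 := by
    rw [E_mul (s.ok vu 1) (s.ok v'u 1), hf_comm v' v, vv', CharTwo.add_self_eq_zero, zero_add]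
  obtain ⟨y1, e1⟩ := main _ (mul_mem (tv_SU u ω) (tv_SU v ω)) _ b1 (by rw [mul_assoc, ← mul_assoc (E 1 v 0 1), ← t_cm s uv]; simp [mul_assoc, ← mul_assoc (E 1 u 0 1) (E 1 u 0 1), tv_sq]) (by
    rw [conj_mul_conj, tv_cj l, tv_cj l, hu, hv, mul_inv_rev, t_inv s, t_inv s, mul_assoc, ← mul_assoc (E 1 v 0 _), t_add s, o, ← t_cm s uv,
      ← mul_assoc, t_add s, o])
  obtain ⟨y2, e2⟩ := eE hu hv vu b2
  obtain ⟨y3, e3⟩ := eE hv hu uv (m1 ▸ mul_mem b2 b1)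
  obtain ⟨y4, e4⟩ := eE hu hv' v'u b3
  obtain ⟨y5, e5⟩ := eE hu (ad hv hv') (by simp [vu, v'u]) (m2 ▸ mul_mem b2 b3)
  have bs := mul_mem (tv_SU (σ := 1) u 1) (tv_SU v 1)
  have y0 : y2 ≠ 0 := fun z => by
    rw [z, tv, E_zero_v, up_one, map_eq_one_iff _ (MulEquiv.injective _), ← up_one (φ := ρ)] at e2
    have := congrArg (fun g : Perm _ => hf 1 (g u') v') (inj (su s _ _ _) (one_mem _) e2)
    simp [ap s vu, u'v', hf_comm u' u, uu', vv', uv'] at this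
  rw [← m1, up_mul (su s _ _ _) bs, map_mul, e1, e2, ← up_mul (tv_SU _ _) (tv_SU _ _)] at e3
  rw [← m2, up_mul (su s _ _ _) (su s _ _ _), map_mul, e2, e4, ← up_mul (tv_SU _ _) (tv_SU _ _)] at e5
  obtain ⟨c1, rfl⟩ := s.tv_tri (inj (mul_mem (tv_SU _ _) (tv_SU _ _)) (tv_SU _ _) e3) y0
  obtain ⟨c2, rfl⟩ := s.tv_tri (inj (mul_mem (tv_SU _ _) (tv_SU _ _)) (tv_SU _ _) e5) y0
  have f : E 1 u 0 1 * E 1 v 0 1 * E 1 u v' 1 = E 1 u v' 1 * (E 1 u 0 1 * E 1 v 0 1) := inj (mul_mem bs (su s _ _ _)) (mul_mem (su s _ _ _) bs) ((MulAut.conj g⁻¹).injective (by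
    rw [up_mul bs (su s _ _ _), up_mul (su s _ _ _) bs, map_mul, map_mul, e1, e4, ← up_mul (tv_SU _ _) (tv_SU _ _), ← up_mul (tv_SU _ _) (tv_SU _ _),
      t_cm s (by simp [s.iso])]))
  have := congrArg (fun g : Perm _ => hf 1 (g u') v') f
  simp [tap s, ap s v'u, u'v', hf_comm u' u, uu', vv', uv', uv, vu, v'u, u'v, s.iso, hf_comm v' v] at this
end J1

end CF.Dq
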