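import Cfsg.Agent.Dq.S2
import Cfsg.Agent.Dq.S4c
import Cfsg.Agent.Dq.G1a

/-! The centraliser of the reflection acts semilinearly on the orthogonal group. -/

set_option autoImplicit false
set_option linter.unusedSectionVars false
set_option linter.unusedVariables false

namespace CF.Dq

open Subgroup Equiv CF.Loc CF.LX CF.Geom QuadraticMap Module CF.Ud
open CF.Dbl (El)
open scoped commutatorElement

variable {F : Type} [Field F] [Fintype F] [CharP F 2] {m : ℕ} {θ : F ≃+* F} {a b c κ δ μ : F}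
  {g ξ ξ' α w : Perm (Fin m → F)} {u v x y n u' v' p : Fin m → F} {A H : Subgroup (Perm (Fin m → F))}
  {T : Submodule F (Fin m → F)} {G : Type*} [Group G] [Finite G] {ρ : SU (1 : F ≃+* F) m →* G} {t d h o : G}
  {j : (Fin m → F) → G} {ι : SU (1 : F ≃+* F) m →* OG (Qh m κ)} {Φ : OG (Qh m κ) →* G} {L B : Subgroup G}

namespace S3

theorem bv0 (s : Sm F m) : (bv 0 : Fin m → F) ≠ 0 := fun e => by
  simpa [bv] using congrFun e ⟨0, by have := s.h4; omega⟩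

theorem vf0 (s : Sm F m) : (bv 0 : Fin m → F) ∈ Vf F m (m / 2) := bv_mem (by have := s.h4; omega)

theorem vf1 (s : Sm F m) : (bv 1 : Fin m → F) ∈ Vf F m (m / 2) := bv_mem (by have := s.h4; omega)

theorem tv_ne (k : TB ρ t) : tv ρ (bv 0) 1 ≠ 1 := fun e => by
  rw [tv, up_eq (tv_SU _ _), ← map_one ρ] at e
  obtain ⟨c, -, i⟩ := k.toSm.tv_inj one_ne_zero (bv0 k.toSm) ((congrArg Subtype.val (k.inj e)).trans (E_zero_v 0).symm)
  simp at i

theorem t_cm (k : TB ρ t) (g : Perm (Fin m → F)) : up ρ g * t = t * up ρ g := k.cm _ (up_range g)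

theorem tv_mul' (s : Sm F m) (v : Fin m → F) (a b : F) : tv ρ v a * tv ρ v b = tv ρ v (a + b) := by
  rw [← up_mul (tv_SU _ _) (tv_SU _ _), tv_mul iv1 (s.iso v) rfl rfl]

theorem tv_sq' (v : Fin m → F) (a : F) : tv ρ v a * tv ρ v a = 1 := by
  rw [← up_mul (tv_SU _ _) (tv_SU _ _), tv_sq, up_eq (one_mem _)]; exact map_one ρ

theorem tv_sm (s : Sm F m) (v : Fin m → F) (c : F) : tv ρ (c • v) 1 = tv ρ v (c * c) := by
  rw [tv, tv_smul iv1 (s.iso v) rfl]; simp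

theorem q_std (e : ∀ x i, ξ x i = θ (x i)) (x : Fin m → F) : Q0 F m (ξ x) = θ (Q0 F m x) := by
  simp only [Q0_ap, e, map_sum]
  exact Finset.sum_congr rfl fun i _ => by split_ifs <;> simp

theorem bv_std (e : ∀ x i, ξ x i = θ (x i)) (i : ℕ) : ξ (bv i) = bv i := funext fun l => by
  rw [e, bv]; split_ifs <;> simp

theorem ind_tv (s : Sem 1 θ ξ) (e : Ind ρ h ξ) (v : Fin m → F) (a : F) : h * tv ρ v a * h⁻¹ = tv ρ (ξ v) (θ a) := by
  rw [e _ (tv_SU _ _), tv_cj s]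

theorem odd1 (i : Odd (orderOf o)) (e : o ^ 2 ^ 2 = 1) : o = 1 :=
  orderOf_eq_one_iff.1 (Nat.Coprime.eq_one_of_dvd (Nat.Coprime.pow_right 2 i.coprime_two_right) (orderOf_dvd_of_pow_eq_one e))

theorem two_case {x y τ z : G} (x2 : x * x = 1) (y2 : y * y = 1) (t2 : t * t = 1) (τ2 : τ * τ = 1) (z2 : z * z = 1) (z1 : z ≠ 1)
    (c1 : Commute x o) (c2 : Commute x τ) (c3 : Commute τ o) (c4 : Commute o t) (c5 : Commute τ t) (tw : x * t * x⁻¹ = t * z)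
    (oo : Odd (orderOf o)) (l : y = x * (o * τ) ∨ y = x * (o * t * τ)) : y = x * τ := by
  rw [← pow_two] at x2 y2 τ2
  rcases l with rfl | l
  · rw [(c1.mul_right c2).mul_pow, c3.symm.mul_pow, x2, τ2, one_mul, mul_one] at y2
    rw [odd1 oo (by rw [pow_two 2, pow_mul, y2, one_pow]), one_mul]
  · have e : (x * t) ^ 2 = t * z * t := by
      rw [← tw, inv_eq_of_mul_eq_one_right (pow_two x ▸ x2), pow_two]; simp only [mul_assoc]
    rw [l, c4.eq, mul_assoc t, ← mul_assoc, ((c1.mul_right c2).mul_left (c4.symm.mul_right c5.symm)).mul_pow, c3.symm.mul_pow, τ2,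
      mul_one, e, mul_eq_one_iff_inv_eq] at y2
    have : o = 1 := odd1 oo (by
      rw [pow_two 2, pow_mul, ← y2, inv_pow, inv_eq_one, pow_two, ← mul_assoc, ← mul_assoc, mul_assoc _ t t, t2, mul_one, mul_assoc t, z2,
        mul_one, t2])
    rw [this, one_pow, inv_eq_one, ← t2, mul_left_inj, mul_eq_left] at y2
    exact (z1 y2).elim

theorem j_tv (k : J1 ρ t j κ) (hu : Q0 F m u = 0) (a : F) : j u * tv ρ u a = tv ρ u a * j u := by
  obtain ⟨b, rfl⟩ := ex_rt a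
  have s := k.toSm
  rw [← mul_inv_eq_iff_eq_mul, ← tv_sm s, k.ac u _ 1 hu (by simp [s.iso]) (by simp [quad_smul, hu]), ← add_smul, tv_sm s, tv_sm s,
    tv_mul' s]
  congr 1; grind

/-- the action on `j e₀` -/
theorem st1 (k : J1 ρ t j κ) (i : h ∈ 𝐂₁(t)) (s : Sem 1 θ ξ) (e : ∀ x i, ξ x i = θ (x i)) (f : Ind ρ h ξ) :
    ∃ a, h * j (bv 0) * h⁻¹ = j (bv 0) * tv ρ (bv 0) a := by
  have S := k.toSm
  have q0 := S.q0_Vf (vf0 S)
  have ht : h * t * h⁻¹ = t := by rw [mem_c1.1 i]; simp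
  have x2 := k.sq (bv 0)
  have tw := k.tw _ q0
  have cm := j_tv k q0
  have od := k.odd (bv 0)
  set x := j (bv 0) with hx
  have ag : ∀ z : G, h * (x * z * x⁻¹) * h⁻¹ = x * (h * z * h⁻¹) * x⁻¹ →
      x⁻¹ * (h * x * h⁻¹) * (h * z * h⁻¹) = h * z * h⁻¹ * (x⁻¹ * (h * x * h⁻¹)) := fun z l => by
    calc _ = x⁻¹ * (h * (x * z * x⁻¹) * h⁻¹) * (h * x * h⁻¹) := by group
      _ = _ := by rw [l]; group
  have a1 := ag t (by rw [ht, tw, conj_mul_conj, ht, ind_tv s f, bv_std e, map_one])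
  rw [ht] at a1
  obtain ⟨w, hw, o, ho, oo, l⟩ := k.toTB.cY (T := Submodule.span F {bv 0}) (h := x⁻¹ * (h * x * h⁻¹))
    (fun a ha b hb => by
      obtain ⟨c, rfl⟩ := Submodule.mem_span_singleton.1 ha
      obtain ⟨c', rfl⟩ := Submodule.mem_span_singleton.1 hb
      simp [S.iso]) (mem_c1.2 a1) fun v hv => by
      obtain ⟨v, rfl⟩ := ξ.surjective v
      have v0 : hf 1 (ξ v) (bv 0) = 0 := hf_swap iv1 (hv _ (Submodule.mem_span_singleton_self _))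
      have v1 : hf 1 v (bv 0) = 0 := by rwa [← bv_std e, s.form, map_eq_zero] at v0
      obtain ⟨c, hc⟩ := ex_rt (1 + Q0 F m v)
      have := ag (tv ρ v 1) (by
        rw [k.ac _ _ c q0 v1 hc, conj_mul_conj, ind_tv s f, ind_tv s f, ind_tv s f, map_one,
          k.ac _ _ (θ c) q0 v0 (by rw [← map_mul, hc, q_std e, map_add, map_one]), s.add, s.smul, bv_std e])
      rwa [ind_tv s f, map_one] at this
  obtain ⟨a, rfl⟩ := S.W1 hw
  rw [inv_mul_eq_iff_eq_mul, inv_mul_eq_iff_eq_mul] at l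
  exact ⟨a, two_case x2 (by rw [← conj_mul_conj, x2]; simp) k.t2 (tv_sq' _ _) (tv_sq' _ _) (tv_ne k.toTB) (od o ho oo) (cm a)
    (ho.2 _ (up_range _)) (mem_c1.1 ho.1) (t_cm k.toTB _) tw oo l⟩

/-- the action on all `j u` -/
theorem st2 (k : J1 ρ t j κ) (s : Sem 1 θ ξ) (e : ∀ x i, ξ x i = θ (x i)) (f : Ind ρ h ξ)
    (l : h * j (bv 0) * h⁻¹ = j (bv 0) * tv ρ (bv 0) a) (u0 : u ≠ 0) (hu : Q0 F m u = 0) :
    h * j u * h⁻¹ = j (ξ u) * tv ρ (ξ u) a := by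
  have S := k.toSm
  have q0 := S.q0_Vf (vf0 S)
  obtain ⟨g, i, rfl⟩ := S.O1_tr (bv0 S) q0 u0 hu
  have i' := S.O1_cj s e i
  have b : (ξ * g * ξ⁻¹) (bv 0) = ξ (g (bv 0)) := by
    rw [Perm.mul_apply, Perm.mul_apply, Perm.inv_eq_iff_eq.2 (bv_std e 0).symm]
  rw [← k.eqv g i _ q0, conj_mul_conj, conj_mul_conj, l, ← conj_inv, f g (S.O1_le i), ← conj_mul, k.eqv _ i' _ q0,
    ← up_cj (S.O1_le i') (tv_SU _ _), tv_cj1 (su_sem (S.O1_le i')), b]

theorem phi_up (k : Ph ρ t j κ ι Φ) (g : Perm (Fin m → F)) : Φ (up ι g) = up ρ g := by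
  rw [← up_comp, show Φ.comp ι = ρ from MonoidHom.ext k.io]

theorem phi_refl (k : Ph ρ t j κ ι Φ) (e : Q0 F m v + c * c = 1) : Φ (oRefl (Qh m κ) (v, c, 0)) = tv ρ v 1 * t := by
  rw [tv, ← phi_up k, k.toIo.tv v c e, map_mul, k.tt, mul_assoc, k.t2, mul_one]

theorem phi_n (k : Ph ρ t j κ ι Φ) (hu : Q0 F m u = 0) (μ : F) :
    Φ (ei (Qh m κ) (u, 0, 0) (0, μ, 1)) = j u * tv ρ u (μ * μ) := by
  have := k.toSm.io_E k.toIo (u := u) (v := 0) (a := 0) (by simp [hu]) (by simp) μ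
  rw [map_zero, zero_add] at this
  rw [← k.nn u hu, tv, ← phi_up k, this, ← map_mul, ei_mul (by simp [Qh_ap, hu]) (by simp [Qh_pol]) (by simp [Qh_pol])]
  simp

/-- the equation for the shift -/
theorem st3 (k : Ph ρ t j κ ι Φ) (s : Sem 1 θ ξ) (e : ∀ x i, ξ x i = θ (x i)) (f : Ind ρ h ξ)
    (l : h * j (bv 0) * h⁻¹ = j (bv 0) * tv ρ (bv 0) (μ * μ)) : μ * μ + μ + κ = θ κ := by
  have S := k.toSm
  have h4 := S.h4
  have q0 := S.q0_Vf (vf0 S)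
  have q1 := S.q0_Vf (vf1 S)
  have q2 := S.q0_Vf (add_mem (vf0 S) (vf1 S))
  have n1 : (bv 1 : Fin m → F) ≠ 0 := fun e => by simpa [bv] using congrFun e ⟨1, by omega⟩
  have n2 : (bv 0 + bv 1 : Fin m → F) ≠ 0 := fun e => by simpa [bv] using congrFun e ⟨1, by omega⟩
  have o : hf 1 (bv 1 : Fin m → F) (bv 0) = (0 : F) := hf_Vf (vf1 S) (vf0 S) (by omega)
  have i := congrArg (fun z => h * z * h⁻¹) (k.mul _ (vf0 S) _ (vf1 S))
  have io := S.io_E k.toIo (u := bv 0) (v := θ κ • bv 1) (a := 0) (by simp [q0]) (by simp [o]) 0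
  simp only [quad_smul, q1, mul_zero, add_zero] at io
  simp only [conj_mul_conj] at i
  rw [l, st2 k.toJ1 s e f l n1 q1, st2 k.toJ1 s e f l n2 q2, f _ (S.mem_SU (E_sem ..)), E_cj s, s.add, s.smul, bv_std e, bv_std e,
    map_zero, ← phi_n k q0, ← phi_n k q1, ← phi_n k q2, ← phi_up k, io, ← map_mul, ← map_mul] at i
  have x0 : hf 1 (bv 0 : Fin m → F) (bv (m - 1)) = (1 : F) := by
    have := hf_bv (σ := (1 : F ≃+* F)) (bv 0 : Fin m → F) ⟨0, by omega⟩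
    simpa [bv] using this
  have x1 : hf 1 (bv 1 : Fin m → F) (bv (m - 1)) = (0 : F) := by
    have := hf_bv (σ := (1 : F ≃+* F)) (bv 1 : Fin m → F) ⟨0, by omega⟩
    simpa [bv] using this
  have := congrArg (fun g : OG (Qh m κ) => (g.1 (bv (m - 1), 0, 0)).1 ⟨1, by omega⟩) (k.inj i)
  simp only [og_mul] at this
  rw [ei_ap (by simp [Qh_ap, q0]) (by simp [Qh_pol]), ei_ap (by simp [Qh_ap, q1]) (by simp [Qh_pol]),
    ei_ap (by simp [Qh_ap, q2]) (by simp [Qh_pol]), ei_ap (by simp [Qh_ap, q0]) (by simp [Qh_pol, S.pol, hf_swap iv1 o])] at this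
  simp [Qh_pol, Qh_ap, S.pol, x0, x1, o, hf_swap iv1 o, S.iso, quad_smul, q1] at this
  simp [bv] at this
  grind

/-- the induced map of the orthogonal space -/
def xh (θ : F ≃+* F) (μ : F) (ξ : Perm (Fin m → F)) : Perm ((Fin m → F) × F × F) where
  toFun p := (ξ p.1, θ p.2.1 + μ * θ p.2.2, θ p.2.2)
  invFun p := (ξ⁻¹ p.1, θ.symm (p.2.1 - μ * p.2.2), θ.symm p.2.2)
  left_inv p := by simp
  right_inv p := by simp

theorem xh_ap (x : Fin m → F) (a b : F) : xh θ μ ξ (x, a, b) = (ξ x, θ a + μ * θ b, θ b) := rfl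

theorem xh_so (s : Sem 1 θ ξ) (e : ∀ x i, ξ x i = θ (x i)) (l : μ * μ + μ + κ = θ κ) : So (Qh m κ) θ (xh θ μ ξ) :=
  ⟨fun ⟨x, a, b⟩ ⟨y, c, d⟩ => by simp only [Prod.mk_add_mk, xh_ap, s.add, map_add]; congr 2; ring,
    fun c ⟨x, a, b⟩ => by simp only [Prod.smul_mk, xh_ap, s.smul, smul_eq_mul, map_mul]; congr 2; ring,
    fun ⟨x, a, b⟩ => by simp only [xh_ap, Qh_ap, q_std e, map_add, map_mul, ← l]; grind⟩

theorem act_std (k : Ph ρ t j κ ι Φ) (i : h ∈ 𝐂₁(t)) (s : Sem 1 θ ξ) (e : ∀ x i, ξ x i = θ (x i)) (f : Ind ρ h ξ) :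
    ∃ θ ξ, So (Qh m κ) θ ξ ∧ Act Φ h ξ := by
  obtain ⟨a, l⟩ := st1 k.toJ1 i s e f
  obtain ⟨μ, rfl⟩ := ex_rt a
  have so := xh_so s e (st3 k s e f l)
  have q0 := k.toSm.q0_Vf (vf0 k.toSm)
  let H : Subgroup (OG (Qh m κ)) :=
    { carrier := {g | ∃ g' : OG (Qh m κ), (∀ x, g'.1 (xh θ μ ξ x) = xh θ μ ξ (g.1 x)) ∧ h * Φ g * h⁻¹ = Φ g'}
      one_mem' := ⟨1, fun _ => rfl, by simp⟩
      mul_mem' := fun ⟨a, p, q⟩ ⟨b, p', q'⟩ => ⟨a * b, fun x => by rw [og_mul, p', p, og_mul], by rw [map_mul, conj_mul_conj, q, q', map_mul]⟩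
      inv_mem' := fun {g} ⟨a, p, q⟩ => ⟨a⁻¹, fun x => a.1.injective (by rw [p, ← og_mul, ← og_mul g, mul_inv_cancel, mul_inv_cancel]; rfl),
        by rw [map_inv, map_inv, ← q, conj_inv]⟩ }
  have top : H = ⊤ := k.toSm.o_gen (fun w c n => ⟨_, so.refl _, by
      rw [phi_refl k n, xh_ap, map_zero, mul_zero, add_zero, phi_refl k (by rw [q_std e, ← map_mul, ← map_add, n, map_one]),
        conj_mul_conj, ind_tv s f, map_one, mem_c1.1 i, mul_inv_cancel_right]⟩)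
    ⟨_, so.ei _ _, by rw [k.nn _ q0, l, xh_ap, xh_ap, bv_std e, s.zero, ← phi_n k q0]; simp⟩
  refine ⟨θ, _, so, fun g g' n => ?_⟩
  obtain ⟨a, p, q⟩ : g ∈ H := top ▸ mem_top g
  rw [q, og_ext (g := a) (s := g') fun x => by obtain ⟨y, rfl⟩ := (xh θ μ ξ).surjective x; rw [p, n]]

end S3

open S3

theorem Ph.act (k : Ph ρ t j κ ι Φ) (i : h ∈ 𝐂₁(t)) : ∃ θ ξ, So (Qh m κ) θ ξ ∧ Act Φ h ξ := by
  obtain ⟨ξ, ⟨θ, s⟩, f⟩ := k.ind h i
  obtain ⟨g, l, e⟩ := k.toSm.std s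
  obtain ⟨θ', ξ', s', a⟩ := act_std k (h := up ρ g * h) (mul_mem (mem_c1.2 (t_cm k.toTB g)) i) (θ := θ) (ξ := g * ξ)
    (by simpa using (su_sem l).mul s) e fun y n => by
      calc _ = up ρ g * (h * up ρ y * h⁻¹) * (up ρ g)⁻¹ := by group
        _ = _ := by rw [f y n, ← up_cj l (s.su n)]; simp only [_root_.mul_inv_rev, mul_assoc]
  have b := (act_of (Φ := Φ) (up ι g)).inv.mul s' a
  rw [phi_up k, inv_mul_cancel_left] at b
  exact ⟨_, _, (so_of _).inv.mul s', b⟩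

theorem Ph.od (k : Ph ρ t j κ ι Φ) (a1 : ∀ d, IsConj t d → d ∉ ρ.range) : OD Φ (0, 1, 0) t where
  toOs := k.toSm.os κ
  inj := k.inj
  qr := by simp [Qh_ap]
  tt := k.tt.symm
  act := fun _ => k.act
  c2 := fun c i e => (k.r2 c ⟨mem_c1.2 (i t ⟨_, k.tt⟩).symm, by rintro _ ⟨g, rfl⟩; exact i _ ⟨_, k.io g⟩⟩ e).resolve_right fun n => by
    have q0 := k.toSm.q0_Vf (vf0 k.toSm)
    have := k.tw _ q0
    rw [← n, i _ ⟨_, k.nn _ q0⟩, mul_inv_cancel_right, left_eq_mul] at this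
    exact tv_ne k.toTB this
  dc := fun d i c => by
    obtain ⟨y, rfl⟩ := k.toJ1.dc a1 i c
    obtain ⟨c, e⟩ := ex_rt (1 + Q0 F m y)
    have n : Q0 F m y + c * c = 1 := by grind
    exact ⟨(y, c, 0), by simp [Qh_ap, n], by rw [phi_refl k n, t_cm k.toTB]⟩

theorem Ph.le (k : Ph ρ t j κ ι Φ) [L.Normal] (l : ρ.range ≤ L) : G0 Φ ≤ L := by
  have := (k.toSm.os κ).simple
  rcases this.eq_bot_or_eq_top_of_normal ((L.comap Φ).subgroupOf (_root_.commutator (OG (Qh m κ)))) inferInstance with e | e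
  · have i : (⟨_, k.om ⟨_, tv_SU (bv 0) 1⟩⟩ : _root_.commutator (OG (Qh m κ))) ∈ (L.comap Φ).subgroupOf _ := l ⟨_, (k.io _).symm⟩
    rw [e, mem_bot] at i
    exact (tv_ne k.toTB (by rw [tv, up_eq (tv_SU _ _), ← k.io, show ι _ = 1 from congrArg Subtype.val i, map_one])).elim
  · exact map_le_iff_le_comap.2 (subgroupOf_eq_top.1 e)

end CF.Dq
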