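import Cfsg.Agent.Dq.T1a

/-! A standard symplectic subgroup, orthogonal case: no conjugate of `t` lies in the symplectic group. -/

set_option autoImplicit false
set_option linter.unusedSectionVars false
set_option linter.unusedVariables false

namespace CF.Dq

open Subgroup Equiv CF.Loc CF.LX CF.Geom QuadraticMap Module CF.Ud
open CF.Dbl (El)
open scoped commutatorElement

variable {F : Type} [Field F] [Fintype F] [CharP F 2] {m : ℕ} {θ : F ≃+* F} {a b c κ δ : F}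
  {g ξ ξ' α w : Perm (Fin m → F)} {u v x y z n u' v' p : Fin m → F} {A H : Subgroup (Perm (Fin m → F))}
  {T : Submodule F (Fin m → F)} {G : Type*} [Group G] [Finite G] {ρ : SU (1 : F ≃+* F) m →* G} {t d h : G}
  {j : (Fin m → F) → G} {D : Subgroup G}

namespace S4

/-- the preimage as a group of permutations -/
def pre (ρ : SU (1 : F ≃+* F) m →* G) (D : Subgroup G) : Subgroup (Perm (Fin m → F)) := (D.comap ρ).map (SU 1 m).subtype

theorem mem_pre (i : g ∈ SU 1 m) : g ∈ pre ρ D ↔ up ρ g ∈ D :=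
  ⟨fun ⟨_, a, e⟩ => e ▸ (up_coe (φ := ρ) _).symm ▸ a, fun a => ⟨⟨g, i⟩, by rwa [up_eq i] at a, rfl⟩⟩
theorem ti (hu : u ∈ Vf F m (m / 2)) (hv : v ∈ Vf F m (m / 2)) : hf 1 u v = 0 := Vf_ti le_rfl u hu v hv
theorem part (hx : x ∉ T) : ∃ n, hf 1 x n = 1 ∧ ∀ z ∈ T, hf 1 z n = 0 := by
  obtain ⟨f, a, b⟩ := Submodule.exists_dual_map_eq_bot_of_notMem hx inferInstance
  have e : ∀ z, hf 1 z (fun i => (f x)⁻¹ * f (bv i.rev.val)) = (f x)⁻¹ * f z := fun z => by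
    conv_rhs => rw [← sum_bv z]
    simp [hf, Finset.mul_sum, mul_left_comm, -Fin.val_rev]
  exact ⟨_, by rw [e, inv_mul_cancel₀ a], fun z i => by
    rw [e, show f z = 0 from (Submodule.mem_bot F).1 (b ▸ Submodule.mem_map_of_mem i), mul_zero]⟩

variable (s : Sm F m)
include s

theorem ap (e : hf 1 n v = 0) (ζ : F) (x : Fin m → F) : E 1 v n ζ x = x + hf 1 x v • n + (hf 1 x n + ζ * hf 1 x v) • v := E_ap (s.ok e ζ) x
theorem tap (v : Fin m → F) (ζ : F) (x : Fin m → F) : E 1 v 0 ζ x = x + (ζ * hf 1 x v) • v := by simp [ap s (hf_zero_l v)]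
theorem su (v n : Fin m → F) (ζ : F) : E 1 v n ζ ∈ SU 1 m := s.mem_SU (E_sem ..)
theorem e_add (e : hf 1 v u = 0) (e' : hf 1 x u = 0) (f : hf 1 x v = 0) : E 1 u (v + x) 0 = E 1 u v 0 * E 1 u x 0 := by
  rw [E_mul (s.ok e 0) (s.ok e' 0), f]; simp
theorem e_sw (e : hf 1 u v = 0) : E 1 u v 0 = E 1 v u 0 := E_swap iv1 (s.iso u) (s.iso v) e
theorem e_add' (e : hf 1 v u = 0) (e' : hf 1 x u = 0) (f : hf 1 x v = 0) : E 1 (v + x) u 0 = E 1 v u 0 * E 1 x u 0 := by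
  rw [e_sw s e, e_sw s e', e_sw s (by simp [e, e']), e_add s e e' f]
theorem e_inv (e : hf 1 n v = 0) (ζ : F) : (E 1 v n ζ)⁻¹ = E 1 v n ζ := E_inv (s.ok e ζ)
theorem t_inv (v : Fin m → F) (ζ : F) : (E 1 v 0 ζ)⁻¹ = E 1 v 0 ζ := e_inv s (hf_zero_l v) ζ
theorem e_smul (e : hf 1 v u = 0) (c : F) : E 1 (c • u) v 0 = E 1 u (c • v) 0 := by
  simpa using E_smul (s.ok (v := c • u) (n := v) (by simp [e]) 0) (s.iso u) e
theorem e_shift (e : hf 1 n v = 0) (ζ c : F) : E 1 v (n + c • v) ζ = E 1 v n ζ := by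
  simpa [add_assoc, CharTwo.add_self_eq_zero] using E_shift (s.ok e ζ) c
theorem e_self (u : Fin m → F) (c d : F) : E 1 (c • u) (d • u) 0 = 1 := by
  rw [e_smul s (by simp [s.iso]), smul_smul, ← zero_add (_ • u), e_shift s (hf_zero_l u), E_zero]
theorem t_pol (e : hf 1 u v = 0) : E 1 (u + v) 0 1 * E 1 u 0 1 = E 1 u v 0 * E 1 v 0 1 := by
  rw [← one_smul F v, ← tv_pol iv1 (s.iso u) (s.iso v) e rfl, one_smul, mul_assoc _ _ (E 1 v 0 1), tv_sq, mul_one]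
theorem wc (a : g ∈ WW 1 m) (b : w ∈ WW 1 m) : g * w = w * g := by
  have e := fun {x : Perm (Fin m → F)} (i : x ∈ WW 1 m) => inv_eq_of_mul_eq_one_right (W_sq (Vf_ti le_rfl) i)
  rw [← e (mul_mem a b), mul_inv_rev, e a, e b]
theorem al_E (i : Al α) (c : F) (n : Fin m → F) : α * E 1 (α n + n) (c • n) 0 = E 1 (α n + n) (c • n) 0 * α := by
  have e : hf 1 (c • n) (α n + n) = 0 := by simp [hf_comm n (α n), i.2, s.iso]
  rw [← conj_eq_iff, E_cj1 i.1.1, W_fix i.1 (fun _ => ti (W_add i.1 n)), i.1.1.smul1, ← e_shift s e 0 c, smul_add, add_comm (c • α n),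
    ← add_assoc, vv, zero_add]

section core
variable (i : Al α) (hy : y ∈ Vf F m (m / 2))
  (l : ∀ r ∈ SU 1 m, r * (E 1 y 0 1 * α) = E 1 y 0 1 * α * r → ∀ z ∈ Vf F m (m / 2), r * E 1 z 0 1 * r⁻¹ * (E 1 z 0 1)⁻¹ ∈ H)
include i hy l

theorem key (e : hf 1 y n = 0) (hz : z ∈ Vf F m (m / 2)) (c : F) :
    E 1 z ((c * hf 1 z n) • (α n + n)) 0 * E 1 ((c * hf 1 z n) • (α n + n)) 0 1 ∈ H := by
  have hp := W_add i.1 n
  have f : hf 1 (c • n) (α n + n) = 0 := by simp [hf_comm n (α n), i.2, s.iso]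
  have := l _ (su s (α n + n) (c • n) 0) (by
    rw [mul_assoc, al_E s i, ← mul_assoc, ← mul_assoc, (conj_eq_iff (x := E 1 _ (c • n) 0)).1 (by rw [tv_cj1 (E_sem ..), E_fix (ti hy hp) (by simp [e])])]) z hz
  rwa [tv_cj1 (E_sem ..), ap s f, ti hz hp, zero_smul, add_zero, mul_zero, add_zero, hf_smul_r, t_inv s,
    t_pol s (ti hz (Submodule.smul_mem _ _ hp))] at this
theorem zer (e : hf 1 y n = 0) (hx : x ∈ Vf F m (m / 2)) (f : hf 1 x n = 1) (hz : z ∈ Vf F m (m / 2)) (f' : hf 1 z n = 0) (c : F) :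
    E 1 z (c • (α n + n)) 0 ∈ H := by
  have hp := Submodule.smul_mem _ c (W_add i.1 n)
  have h1 := key s i hy l e hx c
  have h2 := key s i hy l e (add_mem hz hx) c
  rw [hf_add_l, f', zero_add, f, mul_one, e_add' s (ti hz hp) (ti hx hp) (ti hx hz), mul_assoc] at h2
  rw [f, mul_one] at h1
  exact (mul_mem_cancel_right h1).1 h2
theorem big (q : 2 < Nat.card F) (e : hf 1 y n = 0) (hx : x ∈ Vf F m (m / 2)) (f : hf 1 x n = 1) (c : F) :
    E 1 x (c • (α n + n)) 0 ∈ H := by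
  obtain ⟨a, a0, a1⟩ : ∃ a : F, a ≠ 0 ∧ a ≠ 1 := by
    by_contra! z
    have : Nat.card F ≤ Nat.card (Fin 2) := Nat.card_le_card_of_surjective (fun i : Fin 2 => ((i : ℕ) : F)) fun a => by
      by_cases e : a = 0
      exacts [⟨0, by simp [e]⟩, ⟨1, by simp [z a e]⟩]
    rw [Nat.card_fin] at this; omega
  have a2 : a * (a + 1) ≠ 0 := mul_ne_zero a0 fun z => a1 (by grind)
  have hp := fun c => Submodule.smul_mem _ c (W_add i.1 n)
  have h1 := key s i hy l e hx (c / (a * (a + 1)) * a)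
  have h2 := key s i hy l e (Submodule.smul_mem _ a hx) (c / (a * (a + 1)))
  rw [hf_smul_l, f, mul_one, e_smul s (ti (hp _) hx)] at h2
  rw [f, mul_one] at h1
  have := mul_mem h2 (inv_mem h1)
  rwa [mul_inv_rev, mul_assoc, mul_inv_cancel_left, e_inv s (ti (hp _) hx), smul_smul, ← e_add s (ti (hp _) hx) (ti (hp _) hx) (ti (hp _) (hp _)),
    ← add_smul, show a * (c / (a * (a + 1)) * a) + c / (a * (a + 1)) * a = c by rw [← add_one_mul, mul_comm, mul_assoc, div_mul_cancel₀ _ a2]] at this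
theorem lng (q : 8 ≤ m) (e : hf 1 y n = 0) (hx : x ∈ Vf F m (m / 2)) (f : hf 1 x n = 1) : E 1 (α n + n) 0 1 ∈ H := by
  have hp := W_add i.1
  obtain ⟨z, hz, o⟩ := exists_out (T := Submodule.span F (Set.range ![y, α n + n, x])) (T' := Vf F m (m / 2))
    ((span_dim _).trans_lt (by rw [Vf_dim (by omega)]; omega))
  obtain ⟨k, k1, k2⟩ := part o
  have k3 : hf 1 y k = 0 := k2 _ (Submodule.subset_span ⟨0, rfl⟩)
  have k4 : hf 1 (α n + n) k = 0 := k2 _ (Submodule.subset_span ⟨1, rfl⟩)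
  have k5 : hf 1 x k = 0 := k2 _ (Submodule.subset_span ⟨2, rfl⟩)
  have hz' := add_mem hz (Submodule.smul_mem _ (hf 1 z n) hx)
  have f1 : hf 1 (z + hf 1 z n • x) n = 0 := by simp [f, CharTwo.add_self_eq_zero]
  have f2 : hf 1 (z + hf 1 z n • x) k = 1 := by simp [k1, k5]
  have h1 := key s i hy l k3 hz' 1
  have h2 := key s i hy l (n := n + k) (by simp [e, k3]) hz' 1
  have h3 := zer s i hy l e hx f hz' f1 1
  have h4 := zer s i hy l e hx f (hp k) (by rw [W_sa (Vf_ti le_rfl) i.1, hf_comm, k4]) 1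
  rw [hf_add_r, f1, f2, zero_add, one_mul, one_smul, i.1.1.add, add_add_add_comm, e_add s (ti (hp n) hz') (ti (hp k) hz') (ti (hp k) (hp n)),
    add_comm (α n + n), s.tv_add (ti (hp k) (hp n)), mul_assoc, ← mul_assoc (E 1 _ _ 0) _ (E 1 _ _ 0), ← mul_assoc (E 1 _ (α k + k) 0)] at h2
  rw [f2, one_mul, one_smul] at h1
  rw [one_smul] at h3 h4
  exact (mul_mem_cancel_left h1).1 ((mul_mem_cancel_right h4).1 ((mul_mem_cancel_left h3).1 h2))
theorem all (ex : 8 ≤ m ∨ 2 < Nat.card F) (e : hf 1 y n = 0) (hz : z ∈ Vf F m (m / 2)) : E 1 z (α n + n) 0 ∈ H := by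
  by_cases o : ∀ x ∈ Vf F m (m / 2), hf 1 n x = 0
  · rw [W_fix i.1 o, vv, E_zero]; exact one_mem _
  push Not at o
  obtain ⟨x₀, h0, o⟩ := o
  have hx := Submodule.smul_mem _ (hf 1 n x₀)⁻¹ h0
  have f : hf 1 ((hf 1 n x₀)⁻¹ • x₀) n = 1 := by rw [hf_smul_l, hf_comm x₀, inv_mul_cancel₀ o]
  generalize (hf 1 n x₀)⁻¹ • x₀ = x at hx f
  have hp := W_add i.1 n
  have h1 : ∀ c : F, E 1 x (c • (α n + n)) 0 ∈ H := fun c => by
    rcases ex with q | q
    · by_cases c0 : c = 0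
      · rw [c0, zero_smul, E_zero]; exact one_mem _
      have h1 := key s i hy l e hx c
      have h2 := lng s i hy l q (n := c • n) (by simp [e]) (Submodule.smul_mem _ c⁻¹ hx) (by simp [f, c0])
      rw [i.1.1.smul1, ← smul_add] at h2
      rw [f, mul_one] at h1
      exact (mul_mem_cancel_right h2).1 h1
    · exact big s i hy l q e hx f c
  have hc := Submodule.smul_mem _ (hf 1 z n) hx
  have h2 := zer s i hy l e hx f (add_mem hz hc) (by simp [f, CharTwo.add_self_eq_zero]) 1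
  rw [one_smul, e_add' s (ti hz hp) (ti hc hp) (ti hc hz), e_smul s (ti hp hx)] at h2
  exact (mul_mem_cancel_right (h1 _)).1 h2
theorem core (ex : 8 ≤ m ∨ 2 < Nat.card F) : α ∈ H := by
  obtain ⟨k, e⟩ : ∃ k, ∀ x, ∃ c : F, hf 1 y (x + c • k) = 0 := by
    by_cases y0 : y = 0
    · exact ⟨0, fun x => ⟨0, by simp [y0]⟩⟩
    obtain ⟨k, e, -⟩ := part (T := ⊥) y0
    exact ⟨k, fun x => ⟨hf 1 y x, by simp [e, CharTwo.add_self_eq_zero]⟩⟩
  have hp := W_add i.1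
  have f : ∀ x, ∀ c : F, α x + x = α (x + c • k) + (x + c • k) + c • (α k + k) := fun x c => by
    rw [i.1.1.add, i.1.1.smul1]; linear_combination (norm := module) -vv (c • α k) - vv (c • k)
  refine s.al_gen i fun x x' => ?_
  obtain ⟨c, e1⟩ := e x
  obtain ⟨c', e2⟩ := e x'
  have hc := Submodule.smul_mem _ c (hp k)
  have hc' := Submodule.smul_mem _ c' (hp k)
  rw [f x c, e_add' s (ti (hp _) (hp _)) (ti hc (hp _)) (ti hc (hp _)), e_sw s (ti (hp _) (hp x'))]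
  refine mul_mem (all s i hy l ex e1 (hp _)) ?_
  rw [f x' c', e_add s (ti (hp _) hc) (ti hc' hc) (ti hc' (hp _)), e_self s, mul_one]
  exact all s i hy l ex e2 hc
end core

theorem six (hu : u ∈ Vf F m (m / 2)) (hx : x ∈ Vf F m (m / 2)) (hy : y ∈ Vf F m (m / 2)) :
    E 1 (x + y + u) 0 1 * E 1 u 0 1 * (E 1 (x + u) 0 1 * E 1 u 0 1) * (E 1 (y + u) 0 1 * E 1 u 0 1) = E 1 x y 0 := Equiv.ext fun z => by
  simp only [Perm.mul_apply, tap s, ap s (ti hy hx), hf_add_l, hf_add_r, hf_smul_l, ti hu hu, ti hu hx, ti hu hy, ti hx hu, ti hx hx,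
    ti hx hy, ti hy hu, ti hy hx, ti hy hy]
  ext i; simp; grind

end S4

open S4

namespace J1
variable (k : J1 ρ t j κ)
include k

theorem sm4 : Sm F m := k.toTD.toTB.toSm
theorem jt (hu : u ∈ Vf F m (m / 2)) (hv : v ∈ Vf F m (m / 2)) : j u * tv ρ v 1 * (j u)⁻¹ = tv ρ (v + u) 1 * tv ρ u 1 := by
  simpa using k.ac u v 1 (k.sm4.q0_Vf hu) (ti hv hu) (by simp [k.sm4.q0_Vf hv])
theorem jE (hu : u ∈ Vf F m (m / 2)) (hx : x ∈ Vf F m (m / 2)) (hy : y ∈ Vf F m (m / 2)) :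
    up ρ (E 1 x y 0) ∈ 𝐂₁(j u) := by
  have s := k.sm4
  have a := fun v => su s v 0 1
  rw [mem_c1, eq_comm, ← conj_eq_iff]
  conv_lhs => rw [← one_smul F y, ← tv_pol iv1 (s.iso x) (s.iso y) (ti hx hy) rfl, up_mul (mul_mem (a _) (a _)) (a _), up_mul (a _) (a _),
    conj_mul_conj, conj_mul_conj, k.jt hu (add_mem hx hy), k.jt hu hx, k.jt hu hy]
  rw [← six s hu hx hy, up_mul (mul_mem (mul_mem (a _) (a _)) (mul_mem (a _) (a _))) (mul_mem (a _) (a _)),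
    up_mul (mul_mem (a _) (a _)) (mul_mem (a _) (a _)), up_mul (a _) (a _), up_mul (a _) (a _), up_mul (a _) (a _)]
theorem jal (hu : u ∈ Vf F m (m / 2)) (i : Al α) : j u * up ρ α = up ρ α * j u :=
  (mem_c1.1 ((mem_pre (k.sm4.mem_SU i.1.1)).1 (k.sm4.al_gen i fun x y =>
    (mem_pre (su k.sm4 _ _ _)).2 (k.jE hu (W_add i.1 x) (W_add i.1 y))))).symm
theorem cL (g : Perm (Fin m → F)) : t * up ρ g = up ρ g * t := (mem_centralizer_iff'.1 k.cm _ (up_range g)).symm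
theorem usq (i : g ∈ SU 1 m) (e : up ρ g * up ρ g = 1) : g * g = 1 := by
  rw [← up_mul i i, up_eq (mul_mem i i)] at e
  exact congrArg Subtype.val (k.toTD.toTB.inj (e.trans ρ.map_one.symm))
theorem dsq (i : IsConj t d) : d * d = 1 := by
  obtain ⟨c, rfl⟩ := isConj_iff.1 i
  rw [← conj_mul_conj, k.t2]; simp
theorem a1 (ex : 8 ≤ m ∨ 2 < Nat.card F) (i : IsConj t d) : d ∉ ρ.range := fun o => by
  have s := k.sm4
  obtain ⟨g, hg, rfl⟩ := mem_range_up.1 o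
  obtain ⟨r, hr, hw⟩ := s.m3 (su_sem hg) (k.usq hg (k.dsq i))
  have i' : IsConj t (up ρ (r * g * r⁻¹)) := i.trans (isConj_iff.2 ⟨_, (up_cj hr hg).symm⟩)
  obtain ⟨y, hy, α, al, e⟩ := s.W_dec hw
  have ha := s.mem_SU al.1.1
  have a := fun v => su s v 0 1
  have cw : ∀ z ∈ Vf F m (m / 2), tv ρ z 1 ∈ 𝐂₁(up ρ (r * g * r⁻¹)) := fun z hz => mem_c1.2 (by
    rw [← up_mul (a z) (s.mem_SU hw.1), ← up_mul (s.mem_SU hw.1) (a z), wc s (E_W hz (zero_mem _) 1) hw])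
  refine k.toTD.toTB.nder i' ?_
  nth_rw 3 [e]
  rw [up_mul (a y) ha]
  refine mul_mem ?_ ((mem_pre ha).1 (core s al hy (fun r hr c z hz => (mem_pre (mul_mem (mul_mem (mul_mem hr (a z)) (inv_mem hr)) (inv_mem (a z)))).2 ?_) ex))
  · have := commutator_mem_commutator (H₁ := 𝐂₁(up ρ (r * g * r⁻¹))) (H₂ := 𝐂₁(up ρ (r * g * r⁻¹))) (g₁ := j y) (g₂ := t) (mem_c1.2 ?_) (mem_c1.2 (k.cL _))
    · rwa [commutatorElement_def, k.tw y (s.q0_Vf hy), k.cL, mul_inv_cancel_right] at this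
    · rw [e, up_mul (a y) ha, mul_assoc, ← k.jal hy al, ← mul_assoc, ← mul_assoc, ← (conj_eq_iff (x := j y)).1 (by rw [k.jt hy hy, vv, tv, E_zero_v, up_one, one_mul])]
  · rw [← commutatorElement_def, up_comm hr (a z)]
    exact commutator_mem_commutator (mem_c1.2 (by rw [← up_mul hr (s.mem_SU hw.1), ← up_mul (s.mem_SU hw.1) hr, e, c])) (cw z hz)
end J1

end CF.Dq
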