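import Cfsg.Agent.Dq.T1a
import Cfsg.Agent.Dq.P2

/-! Conjugates of the involution centralising the Thompson subgroup. -/

set_option autoImplicit false
set_option linter.unusedSectionVars false
set_option linter.unusedVariables false

namespace CF.Dq

open Subgroup Equiv CF.Loc CF.LX CF.Geom QuadraticMap Module CF.Ud
open CF.Dbl (El)
open scoped commutatorElement

variable {F : Type} [Field F] [Fintype F] [CharP F 2] {m : ℕ} {θ θ' : F ≃+* F} {a b c κ δ : F}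
  {g ξ ξ' α w : Perm (Fin m → F)} {u v x y n u' v' p : Fin m → F} {A H : Subgroup (Perm (Fin m → F))}
  {T : Submodule F (Fin m → F)} {G : Type*} [Group G] [Finite G] {ρ : SU (1 : F ≃+* F) m →* G} {t d h h' : G} {L B : Subgroup G}

open T1

namespace TB
variable (k : TB ρ t)
include k

theorem jA (h6 : 6 ≤ m) (i : IsConj t d) (l : zpowers t ⊔ im ρ (WW 1 m) ≤ 𝐂₁(d)) :
    ∃ n ∈ 𝐍(zpowers t ⊔ im ρ (WW 1 m)), n * t * n⁻¹ = d := by
  obtain ⟨g, rfl⟩ := isConj_iff.1 i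
  obtain ⟨ψ, Θ, a, b, -⟩ := k.psi
  have s := k.toSm
  have su : ∀ T : Submodule F (Fin m → F), WX 1 T ≤ SU 1 m := fun _ _ i => s.mem_SU i.1
  have el := k.elA (T := Vf F m (m / 2)) fun _ i _ j => hf_Vf i j (by omega)
  rw [← cj_centralizer_singleton] at l
  let c : ↥(zpowers t ⊔ im ρ (WW 1 m)) →* 𝐂₁(t) := ((MulAut.conj g⁻¹).toMonoidHom.comp (Subgroup.subtype _)).codRestrict _
    fun x => by simpa using mem_cj.1 (l x.2)
  have c2 : ∀ x, c x * c x = 1 := fun x => by rw [← map_mul, show x * x = 1 from Subtype.ext (el x x.2), map_one]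
  have e2 : ∀ x, E2 (c x).1 := fun x => ⟨1, (pow_two _).trans (congrArg Subtype.val (c2 x))⟩
  have ci : Function.Injective c := fun x y e => Subtype.ext ((MulAut.conj g⁻¹).injective (congrArg Subtype.val e))
  obtain ⟨T, ti, fr, e⟩ := s.j2 (A := (ψ.comp c).range) h6 (by rintro _ ⟨x, rfl⟩; exact ⟨_, (a _).1⟩)
    (by rintro _ ⟨x, rfl⟩; rw [MonoidHom.comp_apply, ← map_mul, c2, map_one]) (by
      have := card2 (ψ.comp c) (fun x => (c x).1 = t) (fun x e => (k.r2 _ ⟨(c x).2, (b _).1 e⟩ (e2 x)).imp_left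
        fun e => ci (Subtype.ext (by simpa using e))) fun x y p q => ci (Subtype.ext (p.trans q.symm))
      exact Nat.le_of_mul_le_mul_left ((k.cardA (su _)).trans this) two_pos)
  obtain ⟨r, rs, hr⟩ := s.wittX ti
  have rt := k.cm _ (up_range r)
  refine ⟨(up ρ r * g⁻¹)⁻¹, inv_mem (mem_normalizer_of_conj_mem fun x j => ?_), by
    rw [inv_inv, _root_.mul_inv_rev, inv_inv, mul_assoc g, mul_assoc g, ← mul_assoc _ _ g⁻¹, mul_assoc _ t, ← rt, inv_mul_cancel_left, mul_assoc]⟩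
  have hw : ψ (c ⟨x, j⟩) ∈ WX 1 T := e ▸ ⟨_, rfl⟩
  have z : up ρ r * g⁻¹ * x * (up ρ r * g⁻¹)⁻¹ = up ρ r * (c ⟨x, j⟩).1 * (up ρ r)⁻¹ := by simp [c, mul_assoc]
  refine (k.memA (su _)).2 ⟨r * ψ (c ⟨x, j⟩) * r⁻¹, ⟨(su_sem rs).cj hw.1, fun y => ?_⟩, ?_⟩
  · have := (hr _).1 (hw.2 (r⁻¹ y))
    rw [vsub, (su_sem rs).add, fr] at this
    simpa [vsub] using this
  · rw [z, up_cj rs (su _ hw)]
    refine (k.dec2 (c _).2 (su _ hw) (a _).2 (e2 _)).imp (fun e => by rw [← e]) fun e => ?_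
    rw [← mul_assoc, ← mul_assoc, ← rt, mul_assoc _ t, ← e]

end TB

end CF.Dq
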