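import Cfsg.Agent.Dq.S4a
import Cfsg.Agent.Dq.T1
import Cfsg.Agent.Dq.P3

/-! A standard symplectic subgroup, orthogonal case: `t` is not conjugate to its product with an alternating involution. -/

set_option autoImplicit false
set_option linter.unusedSectionVars false
set_option linter.unusedVariables false

namespace CF.Dq

open Subgroup Equiv CF.Loc CF.LX CF.Geom QuadraticMap Module CF.Ud
open CF.Dbl (El)
open scoped commutatorElement

variable {F : Type} [Field F] [Fintype F] [CharP F 2] {m : ℕ} {θ : F ≃+* F} {a b c κ δ : F}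
  {g ξ ξ' α w σ : Perm (Fin m → F)} {u v x y z n u' v' p : Fin m → F} {A H : Subgroup (Perm (Fin m → F))}
  {T : Submodule F (Fin m → F)} {G : Type*} [Group G] [Finite G] {ρ : SU (1 : F ≃+* F) m →* G} {t d h r : G}
  {j : (Fin m → F) → G} {D : Subgroup G}

namespace S4

theorem aut_two (f : F → F ≃+* F) : ∃ a b, a ≠ b ∧ f a = f b := by
  obtain ⟨ω, o⟩ := IsCyclic.exists_monoid_generator (α := Fˣ)
  have i : Function.Injective fun θ : F ≃+* F => Units.map (θ : F →* F) ω := fun θ θ' e => RingEquiv.ext fun x => by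
    by_cases x0 : x = 0
    · simp [x0]
    obtain ⟨n, h⟩ := o (Units.mk0 x x0)
    have e' : θ ω = θ' ω := congrArg Units.val e
    rw [show x = (ω : F) ^ n from (congrArg Units.val h).symm, map_pow, map_pow, e']
  by_contra! z
  have := Nat.card_le_card_of_injective _ (i.comp fun a b e => by_contra fun n => z a b n e)
  have := Nat.card_pos (α := F)
  rw [Nat.card_units] at *; omega
theorem memA (k : TB ρ t) (i : h ∈ zpowers t ⊔ im ρ (WW 1 m)) : ∃ w ∈ WW 1 m, h = up ρ w ∨ h = t * up ρ w := by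
  rw [sup_comm] at i
  obtain ⟨_, a, τ, b, rfl⟩ := (mem_sup_of_le_normalizer ((zpowers_le.2 (centralizer_le im_le k.cm)).trans (centralizer_le_normalizer _))).1 i
  obtain ⟨w, hw, -, rfl⟩ := mem_im.1 a
  refine ⟨w, hw, ?_⟩
  obtain ⟨n, rfl⟩ := b
  have : t ^ (2 : ℤ) = 1 := (zpow_two t).trans k.t2
  rcases Int.even_or_odd' n with ⟨n, rfl | rfl⟩ <;> simp [zpow_add, zpow_mul, this, mem_centralizer_iff'.1 k.cm _ (up_range w)]
end S4

open S4

namespace J1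
variable (k : J1 ρ t j κ)
include k

theorem uinj (a : g ∈ SU 1 m) (b : w ∈ SU 1 m) (e : up ρ g = up ρ w) : g = w := by
  rw [up_eq a, up_eq b] at e; exact congrArg Subtype.val (k.toTD.toTB.inj e)
theorem iuq {θ' : F ≃+* F} (l : Sem 1 θ ξ) (l' : Sem 1 θ' ξ') (a : Ind ρ h ξ) (b : Ind ρ h ξ') : ξ = ξ' :=
  inv_mul_eq_one.1 (k.sm4.gam_eq ⟨_, l.inv.mul l'⟩ fun v c => by
    have := k.uinj (l.su (tv_SU v c)) (l'.su (tv_SU v c)) ((a _ (tv_SU v c)).symm.trans (b _ (tv_SU v c)))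
    rw [mul_assoc, ← inv_mul_cancel_right (ξ' * _) ξ', ← this]; group)
theorem cmA (i : h ∈ zpowers t ⊔ im ρ (WW 1 m)) : ∃ w ∈ WW 1 m, ∀ x ∈ 𝐂₁(t), ⁅h, x⁆ = ⁅up ρ w, x⁆ := by
  obtain ⟨w, a, rfl | rfl⟩ := memA k.toTD.toTB i
  · exact ⟨w, a, fun _ _ => rfl⟩
  refine ⟨w, a, fun x c => ?_⟩
  rw [k.cL, commutatorElement_def, commutatorElement_def, mul_assoc _ t, ← mem_c1.1 c]; group
theorem cmI (i : Ind ρ h ξ) (a : w ∈ SU 1 m) (b : ξ ∈ SU 1 m) : ⁅up ρ w, h⁆ = up ρ ⁅w, ξ⁆ := by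
  rw [commutatorElement_def, mul_assoc, mul_assoc, ← mul_assoc h, ← up_inv a, i _ (inv_mem a), ← up_mul a ((su_sem b).su (inv_mem a)),
    commutatorElement_def, mul_assoc w, mul_assoc w]
theorem nrmA (hr : r ∈ 𝐍(zpowers t ⊔ im ρ (WW 1 m))) (a : σ ∈ SU 1 m) (b : σ ∈ 𝐍(WW 1 m)) (l : ξ ∈ SU 1 m) (c : r⁻¹ * up ρ σ * r ∈ 𝐂₁(t))
    (i : Ind ρ (r⁻¹ * up ρ σ * r) ξ) : ξ ∈ 𝐍(WW 1 m) ∧ (Cm ξ).ncard ≤ (Cm σ).ncard := by
  have s := k.sm4
  have f : ∀ w ∈ WW 1 m, ∃ w' ∈ WW 1 m, r * up ρ ⁅w, ξ⁆ * r⁻¹ = up ρ ⁅w', σ⁆ := fun w hw => by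
    obtain ⟨w', hw', e⟩ := k.cmA ((mem_normalizer_iff.1 hr _).1 (mem_sup_right (up_im hw (s.mem_SU hw.1))))
    refine ⟨w', hw', ?_⟩
    rw [up_comm (s.mem_SU hw'.1) a, ← e _ (mem_c1.2 (k.cL σ).symm), ← k.cmI i (s.mem_SU hw.1) l, commutatorElement_def, commutatorElement_def]; group
  have cs : ∀ {w g}, w ∈ WW 1 m → g ∈ SU 1 m → ⁅w, g⁆ ∈ SU (1 : F ≃+* F) m := fun a b =>
    mul_mem (mul_mem (mul_mem (s.mem_SU a.1) b) (inv_mem (s.mem_SU a.1))) (inv_mem b)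
  constructor
  · refine mem_normalizer_of_conj_mem fun w hw => ?_
    obtain ⟨w', hw', e⟩ := f w⁻¹ (inv_mem hw)
    have h1 : ⁅w', σ⁆ ∈ WW 1 m := by
      rw [commutatorElement_def, mul_assoc, mul_assoc, ← mul_assoc σ]; exact mul_mem hw' ((mem_normalizer_iff.1 b _).1 (inv_mem hw'))
    obtain ⟨w'', hw'', e' | e'⟩ := memA k.toTD.toTB ((mem_normalizer_iff.1 hr _).2 (e ▸ mem_sup_right (up_im h1 (s.mem_SU h1.1))))
    · have := mul_mem hw (k.uinj (cs (inv_mem hw) l) (s.mem_SU hw''.1) e' ▸ hw'')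
      simpa [commutatorElement_def, mul_assoc] using this
    · exact (k.toTD.toTB.tL ((mul_mem_cancel_right (up_range w'')).1 (e' ▸ up_range _))).elim
  · refine (Set.ncard_le_ncard_of_injOn (fun x => r * up ρ x * r⁻¹) (t := up ρ '' Cm σ) ?_ ?_).trans (Set.ncard_image_le)
    · rintro _ ⟨w, hw, rfl⟩
      obtain ⟨w', hw', e⟩ := f w hw
      exact ⟨_, ⟨w', hw', rfl⟩, e.symm⟩
    · rintro _ ⟨w, hw, rfl⟩ _ ⟨w', hw', rfl⟩ e
      exact k.uinj (cs hw l) (cs hw' l) (by simpa using e)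
theorem pick (hr : r ∈ 𝐍(zpowers t ⊔ im ρ (WW 1 m))) (i : Al α) (e : r * t * r⁻¹ = t * up ρ α) (p0 : α n + n ≠ 0) :
    ∃ c : F, c ≠ 0 ∧ ∃ ξ, r⁻¹ * up ρ (E 1 (α n + n) (c • n) 0) * r ∈ 𝐂₁(t) ∧ Sem 1 1 ξ ∧ Ind ρ (r⁻¹ * up ρ (E 1 (α n + n) (c • n) 0) * r) ξ ∧
      ξ ∈ 𝐍(WW 1 m) ∧ ξ * ξ = 1 ∧ ∃ u v, ∀ x ∈ Vf F m (m / 2), ξ x = x + hf 1 x u • v := by
  have s := k.sm4
  have hp := W_add i.1 n
  have f : ∀ c : F, hf 1 (c • n) (α n + n) = 0 := fun c => by simp [hf_comm n (α n), i.2, s.iso]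
  have ct : ∀ c : F, r⁻¹ * up ρ (E 1 (α n + n) (c • n) 0) * r ∈ 𝐂₁(t) := fun c => mem_c1.2 (by
    have : up ρ (E 1 (α n + n) (c • n) 0) * (r * t * r⁻¹) = r * t * r⁻¹ * up ρ (E 1 (α n + n) (c • n) 0) := by
      rw [e, ← mul_assoc, ← k.cL, mul_assoc, mul_assoc, ← up_mul (su s _ _ _) (s.mem_SU i.1.1), ← up_mul (s.mem_SU i.1.1) (su s _ _ _), al_E s i]
    apply (MulAut.conj r).injective; simpa [mul_assoc] using this)
  obtain ⟨ψ, Θ, h1, -, -⟩ := k.toTD.toTB.psi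
  let η : F → 𝐂₁(t) := fun c => ⟨_, ct c⟩
  have ad : ∀ a b, η (a + b) = η a * η b := fun a b => Subtype.ext (by
    simp only [η, coe_mul, add_smul, e_add s (f a) (f b) (show hf 1 (b • n) (a • n) = 0 by simp [s.iso]), up_mul (su s _ _ _) (su s _ _ _)]; group)
  have sq : ∀ a, η a * η a = 1 := fun a => by
    rw [← ad, CharTwo.add_self_eq_zero]; exact Subtype.ext (by simp [η])
  obtain ⟨a, b, ab, o⟩ := aut_two fun c => Θ (η c)
  have th : Θ (η (a + b)) = 1 := by rw [ad, map_mul, o, ← map_mul, sq, map_one]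
  obtain ⟨l, id⟩ := h1 (η (a + b))
  rw [th] at l
  obtain ⟨nr, cd⟩ := k.nrmA hr (su s _ _ _) ((s.W_norm ⟨_, E_sem ..⟩).2 fun x hx => by
    rw [ap s (f _), ti hx hp, zero_smul, add_zero]; exact add_mem hx (Submodule.smul_mem _ _ hp)) (s.mem_SU l) (ct _) id
  have x2 : ψ (η (a + b)) * ψ (η (a + b)) = 1 := by rw [← map_mul, sq, map_one]
  obtain ⟨v, u, o'⟩ := s.cm_rk l nr x2 ((Nat.mul_le_mul_right _ cd).trans (s.cm_le hp p0 (f _)))
  exact ⟨a + b, fun z => ab (by grind), _, ct _, l, id, nr, x2, u, v, o'⟩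

theorem a2 (i : Al α) (e : IsConj t (t * up ρ α)) : α = 1 := by
  have s := k.sm4
  have ha := s.mem_SU i.1.1
  have na : ∀ w ∈ SU 1 m, IsConj t (t * up ρ w) → ¬ ∃ g ∈ SU 1 m, g * w * g⁻¹ = E 1 (bv 0) (bv 1) 0 := fun w hw e ⟨g, hg, f⟩ =>
    k.na (e.trans (isConj_iff.2 ⟨up ρ g, by rw [conj_mul_conj, conj_eq_iff.2 (k.cL g).symm, ← up_cj hg hw, f]⟩))
  rcases s.al_cases i with h | h | ⟨h6, x, y, li, e1, e2⟩
  · exact h
  · exact (na α ha e h).elim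
  exfalso
  obtain ⟨r, hr, f⟩ := k.toTD.toTB.jA h6 e (sup_le (zpowers_le.2 (mem_c1.2 (by rw [mul_assoc, ← k.cL]))) fun _ b => by
    obtain ⟨w, hw, c, rfl⟩ := mem_im.1 b
    rw [mem_c1, ← mul_assoc, ← k.cL, mul_assoc, mul_assoc, ← up_mul c ha, ← up_mul ha c, wc s hw i.1])
  obtain ⟨c, c0, ξ, ct, l, id, nr, x2, u, v, o⟩ := k.pick hr i f (li.ne_zero 0)
  obtain ⟨c', c0', ξ', ct', l', id', nr', x2', u', v', o'⟩ := k.pick hr i f (li.ne_zero 1)
  have hp := W_add i.1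
  have sa := W_sa (Vf_ti le_rfl) i.1
  have px : hf 1 (α x + x) x = 0 := by simp [i.2, s.iso]
  have py : hf 1 (α x + x) y = 0 := by simp [e1, CharTwo.add_self_eq_zero]
  have qx : hf 1 (α y + y) x = 0 := by rw [sa, hf_comm, py]
  have qy : hf 1 (α y + y) y = 0 := by simp [i.2, s.iso]
  have xp := (hf_comm _ _).trans px
  have yp := (hf_comm _ _).trans py
  have yq := (hf_comm _ _).trans qy
  obtain ⟨n, dn⟩ := s.dual li ![1, 1]
  have zx : hf 1 (α n + n) x = 1 := by rw [sa, hf_comm]; exact dn 0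
  have zy : hf 1 (α n + n) y = 1 := by rw [sa, hf_comm]; exact dn 1
  have hx := hp x; have hy := hp y; have hz := hp n
  have ax := W_fix i.1 fun _ => ti hx
  have ay : α y = y + (α y + y) := by rw [add_comm (α y), ← add_assoc, vv, zero_add]
  generalize α x + x = p, α n + n = z at *
  generalize α y + y = q at *
  have cm : E 1 p (c • x) 0 * E 1 q (c' • y) 0 = E 1 q (c' • y) 0 * E 1 p (c • x) 0 := by
    rw [← conj_eq_iff, E_cj1 (E_sem ..), E_fix (ti hy hx) (by simp [qx]), E_fix (by simp [yp]) (by simp [hf_comm y x, e2])]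
  have cm' : ξ * ξ' = ξ' * ξ := by
    have a := id.mul l' id'
    have b := id'.mul l id
    rw [show r⁻¹ * up ρ (E 1 q (c' • y) 0) * r * (r⁻¹ * up ρ (E 1 p (c • x) 0) * r) = r⁻¹ * up ρ (E 1 p (c • x) 0) * r * (r⁻¹ * up ρ (E 1 q (c' • y) 0) * r) by
      simp only [mul_assoc, mul_inv_cancel_left]; rw [← mul_assoc (up _ _), ← mul_assoc (up _ _), ← up_mul (su s _ _ _) (su s _ _ _), ← up_mul (su s _ _ _) (su s _ _ _), cm]] at b
    exact k.iuq (l.mul l') (l'.mul l) a b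
  have cc : ⁅⁅E 1 z 0 1, E 1 p (c • x) 0⁆, E 1 q (c' • y) 0⁆ = E 1 p ((c * c') • q) 0 := by
    have hc := Submodule.smul_mem _ c hx
    have hc' := Submodule.smul_mem _ c' hy
    have h1 : ⁅E 1 z 0 1, E 1 p (c • x) 0⁆ = E 1 z (c • p) 0 * E 1 (c • p) 0 1 := by
      rw [commutatorElement_def, mul_assoc, mul_assoc, ← mul_assoc (E 1 p _ _), t_inv s, tv_cj1 (E_sem ..), wc s (E_W hz (zero_mem _) 1) (E_W ?_ (zero_mem _) 1),
        ap s (by simp [xp]), ← t_pol s (ti hz hc)]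
      · simp [ti hz hx, zx]
      · rw [ap s (by simp [xp]), ti hz hx, zero_smul, add_zero]; exact add_mem hz (Submodule.smul_mem _ _ hx)
    have w1 := mul_mem (E_W (σ := 1) hz hc 0) (E_W hc (zero_mem _) 1)
    rw [h1, commutatorElement_def, mul_assoc, mul_assoc, ← mul_assoc (E 1 q _ _), inv_eq_of_mul_eq_one_right (W_sq (Vf_ti le_rfl) w1), conj_mul_conj,
      tv_cj1 (E_sem ..), E_cj1 (E_sem ..), E_fix (x := c • p) (ti hc hy) (by simp [py]), ap s (by simp [yq]), ti hz hy, zero_smul, add_zero, mul_zero, add_zero,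
      hf_smul_r, zy, mul_one, RingAut.one_apply, add_comm z, e_add' s (ti hc' hc) (ti hz hc) (ti hz hc'), mul_assoc (E 1 (c' • q) _ 0), wc s (E_W hc' hc 0) w1, ← mul_assoc,
      W_sq (Vf_ti le_rfl) w1, one_mul, e_sw s (ti hc' hc), e_smul s (ti hc' hx), smul_smul]
  have he := Submodule.smul_mem _ (c * c') hy
  have cj : E 1 p ((c * c') • y) 0 * α * (E 1 p ((c * c') • y) 0)⁻¹ = α * E 1 p ((c * c') • q) 0 := by
    have := E_cj1 i.1.1 p ((c * c') • y) 0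
    rw [ax, i.1.1.smul1, ay, smul_add, add_comm, e_add s (ti he hx) (by simp [yp]) (by simp [yq]), mul_inv_eq_iff_eq_mul] at this
    have a2 := W_sq (Vf_ti le_rfl) i.1
    rw [mul_inv_eq_iff_eq_mul, mul_assoc, ← mul_left_inj α, mul_assoc α, ← this, ← mul_assoc α, a2, mul_assoc, a2, mul_one, one_mul]
  obtain ⟨w, hw, f'⟩ := k.cmA ((mem_normalizer_iff''.1 hr _).1 (mem_sup_right (up_im (E_W hz (zero_mem _) 1) (tv_SU _ _))))
  have ws := s.mem_SU hw.1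
  have cs : ∀ {w g}, w ∈ SU 1 m → g ∈ SU 1 m → ⁅w, g⁆ ∈ SU (1 : F ≃+* F) m := fun a b => mul_mem (mul_mem (mul_mem a b) (inv_mem a)) (inv_mem b)
  have fin : up ρ ⁅⁅w, ξ⁆, ξ'⁆ = r⁻¹ * up ρ (E 1 p ((c * c') • q) 0) * r := by
    rw [← k.cmI id' (cs ws (s.mem_SU l)) (s.mem_SU l'), ← k.cmI id ws (s.mem_SU l), ← f' _ ct, ← cc, up_comm (cs (tv_SU _ _) (su s _ _ _)) (su s _ _ _),
      up_comm (tv_SU _ _) (su s _ _ _)]
    simp only [commutatorElement_def]; group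
  rcases s.cm_two l nr x2 l' nr' x2' cm' o o' hw with h | h
  · rw [h, up_one, eq_comm, mul_assoc, inv_mul_eq_one, right_eq_mul, ← up_one (φ := ρ)] at fin
    exact mul_ne_zero c0 c0' (s.w2inj (a := 0) (b := 0) li (ti hx hy) (by simpa using k.uinj (su s _ _ _) (one_mem _) fin)).2.2
  · refine na _ (cs (cs ws (s.mem_SU l)) (s.mem_SU l')) (e.trans (isConj_iff.2 ⟨r⁻¹ * up ρ (E 1 p ((c * c') • y) 0), ?_⟩)) h
    rw [fin, mul_inv_rev, mul_assoc, mul_assoc, ← mul_assoc (t * _), ← mul_assoc (up _ _), ← mul_assoc (up _ _), conj_mul_conj, conj_eq_iff.2 (k.cL _).symm,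
      ← up_cj (su s _ _ _) ha, cj, up_mul ha (su s _ _ _), ← mul_assoc t, ← f]; group
end J1

end CF.Dq
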