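import Cfsg.Agent.Dq.X1
import Cfsg.Agent.Dq.S3
import Cfsg.Agent.Dq.G5
import Cfsg.Agent.Dq.M4

/-! A standard symplectic subgroup in characteristic two: orthogonal overgroups. -/

set_option autoImplicit false
set_option linter.unusedSectionVars false

namespace CF.Dq

open Cfsg Subgroup Equiv CF.Loc CF.LX CF.Ud Module CF.Geom
open CF.Sq (ev Xz Sx)

variable {F : Type} [Field F] [Fintype F] [CharP F 2] {m : ℕ} {c δ : F} {g : Perm (Fin m → F)} {u v w : Fin m → F}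
  {G : Type*} [Group G] [Finite G] {ρ : SU (1 : F ≃+* F) m →* G} {t x j o : G}

namespace Z1
open S1

/-- conjugates of the element moving `t` -/
structure Xu (ρ : SU (1 : F ≃+* F) m →* G) (t x : G) (δ : F) (u : Fin m → F) (j : G) : Prop where
  tw : j * t * j⁻¹ = t * tv ρ u 1
  rT : ∀ w ∈ Vf F m (m / 2), j * tv ρ w 1 * j⁻¹ = tv ρ w 1 * ev ρ u (δ • w) 0
  od : ∀ o ∈ 𝐂₁(t) ⊓ 𝐂(ρ.range), Odd (orderOf o) → j * o * j⁻¹ = x * o * x⁻¹

set_option quotPrecheck false in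
local notation "pt" s:max a:max b:max c:max => (by
  try simp (disch := repeat' first | exact E_sem .. | apply Sem.mul1) only [mul_assoc, um s]
  repeat with_reducible refine congrArg (HMul.hMul _) ?_
  refine congrArg (up _) (Equiv.ext fun y => ?_)
  simp only [Perm.mul_apply, Perm.one_apply, Eap s, or0, a, b, c, hf_add_l, hf_add_r, hf_smul_l, hf_smul_r, hf_zero_l, hf_zero_r, one_ap,
    mul_zero, add_zero]
  ext i
  simp only [Pi.add_apply, Pi.smul_apply, smul_eq_mul, Pi.zero_apply]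
  grind)

theorem sq_inj (h : Odd (orderOf x)) (h' : Odd (orderOf o)) (e : x * x = o * o) : x = o := by
  obtain ⟨n, k⟩ := h.mul h'
  have f : ∀ y : G, orderOf y ∣ 2 * n + 1 → y = (y * y) ^ (n + 1) := fun y i => by
    rw [← pow_two, ← pow_mul, show 2 * (n + 1) = 2 * n + 1 + 1 by ring, pow_succ, orderOf_dvd_iff_pow_eq_one.1 i, one_mul]
  rw [f x (k ▸ dvd_mul_right ..), f o (k ▸ dvd_mul_left ..), e]

theorem rE (s : Sm F m) (k : Xu ρ t x δ u j) (hu : u ∈ Vf F m (m / 2)) (hv : v ∈ Vf F m (m / 2)) (hw : w ∈ Vf F m (m / 2)) :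
    j * ev ρ v w 0 * j⁻¹ = ev ρ v w 0 := by
  have e : ev ρ v w 0 = tv ρ (v + w) 1 * (tv ρ v 1 * tv ρ w 1) := pt s hv hw hw
  rw [e, conj_mul_conj, conj_mul_conj, k.rT _ (add_mem hv hw), k.rT _ hv, k.rT _ hw]
  clear e
  exact pt s hu hv hw

variable (k : TB ρ t) (h : Xe ρ t x δ)
include k h

theorem back (e : hf 1 w (bv 0) = 0) : ∃ g, x⁻¹ * tv ρ w 1 * x = up ρ g := by
  have s := k.toSm
  have key : ∀ y ∈ im ρ (Y 1 (bv 0)), x * y * x⁻¹ ∈ im ρ (Y 1 (bv 0)) := fun y i' => by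
    obtain ⟨g, i, j, rfl⟩ := mem_im.1 i'
    have := s.Y_gen (H := (((im ρ (Y 1 (bv 0))).comap (MulAut.conj x).toMonoidHom).comap ρ).map (SU 1 m).subtype) s.b0 (fun w e => by
      obtain ⟨c, f⟩ := rt (1 + Q0 F m w)
      refine ⟨⟨_, tv_SU w 1⟩, ?_, rfl⟩
      have := h.ac w c e f
      rw [tv, up_eq (tv_SU w 1)] at this
      change x * _ * x⁻¹ ∈ im ρ (Y 1 (bv 0))
      exact this.symm ▸ mul_mem (up_im ⟨tv_SU _ _, E_fix (by simp [s.iso, hf_sw e]) (hf_zero_r _) _⟩ (tv_SU _ _))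
        (up_im ⟨tv_SU _ _, E_fix (s.iso _) (hf_zero_r _) _⟩ (tv_SU _ _))) i
    obtain ⟨g', a, rfl⟩ := this
    rwa [Subgroup.coe_subtype, up_coe]
  have : x ∈ 𝐍(im ρ (Y 1 (bv 0))) := mem_normalizer_fintype key
  obtain ⟨g, -, -, f⟩ := mem_im.1 ((mem_normalizer_iff''.1 this _).1
    (up_im (g := E 1 w 0 1) ⟨tv_SU _ _, E_fix (hf_sw e) (hf_zero_r _) _⟩ (tv_SU _ _)))
  exact ⟨g, f.symm⟩

theorem nO (i : o ∈ 𝐂₁(t) ⊓ 𝐂(ρ.range)) (d : Odd (orderOf o)) : x * o * x⁻¹ ∈ 𝐂₁(t) ⊓ 𝐂(ρ.range) := by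
  have s := k.toSm
  have z : x * tv ρ (bv 0) 1 * x⁻¹ = tv ρ (bv 0) 1 := by
    rw [h.ac _ 1 (s.iso _) (by simp [s.q0_Vf s.b0V])]
    exact pt s s.b0V s.b0V s.b0V
  have t' : t = x * (t * tv ρ (bv 0) 1) * x⁻¹ := by
    rw [conj_mul_conj, h.tw, z, mul_assoc, um s (E_sem ..) (E_sem ..), tv_sq, up_one, mul_one]
  have c : x * o * x⁻¹ ∈ 𝐂₁(t) := mem_c1.2 (by
    rw [t', ← conj_mul_conj, ← conj_mul_conj, ← mul_assoc o, mem_c1.1 i.1, mul_assoc t, ← cL i.2, mul_assoc t])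
  obtain ⟨w, l, p, j, e, f⟩ := k.cY (s.ti_one (bv 0)) c fun v e => by
    obtain ⟨g, f⟩ := back k h (hf_sw (e _ (Submodule.mem_span_singleton_self _)))
    calc _ = x * (o * (x⁻¹ * tv ρ v 1 * x)) * x⁻¹ := by group
      _ = x * ((x⁻¹ * tv ρ v 1 * x) * o) * x⁻¹ := by rw [f, cL i.2]
      _ = _ := by group
  obtain ⟨a, rfl⟩ := s.W1 l
  have w2 : tv ρ (bv 0) a * tv ρ (bv 0) a = 1 := by rw [um s (E_sem ..) (E_sem ..), tv_sq, up_one]
  have : x * o * x⁻¹ = p := sq_inj (by rwa [orderOf_conj]) e (by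
    rcases f with f | f <;> rw [f]
    · rw [mul_assoc, ← mul_assoc (up _ _), cL j.2, mul_assoc, w2, mul_one]
    · calc _ = p * (t * (tv ρ (bv 0) a * p) * t * tv ρ (bv 0) a) := by group
        _ = p * p * t * (tv ρ (bv 0) a * t) * tv ρ (bv 0) a := by rw [cL j.2, ← mul_assoc t, ← mem_c1.1 j.1]; group
        _ = _ := by rw [cL k.cm, mul_assoc, mul_assoc t, w2, mul_one, mul_assoc, k.t2, mul_one])
  exact this ▸ j

theorem xu (u0 : u ≠ 0) (hu : u ∈ Vf F m (m / 2)) : ∃ j, Xu ρ t x δ u j := by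
  have s := k.toSm
  obtain ⟨g, l, rfl⟩ := s.O1_tr s.b0 (s.q0_Vf s.b0V) u0 (s.q0_Vf hu)
  refine ⟨up ρ g * x * (up ρ g)⁻¹, ?_, fun w hw => ?_, fun o i d => ?_⟩
  · calc _ = up ρ g * (x * ((up ρ g)⁻¹ * (t * up ρ g)) * x⁻¹) * (up ρ g)⁻¹ := by group
      _ = _ := by rw [← cL k.cm, inv_mul_cancel_left, h.tw, ← Tc s l, ← mul_assoc, cL k.cm]; group
  · have e := or0 hw hu
    have d : (1 : F) * 1 = 1 + Q0 F m w := by simp [s.q0_Vf hw]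
    have : tv ρ w 1 * ev ρ (g (bv 0)) (δ • w) 0 = tv ρ (w + (δ * 1) • g (bv 0)) 1 * tv ρ (g (bv 0)) (δ * δ) := pt s hu hw hw
    obtain ⟨w, rfl⟩ := g.surjective w
    have a := su_sem (s.O1_le l)
    rw [a.form1] at e
    rw [s.O1_q l] at d
    rw [this, ← a.smul1, ← a.add, ← Tc s l, ← Tc s l, ← Tc s l, ← conj_mul_conj (up ρ g) (tv ρ _ _), ← h.ac w 1 e d]
    group
  · calc _ = up ρ g * (x * ((up ρ g)⁻¹ * (o * up ρ g)) * x⁻¹) * (up ρ g)⁻¹ := by group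
      _ = _ := by rw [← cL i.2, inv_mul_cancel_left, cL (nO k h i d).2, mul_inv_cancel_right]

theorem xd (na : ¬ IsConj t (t * ev ρ (bv 0) (bv 1) 0)) : Xd ρ t x δ := by
  have s := k.toSm
  have hu := s.b0V
  have hv := s.b1V
  have i := LinearIndependent.pair_iff.1 s.li01
  have key : ∀ c : F, c ≠ 0 → ∃ a b d, Xu ρ t x δ (bv 0) a ∧ Xu ρ t x δ (c • bv 1) b ∧ Xu ρ t x δ (bv 0 + c • bv 1) d ∧
      d * (b * a) * t * (d * (b * a))⁻¹ = t * ev ρ (bv 0) (((1 + δ) * c) • bv 1) 0 := fun c c0 => by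
    have hw := Submodule.smul_mem _ c hv
    obtain ⟨a, ha⟩ := xu k h s.b0 hu
    obtain ⟨b, hb⟩ := xu k h (fun e => c0 (i 0 c (by simpa using e)).2) hw
    obtain ⟨d, hd⟩ := xu k h (fun e => c0 (i 1 c (by simpa using e)).2) (add_mem hu hw)
    refine ⟨a, b, d, ha, hb, hd, ?_⟩
    rw [show ∀ a b c : G, a * (b * c) * t * (a * (b * c))⁻¹ = a * (b * (c * t * c⁻¹) * b⁻¹) * a⁻¹ from fun _ _ _ => by group,
      ha.tw, conj_mul_conj b, hb.tw, hb.rT _ hu, conj_mul_conj, conj_mul_conj, conj_mul_conj, hd.tw, hd.rT _ hu, hd.rT _ hw,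
      rE s hd (add_mem hu hw) hw (Submodule.smul_mem _ _ hu)]
    exact pt s hu hv hv
  obtain rfl : δ = 1 := by_contra fun n => by
    obtain ⟨c, e⟩ : ∃ c, (1 + δ) * c = 1 := ⟨_, mul_inv_cancel₀ (by grind)⟩
    obtain ⟨a, b, d, -, -, -, f⟩ := key c (by grind)
    exact na (isConj_iff.2 ⟨_, by rw [f, e, one_smul]⟩)
  obtain ⟨a, b, d, ha, hb, hd, f⟩ := key 1 one_ne_zero
  rw [CharTwo.add_self_eq_zero, zero_mul, zero_smul, ev, E_zero, up_one, mul_one] at f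
  rw [one_smul] at hb hd
  obtain ⟨w, l, p, j, e, r⟩ := k.cY s.Vl_ti (mem_c1.2 (conj_eq_iff.1 f)) fun v e => by
    have hw := s.Vl_pp (x := v) fun y i => hf_sw (e y i)
    rw [← conj_eq_iff, show ∀ a b c y : G, a * (b * c) * y * (a * (b * c))⁻¹ = a * (b * (c * y * c⁻¹) * b⁻¹) * a⁻¹ from
      fun _ _ _ _ => by group, ha.rT _ hw, conj_mul_conj b, hb.rT _ hw, rE s hb hv hu (Submodule.smul_mem _ _ hw), conj_mul_conj,
      conj_mul_conj, hd.rT _ hw, rE s hd (add_mem hu hv) hv (Submodule.smul_mem _ _ hw), rE s hd (add_mem hu hv) hu (Submodule.smul_mem _ _ hw)]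
    exact pt s hu hv hw
  have k3 : ∀ o ∈ 𝐂₁(t) ⊓ 𝐂(ρ.range), Odd (orderOf o) → x ^ 3 * o * (x ^ 3)⁻¹ = p * o * p⁻¹ := fun o i q => by
    have q1 : Odd (orderOf (x * o * x⁻¹)) := by rwa [orderOf_conj]
    have q2 : Odd (orderOf (x * (x * o * x⁻¹) * x⁻¹)) := by rwa [orderOf_conj]
    calc _ = x * (x * (x * o * x⁻¹) * x⁻¹) * x⁻¹ := by rw [pow_three]; group
      _ = d * (b * a) * o * (d * (b * a))⁻¹ := by
        rw [← hd.od _ (nO k h (nO k h i q) q1) q2, ← hb.od _ (nO k h i q) q1, ← ha.od _ i q]; group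
      _ = _ := by
        rcases r with r | r <;> rw [r]
        · rw [mul_assoc p, cL i.2]; group
        · rw [mul_assoc (p * t), cL i.2, mul_assoc p, ← mul_assoc t, ← mem_c1.1 i.1]; group
  have kn : ∀ n : ℕ, ∀ o ∈ 𝐂₁(t) ⊓ 𝐂(ρ.range), Odd (orderOf o) → (x ^ 3) ^ n * o * ((x ^ 3) ^ n)⁻¹ = p ^ n * o * (p ^ n)⁻¹ := fun n => by
    induction n with
    | zero => simp
    | succ n f =>
      intro o i q
      rw [pow_succ, pow_succ p, ← conj_mul_conj', ← conj_mul_conj', k3 o i q, f _ (mul_mem (mul_mem j i) (inv_mem j)) (by rwa [orderOf_conj])]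
  obtain ⟨n, two⟩ := h.two
  refine ⟨⟨n, two⟩, h.tw, fun o i q => mem_c1.1 ?_, h.ac⟩
  have e1 := kn (2 ^ n) o i q
  rw [← pow_mul, mul_comm 3, pow_mul, two, one_pow, inv_one, one_mul, mul_one, eq_comm, conj_eq_iff, ← mem_c1] at e1
  obtain ⟨a, e2⟩ := exists_pow_eq_self_of_coprime (x := p) (Nat.Coprime.pow_left n e.coprime_two_left)
  have e3 := k3 o i q
  rw [conj_eq_iff.2 (mem_c1.1 (e2 ▸ pow_mem e1 a : p ∈ 𝐂₁(o))), conj_eq_iff, ← mem_c1] at e3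
  obtain ⟨b, e4⟩ := exists_pow_eq_self_of_coprime (x := x) (n := 3)
    ((Nat.Coprime.pow_right n (by decide)).coprime_dvd_right (orderOf_dvd_of_pow_eq_one two))
  exact e4 ▸ pow_mem e3 b

end Z1

theorem typeD {σ : F ≃+* F} {ρ : SU σ m →* G} {E₀ : Subgroup G} {j : ℕ} (d : Sx σ m) (hm : m = 2 * j) (f : Fr ρ t) (r : R2 ρ t)
    (ind : ∀ h ∈ 𝐂₁(t), ∃ θ ξ, Sem σ θ ξ ∧ Ind ρ h ξ) (o : Top ρ E₀) (e : Xz ρ t x) (na : ¬ IsConj t (t * ev ρ (bv 0) (bv 1) 0)) :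
    Nonempty (E₀ ≃* POmega F (quadFormPlus (j + 1) F)) ∨ ∃ a b : F, (∀ z₁ z₂ : F, z₁ ^ 2 + a * z₁ * z₂ + b * z₂ ^ 2 = 0 → z₁ = 0 ∧ z₂ = 0) ∧
      Nonempty (E₀ ≃* POmega F (quadFormMinus j F a b)) := by
  obtain rfl := d.toSd.one
  have s := sy_of d
  have k : TB ρ t := ⟨s.toSm, f, r, fun h i => let ⟨θ, ξ, a, b⟩ := ind h i; ⟨ξ, ⟨θ, a⟩, b⟩⟩
  obtain ⟨y, δ, h⟩ := s.xe f.ker e f.cm
  obtain ⟨J, κ, p⟩ := TD.j1 ⟨k, na, y, δ, Z1.xd k h na⟩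
  obtain ⟨ι, Φ, q⟩ := p.ph
  have := o.nor
  have l := (q.od fun d => p.a1 s.h8).fin o.sim o.cen (q.le o.le)
  have φ : E₀ ≃* _root_.commutator (OG (Qh m κ)) := (MulEquiv.subgroupCongr l.symm).trans (equivMapOfInjective _ Φ q.inj).symm
  rcases (s.toSm.os κ).iso (k := j) (by simp [hm]) with ⟨⟨ψ⟩⟩ | ⟨a, b, c, ⟨ψ⟩⟩
  exacts [.inl ⟨φ.trans ψ⟩, .inr ⟨a, b, c, ⟨φ.trans ψ⟩⟩]

end CF.Dq
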