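import Cfsg.Agent.Dq.C5
import Cfsg.Agent.Dq.X1
import Cfsg.Agent.Dq.C2

/-! A standard symplectic subgroup in characteristic two: odd-dimensional overgroups. -/

set_option autoImplicit false

namespace CF.Dq

open Subgroup Equiv CF.Loc CF.LX CF.Ud
open CF.Sq (ev Xz Bd Sx Jt sg)

variable {F : Type} [Field F] [Fintype F] [CharP F 2] {m : ℕ} {k : F} {G : Type*} [Group G] [Finite G] {t x : G}
  {b : (Fin m → F) → (Fin m → F) → G}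

theorem typeC {σ : F ≃+* F} {ρ : SU σ m →* G} {γ : (Fin m → F) → G} (d : Sx σ m) (B : Bd ρ t b γ k 1)
    (ind : ∀ h ∈ 𝐂₁(t), ∃ θ ξ, Sem σ θ ξ ∧ Ind ρ h ξ) (e : Xz ρ t x) :
    ∃ (ι : (Fin m → F) → Fin (m + 1) → KK k) (ε : _) (J : _),
      Jt ρ t (sg k 1 (one_mul 1)) (sg k 1 (one_mul 1)) (algebraMap F (KK k)) (om k) ι ε J ∧
      (∀ i : Fin (m + 1), i.rev ≠ i → ∃ v, ι v = bv i.val) ∧
      ∀ e, (∀ u, hf (sg k 1 (one_mul 1)) e (ι u) = 0) → ∃ z : KK k, hf (sg k 1 (one_mul 1)) e e = z * sg k 1 (one_mul 1) z ∧ (z = 0 → e = 0) := by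
  obtain rfl := d.toSd.one
  have s := sy_of d
  have C : CB ρ t b k := ⟨B.toC0, ⟨B.eqv, fun v c => by simpa using B.self v c, fun u v h => by simpa using B.sym u v h, B.adj,
    fun v n n' h h' => by
      obtain ⟨c, q⟩ := S1.rt (hf 1 n n')
      rw [B.mul v n n' c h h' q, B.w1 rfl, one_mul, q]⟩, fun h i => let ⟨θ, ξ, a, b⟩ := ind h i; ⟨ξ, ⟨θ, a⟩, b⟩, B.tw⟩
  obtain ⟨y, δ, h⟩ := s.xe B.ker e B.cm
  obtain ⟨y, Y, R⟩ := C.ry s h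
  obtain ⟨ι, r, ε, M⟩ := ex_mc s.toSm k
  have : Finite (KK k) := Finite.of_equiv _ (QuadraticAlgebra.equivProd k 1).symm
  obtain ⟨ε, J, j⟩ := M.jt' s C Y R (C.nor s Y R)
  refine ⟨ι, ε, J, j, M.rb, fun e h => ?_⟩
  obtain ⟨z, rfl⟩ := M.perp h
  exact ⟨z, by simp [M.rr, mul_comm], fun h => by simp [h]⟩

end CF.Dq
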